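import Groth.Agent.CycK0.Gysin
import Groth.Agent.P1Div.SubFibre
import Groth.Agent.P1Div.Factor
import Groth.Agent.CycDim.PullSec

/-!
Sections with the same zero scheme and the Gysin map.
-/

set_option autoImplicit false
set_option linter.unusedSectionVars false
set_option linter.style.haveILetI false
set_option backward.isDefEq.respectTransparency false
set_option backward.isDefEq.respectTransparency.types false

universe u

open CategoryTheory CategoryTheory.Limits AlgebraicGeometry TopologicalSpace Opposite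
open Groth.Agent.CDivNormal (genPrime)
open Groth.Agent.WeakAssLib (mgerm)
open Groth.Agent.RefStalk (msp msp_smul msp_germ)
open Groth.Agent.CycDim (spz)
open Groth.Agent.P1Div (stkHom phi)

noncomputable section

namespace Groth.Agent.CycK0

variable {X X' D : Scheme.{u}}

/-- The ideal of the inverse image of a closed subscheme. -/
theorem ker_pullback_fst (f : X' ⟶ X) (i : D ⟶ X) [IsClosedImmersion i] (z : ↥(pullback f i))
    (hw : i ((pullback.snd f i) z) = f ((pullback.fst f i) z)) :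
    RingHom.ker ((pullback.fst f i).stalkMap z).hom =
      (RingHom.ker (stkHom i ((pullback.snd f i) z) hw)).map (f.stalkMap ((pullback.fst f i) z)).hom := by
  let x := (pullback.fst f i) z
  let d := (pullback.snd f i) z
  let J := (RingHom.ker (stkHom i d hw)).map (f.stalkMap x).hom
  have hle : J ≤ RingHom.ker ((pullback.fst f i).stalkMap z).hom := Ideal.map_le_iff_le_comap.2 fun a ha => by
    have h := Scheme.Hom.stalkMap_congr_hom (pullback.fst f i ≫ f) (pullback.snd f i ≫ i) pullback.condition z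
    rw [Scheme.Hom.stalkMap_comp, Scheme.Hom.stalkMap_comp] at h
    refine RingHom.mem_ker.2 ((DFunLike.congr_fun (CommRingCat.hom_ext_iff.mp h) a).trans ?_)
    show ((pullback.snd f i).stalkMap z).hom (stkHom i d hw a) = 0
    rw [RingHom.mem_ker.1 ha, map_zero]
  refine le_antisymm (fun a ha => ?_) hle
  have hJ : J ≠ ⊤ := fun e => RingHom.ker_ne_top _ (top_le_iff.1 (e.symm.le.trans hle))
  let J₀ := J.comap (f.stalkMap x).hom
  obtain ⟨gD, hgD⟩ := P1Div.exists_lift i d (f x) hw J₀ fun b hb =>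
    Ideal.mem_comap.2 (Ideal.mem_map_of_mem _ (RingHom.mem_ker.2 hb))
  let q : (↥(X.presheaf.stalk (f x)) ⧸ J₀) →+* (↥(X'.presheaf.stalk x) ⧸ J) :=
    Ideal.quotientMap J (f.stalkMap x).hom le_rfl
  have hcomm : phi x J ≫ f = (Spec.map (CommRingCat.ofHom q) ≫ gD) ≫ i := by
    rw [Category.assoc, hgD, phi, phi, Category.assoc, ← Scheme.SpecMap_stalkMap_fromSpecStalk,
      ← Spec.map_comp_assoc, ← Spec.map_comp_assoc]
    rfl
  exact P1Div.ker_le (pullback.fst f i) (pullback.fst f i).isClosedEmbedding.injective z J hJ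
    (pullback.lift (phi x J) (Spec.map (CommRingCat.ofHom q) ≫ gD) hcomm) (pullback.lift_fst _ _ _) ha

variable [IsLocallyNoetherian X'] {L : X.Modules} {s : Γ(L, (⊤ : X.Opens))}

/-- The coefficient generates the ideal at a point given by its image. -/
theorem ker_stkHom_eq_span {i : D ⟶ X} [IsClosedImmersion i] (hD : Cyc.IsZeroSchemeOf i L s) (d : D) {y : X}
    (hw : i d = y) {A : X.Opens} {e : Γ(L, A)} (he : TMul.IsGen e) (hy : y ∈ A) {c : X.presheaf.stalk y}
    (hc : mgerm L (show y ∈ (⊤ : X.Opens) from trivial) s = c • mgerm L hy e) :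
    RingHom.ker (stkHom i d hw) = Ideal.span {c} := by
  subst hw
  rw [← ker_eq_span hD d he hy hc]
  refine Ideal.ext fun a => ?_
  simp [stkHom, RingHom.mem_ker, TopCat.Presheaf.stalkSpecializes_refl]

/-- Off the inverse image a section cutting it out and the inverse image of the section have the same divisors
along it. -/
theorem secDivFun_gysinChoice (f : X' ⟶ X) {i : D ⟶ X} [IsClosedImmersion i] (hL : PicF.IsInvertible L)
    (hD : Cyc.IsZeroSchemeOf i L s) {s' : ((Scheme.Modules.pullback f).obj L).presheaf.obj (op ⊤)}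
    (hD' : Cyc.IsZeroSchemeOf (pullback.fst f i) ((Scheme.Modules.pullback f).obj L) s')
    (w : (ξ : X) → Cyc.secFibre L ξ) (w' : (ξ : X') → Cyc.secFibre ((Scheme.Modules.pullback f).obj L) ξ)
    (δ' : X' → ℤ) (ξ : X') (hξ : ξ ∉ Set.range (pullback.fst f i)) (z : ↥(pullback f i)) :
    Cyc.secDivFun δ' ((Scheme.Modules.pullback f).obj L) ξ
        (Cyc.gysinChoice ((Scheme.Modules.pullback f).obj L) s' w' ξ) ((pullback.fst f i) z) =
      Cyc.secDivFun δ' ((Scheme.Modules.pullback f).obj L) ξ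
        (CycSec.secPull f ξ (Cyc.gysinChoice L s w (f ξ))) ((pullback.fst f i) z) := by
  unfold Cyc.secDivFun
  split
  swap
  · rfl
  rename_i h
  obtain ⟨hξz, -⟩ := h
  let x := (pullback.fst f i) z
  have hw : i ((pullback.snd f i) z) = f x := by
    show (pullback.snd f i ≫ i) z = (pullback.fst f i ≫ f) z
    rw [pullback.condition]
  have hfξ : f ξ ∉ Set.range i := fun h => hξ (by rw [Scheme.Pullback.range_fst]; exact h)
  obtain ⟨A, e, hxA, he, c, hc⟩ := exists_coefficient hL s (f x)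
  let L' := (Scheme.Modules.pullback f).obj L
  let e' : Γ(L', f ⁻¹ᵁ A) := CycSec.pe f e
  have he' : TMul.IsGen e' := CycSec.isGen_pe f he
  have hx' : x ∈ f ⁻¹ᵁ A := hxA
  obtain ⟨c', hc'⟩ := (RefDiv.bijective_germ_of_isGen he' hx').2
    (mgerm L' (show x ∈ (⊤ : X'.Opens) from trivial) s')
  replace hc' : mgerm L' (show x ∈ (⊤ : X'.Opens) from trivial) s' = c' • mgerm L' hx' e' := hc'.symm
  let p := (f.stalkMap x).hom c
  -- the two coefficients generate the same ideal
  have hspan : Ideal.span {c'} = Ideal.span {p} := by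
    rw [← ker_eq_span hD' z he' hx' hc', ker_pullback_fst f i z hw]
    have hk : RingHom.ker (stkHom i ((pullback.snd f i) z) hw) = Ideal.span {c} :=
      ker_stkHom_eq_span hD _ hw he hxA hc
    rw [hk, Ideal.map_span, Set.image_singleton]
  obtain ⟨u, hu, hcu⟩ : ∃ u, IsUnit u ∧ c' = p * u := by
    obtain ⟨a, ha⟩ := Ideal.mem_span_singleton'.1 (hspan ▸ Ideal.mem_span_singleton_self c' : c' ∈ Ideal.span {p})
    obtain ⟨b, hb⟩ := Ideal.mem_span_singleton'.1 (hspan.symm ▸ Ideal.mem_span_singleton_self p : p ∈ Ideal.span {c'})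
    by_cases hu : IsUnit a
    · exact ⟨a, hu, by rw [mul_comm, ha]⟩
    · have h1 : IsUnit (1 - b * a) := (IsLocalRing.isUnit_or_isUnit_of_add_one
        (sub_add_cancel 1 (b * a))).resolve_right fun h => hu (isUnit_of_mul_isUnit_right h)
      have h2 : (1 - b * a) * p = 0 := by
        rw [sub_mul, one_mul, mul_assoc, ha, hb, sub_self]
      have h3 : p = 0 := h1.mul_right_eq_zero.1 h2
      exact ⟨1, isUnit_one, by rw [← ha, h3, mul_zero, zero_mul]⟩
  have hξA : f ξ ∈ A := (hξz.map f.continuous).mem_open A.2 hxA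
  have hξA' : ξ ∈ f ⁻¹ᵁ A := hξA
  -- the germs at the generic point
  have hsξ : mgerm L (show f ξ ∈ (⊤ : X.Opens) from trivial) s = spz (hξz.map f.continuous) c • mgerm L hξA e := by
    have h1 := congrArg (msp L (hξz.map f.continuous)) hc
    rw [msp_smul, msp_germ L (hξz.map f.continuous) hxA e] at h1
    exact (msp_germ L _ (show f x ∈ (⊤ : X.Opens) from trivial) s).symm.trans h1
  have hsξ' : mgerm L' (show ξ ∈ (⊤ : X'.Opens) from trivial) s' = spz hξz c' • mgerm L' hξA' e' := by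
    have h1 := congrArg (msp L' hξz) hc'
    rw [msp_smul, msp_germ L' hξz hx' e'] at h1
    exact (msp_germ L' _ (show x ∈ (⊤ : X'.Opens) from trivial) s').symm.trans h1
  have h1 : Cyc.gysinChoice L s w (f ξ) = spz (hξz.map f.continuous) c •
      (Submodule.Quotient.mk (mgerm L hξA e) : Cyc.secFibre L (f ξ)) := by
    rw [← Submodule.Quotient.mk_smul, ← hsξ]
    unfold Cyc.gysinChoice
    exact if_pos fun h => hfξ (by rw [hD.1]; exact h)
  have h2 : Cyc.gysinChoice L' s' w' ξ = spz hξz c' •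
      (Submodule.Quotient.mk (mgerm L' hξA' e') : Cyc.secFibre L' ξ) := by
    rw [← Submodule.Quotient.mk_smul, ← hsξ']
    unfold Cyc.gysinChoice
    exact if_pos fun h => hξ (by rw [hD'.1]; exact h)
  have h3 := CycSec.secPull_eq f e ξ hξA h1
  have hsp : (f.stalkMap ξ).hom (spz (hξz.map f.continuous) c) = spz hξz p :=
    Scheme.Hom.stalkSpecializes_stalkMap_apply f ξ x hξz c
  rw [hsp] at h3
  rw [C1Cap.secOrdAt_eq he' hξz hx' h2, C1Cap.secOrdAt_eq he' hξz hx' h3, hcu, map_mul, map_mul]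
  exact C1Cap.ordAt_mul_unit hξz _ hu

/-- Changing the sections on the zero scheme. -/
theorem gysin_sections {X D : Scheme.{u}} [IsLocallyNoetherian X] (i : D ⟶ X) [IsClosedImmersion i] {δ : X → ℤ}
    (hδ : Cyc.IsDimFun X δ) {L : X.Modules} (hL : PicF.IsInvertible L) {k : ℤ} (α : AlgebraicCycle X ℤ)
    (hα : α ∈ Cyc.Zk X δ (k + 1)) (v v' : (ξ : X) → Cyc.secFibre L ξ) (hv : ∀ ξ, v ξ ≠ 0) (hv' : ∀ ξ, v' ξ ≠ 0)
    (heq : ∀ ξ, ξ ∉ Set.range i → ∀ d, Cyc.secDivFun δ L ξ (v ξ) (i d) = Cyc.secDivFun δ L ξ (v' ξ) (i d))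
    (γ γ' : AlgebraicCycle D ℤ) (h : ∀ d, γ d = Cyc.c1CapFun δ L ⇑α v (i d))
    (h' : ∀ d, γ' d = Cyc.c1CapFun δ L ⇑α v' (i d)) : Cyc.RatEquiv (fun d => δ (i d)) k γ γ' := by
  classical
  haveI : IsLocallyNoetherian D := LocallyOfFiniteType.isLocallyNoetherian i
  let ai : X → ℤ := fun x => if x ∈ Set.range i then α x else 0
  let ao : X → ℤ := fun x => if x ∈ Set.range i then 0 else α x
  have hs : ∀ x, ai x ≠ 0 → x ∈ Set.range i := fun x hx => by_contra fun h => hx (if_neg h)
  obtain ⟨a', ha'⟩ : ∃ a' : AlgebraicCycle D ℤ, ∀ d, a' d = α (i d) :=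
    ⟨{ toFun := fun d => α (i d)
       supportWithinDomain' := Set.subset_univ _
       supportLocallyFiniteWithinDomain' := fun z _ => by
        obtain ⟨t, ht, hfin⟩ := α.supportLocallyFiniteWithinDomain' (i z) trivial
        exact ⟨i ⁻¹' t, i.continuous.continuousAt.preimage_mem_nhds ht,
          (hfin.preimage i.isClosedEmbedding.injective.injOn).subset fun d hd => ⟨hd.1, hd.2⟩⟩ }, fun _ => rfl⟩
  let L' := (Scheme.Modules.pullback i).obj L
  have hL' : PicF.IsInvertible L' := PicLoc.isInvertible_pullback i hL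
  let t := fun d : D => CycSec.secPull i d (v (i d))
  let t' := fun d : D => CycSec.secPull i d (v' (i d))
  have hka : a' ∈ Cyc.Zk D (fun d => δ (i d)) (k + 1) := fun d hd => by rw [ha']; exact hα _ hd
  have hfin : ∀ (a : X → ℤ), (∀ x, a x ≠ 0 → α x ≠ 0) → ∀ x, {ξ : X | ξ ⤳ x ∧ a ξ ≠ 0}.Finite := fun a ha x =>
    (C1Cap.finite_gen α x).subset fun ξ hξ => ⟨hξ.1, ha ξ hξ.2⟩
  have hrestr : ∀ (u : (ξ : X) → Cyc.secFibre L ξ), (∀ ξ, u ξ ≠ 0) → ∀ d,
      Cyc.c1CapFun δ L ai u (i d) =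
        Cyc.c1CapFun (fun d => δ (i d)) L' ⇑a' (fun d => CycSec.secPull i d (u (i d))) d := fun u hu d => by
    rw [c1Cap_closed i hδ hL ai hs u (fun x _ => hu x) d]
    exact congrFun (congrArg (fun a => Cyc.c1CapFun (fun d => δ (i d)) L' a fun d => CycSec.secPull i d (u (i d)))
      (funext fun e => (if_pos ⟨e, rfl⟩ : ai (i e) = α (i e)).trans (ha' e).symm)) d
  have hout : ∀ d, Cyc.c1CapFun δ L ao v (i d) = Cyc.c1CapFun δ L ao v' (i d) := fun d =>
    finsum_congr fun ξ => by
      by_cases hξ : ξ ∈ Set.range i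
      · simp only [show ao ξ = 0 from if_pos hξ, zero_mul]
      · rw [heq ξ hξ d]
  have hsplit : ∀ (u : (ξ : X) → Cyc.secFibre L ξ) (d : D), Cyc.c1CapFun δ L ai u (i d) =
      Cyc.c1CapFun δ L ⇑α u (i d) - Cyc.c1CapFun δ L ao u (i d) := fun u d =>
    c1CapFun_sub_apply (fun x => by simp only [ai, ao]; split <;> simp)
      (hfin _ (fun x h => h) _) (hfin _ (fun x h h0 => h (by simp [ao, h0])) _)
  obtain ⟨c, hc⟩ := exists_cycle_affine (fun d => Cyc.c1CapFun (fun d => δ (i d)) L' ⇑a' t d) fun {U} hU =>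
    ((cycle_finite_affine a' hU).biUnion fun ξ _ => CycSec.finite_secDivFun
      (CycPush.isDimFun_closedImmersion i hδ) hL' ξ (CycSec.secPull_ne_zero i hL ξ (hv (i ξ))) hU).subset fun x hx => by
      obtain ⟨ξ, hξ⟩ : ∃ ξ, a' ξ * Cyc.secDivFun (fun d => δ (i d)) L' ξ (t ξ) x ≠ 0 := by
        by_contra! h
        exact hx.2 (finsum_eq_zero_of_forall_eq_zero h)
      exact Set.mem_biUnion ⟨(CycSec.secDivFun_support (right_ne_zero_of_mul hξ)).1.mem_open U.2 hx.1,
        left_ne_zero_of_mul hξ⟩ ⟨hx.1, right_ne_zero_of_mul hξ⟩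
  obtain ⟨c', hc'⟩ : ∃ c' : AlgebraicCycle D ℤ, c' = c - (γ - γ') := ⟨_, rfl⟩
  have hc'f : ⇑c' = Cyc.c1CapFun (fun d => δ (i d)) L' ⇑a' t' := funext fun d => by
    rw [hc']
    show c d - (γ d - γ' d) = _
    rw [hc]
    show Cyc.c1CapFun (fun d => δ (i d)) L' ⇑a' t d - _ = Cyc.c1CapFun (fun d => δ (i d)) L' ⇑a' t' d
    simp only [t, t']
    rw [h, h', ← hrestr v hv d, ← hrestr v' hv' d, hsplit v d, hsplit v' d, hout d]
    ring
  have hr := C1Cap.ratEquiv_cap (fun d => δ (i d)) hL' k a' hka t t'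
    (fun d _ => CycSec.secPull_ne_zero i hL d (hv _)) (fun d _ => CycSec.secPull_ne_zero i hL d (hv' _)) c c' hc hc'f
  show Cyc.RatEquivZero (fun d => δ (i d)) k (γ - γ')
  have e : γ - γ' = c - c' := by rw [hc']; abel
  rw [e]
  exact hr

end Groth.Agent.CycK0
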