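import Groth.Agent.CycK0.Twist
import Groth.Agent.QC.Pullback
import Groth.Agent.C1Cap.Gysin

/-!
Modules killed by the ideal of a closed subscheme and their restriction to it.
-/

set_option autoImplicit false
set_option linter.unusedSectionVars false
set_option linter.style.haveILetI false
set_option backward.isDefEq.respectTransparency false
set_option backward.isDefEq.respectTransparency.types false

universe u

open CategoryTheory CategoryTheory.Limits AlgebraicGeometry TopologicalSpace Opposite
open Groth.Agent.K0Dev (St)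
open scoped TensorProduct

noncomputable section

namespace Groth.Agent.CycK0

variable {X D : Scheme.{u}}

/-- Short exactness is checked on stalks. -/
theorem shortExact_of_stalks (S : ShortComplex X.Modules) (h : ∀ x, (S.map (St x)).ShortExact) : S.ShortExact := by
  haveI : Mono S.f := Preadditive.mono_of_isZero_kernel _ ((K0Dev.isZero_iff_stalks _).2 fun x => by
    haveI : Mono ((St x).map S.f) := (h x).mono_f
    exact IsZero.of_mono_eq_zero ((St x).map (kernel.ι S.f)) ((cancel_mono ((St x).map S.f)).1
      (by rw [← Functor.map_comp, kernel.condition, Functor.map_zero, zero_comp])))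
  haveI : Epi S.g := Preadditive.epi_of_isZero_cokernel _ ((K0Dev.isZero_iff_stalks _).2 fun x => by
    haveI : Epi ((St x).map S.g) := (h x).epi_g
    exact IsZero.of_epi_eq_zero ((St x).map (cokernel.π S.g)) ((cancel_epi ((St x).map S.g)).1
      (by rw [← Functor.map_comp, cokernel.condition, Functor.map_zero, comp_zero])))
  refine { exact := ?_ }
  rw [ShortComplex.exact_iff_isZero_homology, K0Dev.isZero_iff_stalks]
  exact fun x => ((ShortComplex.exact_iff_isZero_homology _).1 (h x).exact).of_iso (S.mapHomologyIso (St x)).symm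

variable (i : D ⟶ X) [IsClosedImmersion i]

/-- The module is supported on the closed subscheme and killed by its ideal. -/
def Killed (M : X.Modules) : Prop :=
  (∀ x, x ∉ Set.range i → IsZero ((St x).obj M)) ∧
    ∀ d, ∀ a ∈ RingHom.ker (i.stalkMap d).hom, ∀ m : M.presheaf.stalk (i d), a • m = 0

variable {i}

lemma Killed.of_mono {M N : X.Modules} (φ : M ⟶ N) [Mono φ] (h : Killed i N) : Killed i M :=
  ⟨fun x hx => IsZero.of_mono ((St x).map φ) (h.1 x hx), fun d a ha m =>
    (ModuleCat.mono_iff_injective ((St (i d)).map φ)).1 inferInstance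
      ((map_smul ((St (i d)).map φ).hom a m).trans ((h.2 d a ha _).trans (map_zero _).symm))⟩

lemma Killed.of_epi {M N : X.Modules} (φ : M ⟶ N) [Epi φ] (h : Killed i M) : Killed i N :=
  ⟨fun x hx => IsZero.of_epi ((St x).map φ) (h.1 x hx), fun d a ha m => by
    obtain ⟨m, rfl⟩ := (ModuleCat.epi_iff_surjective ((St (i d)).map φ)).1 inferInstance m
    exact (map_smul ((St (i d)).map φ).hom a m).symm.trans ((congrArg _ (h.2 d a ha m)).trans (map_zero _))⟩

variable (i)

/-- The comparison of a stalk with the stalk of the inverse image. -/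
def eta (d : D) :
    St (i d) ⟶ Scheme.Modules.pullback i ⋙ St d ⋙ ModuleCat.restrictScalars (i.stalkMap d).hom :=
  Functor.whiskerLeft (St (i d)) (ModuleCat.extendRestrictScalarsAdj.{u} (i.stalkMap d).hom).unit ≫
    Functor.whiskerRight (KFlat.pullStalkIso i d).inv (ModuleCat.restrictScalars (i.stalkMap d).hom)

lemma eta_apply (d : D) (M : X.Modules) (m : M.presheaf.stalk (i d)) :
    ((eta i d).app M).hom m = ((KFlat.pullStalkIso i d).inv.app M).hom
      ((ModuleCat.extendRestrictScalarsAdj.{u} (i.stalkMap d).hom).unit.app ((St (i d)).obj M) m) :=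
  rfl

/-- On killed modules the comparison is bijective. -/
theorem eta_bijective {M : X.Modules} (h : Killed i M) (d : D) : Function.Bijective ((eta i d).app M).hom := by
  let φ := (i.stalkMap d).hom
  letI := φ.toAlgebra
  let I := RingHom.ker φ
  let e : (X.presheaf.stalk (i d) ⧸ I) ≃ₗ[X.presheaf.stalk (i d)] D.presheaf.stalk d :=
    (Submodule.quotEquivOfEq _ _ rfl).trans
      (LinearMap.quotKerEquivOfSurjective (Algebra.linearMap (X.presheaf.stalk (i d)) (D.presheaf.stalk d))
        (i.stalkMap_surjective d))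
  let E := (LinearEquiv.rTensor (M.presheaf.stalk (i d)) e.symm).trans
    (TensorProduct.quotTensorEquivQuotSMul (M.presheaf.stalk (i d)) I)
  have he : e.symm (1 : D.presheaf.stalk d) = Ideal.Quotient.mk I 1 := e.symm_apply_eq.2 (map_one φ).symm
  have hE : ∀ m, E ((1 : D.presheaf.stalk d) ⊗ₜ m) = Submodule.Quotient.mk m := fun m => by
    show TensorProduct.quotTensorEquivQuotSMul _ I (e.symm 1 ⊗ₜ m) = _
    rw [he, TensorProduct.quotTensorEquivQuotSMul_mk_tmul, one_smul]
  have hbot : (I • ⊤ : Submodule (X.presheaf.stalk (i d)) (M.presheaf.stalk (i d))) = ⊥ :=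
    eq_bot_iff.2 (Submodule.smul_le.2 fun a ha m _ => (Submodule.mem_bot _).2 (h.2 d a ha m))
  have hu : Function.Bijective
      (fun m : M.presheaf.stalk (i d) => ((1 : D.presheaf.stalk d) ⊗ₜ[X.presheaf.stalk (i d)] m)) := by
    refine ⟨fun a b hab => ?_, fun z => ?_⟩
    · have h1 := (hE a).symm.trans ((congrArg E hab).trans (hE b))
      rw [Submodule.Quotient.eq, hbot, Submodule.mem_bot, sub_eq_zero] at h1
      exact h1
    · obtain ⟨m, hm⟩ := Submodule.Quotient.mk_surjective _ (E z)
      exact ⟨m, E.injective ((hE m).trans hm)⟩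
  exact (((KFlat.pullStalkIso i d).app M).symm.toLinearEquiv).bijective.comp hu

/-- Inverse images of short exact sequences of killed modules are short exact. -/
theorem shortExact_pullback {S : ShortComplex X.Modules} (hS : S.ShortExact) (h₁ : Killed i S.X₁)
    (h₂ : Killed i S.X₂) (h₃ : Killed i S.X₃) : (S.map (Scheme.Modules.pullback i)).ShortExact := by
  refine shortExact_of_stalks _ fun d => ?_
  have hx := hS.map_of_exact (St (i d))
  haveI := hx.mono_f
  haveI := hx.epi_g
  have n1 : ∀ m, ((eta i d).app S.X₂).hom (((St (i d)).map S.f).hom m) =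
      ((St d).map ((Scheme.Modules.pullback i).map S.f)).hom (((eta i d).app S.X₁).hom m) :=
    fun m => ConcreteCategory.congr_hom ((eta i d).naturality S.f) m
  have n2 : ∀ m, ((eta i d).app S.X₃).hom (((St (i d)).map S.g).hom m) =
      ((St d).map ((Scheme.Modules.pullback i).map S.g)).hom (((eta i d).app S.X₂).hom m) :=
    fun m => ConcreteCategory.congr_hom ((eta i d).naturality S.g) m
  have hinj : Function.Injective ((St (i d)).map S.f).hom := (ModuleCat.mono_iff_injective (S.map (St (i d))).f).1 inferInstance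
  have hsurj : Function.Surjective ((St (i d)).map S.g).hom :=
    (ModuleCat.epi_iff_surjective (S.map (St (i d))).g).1 inferInstance
  refine { exact := ?_, mono_f := (ModuleCat.mono_iff_injective _).2 fun a b hab => ?_,
           epi_g := (ModuleCat.epi_iff_surjective _).2 fun z => ?_ }
  · rw [ShortComplex.moduleCat_exact_iff]
    intro z hz
    obtain ⟨m, rfl⟩ := (eta_bijective i h₂ d).2 z
    obtain ⟨m', hm'⟩ := (ShortComplex.moduleCat_exact_iff _).1 hx.exact m
      ((eta_bijective i h₃ d).1 ((n2 m).trans (hz.trans (map_zero ((eta i d).app S.X₃).hom).symm)))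
    exact ⟨((eta i d).app S.X₁).hom m', (n1 m').symm.trans (congrArg ((eta i d).app S.X₂).hom hm')⟩
  · obtain ⟨a, rfl⟩ := (eta_bijective i h₁ d).2 a
    obtain ⟨b, rfl⟩ := (eta_bijective i h₁ d).2 b
    exact congrArg _ (hinj ((eta_bijective i h₂ d).1 ((n1 a).trans (hab.trans (n1 b).symm))))
  · obtain ⟨m, rfl⟩ := (eta_bijective i h₃ d).2 z
    obtain ⟨m', rfl⟩ := hsurj m
    exact ⟨((eta i d).app S.X₂).hom m', (n2 m').symm⟩

/-- Lengths. -/
theorem sheafFun_pullback {M : X.Modules} (h : Killed i M) (δ : X → ℤ) (k : ℤ) (d : D) :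
    Cyc.sheafFun (fun d => δ (i d)) k ((Scheme.Modules.pullback i).obj M) d = Cyc.sheafFun δ k M (i d) := by
  simp only [Cyc.sheafFun]
  split
  · let σ : X.presheaf.stalk (i d) →+* D.presheaf.stalk d := (i.stalkMap d).hom
    haveI : RingHomSurjective σ := ⟨i.stalkMap_surjective d⟩
    let f : M.presheaf.stalk (i d) →ₛₗ[σ] ((Scheme.Modules.pullback i).obj M).presheaf.stalk d :=
      { toFun := fun m => ((eta i d).app M).hom m
        map_add' := fun a b => map_add ((eta i d).app M).hom a b
        map_smul' := fun r m => map_smul ((eta i d).app M).hom r m }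
    refine congrArg (fun n : ℕ∞ => ((n.toNat : ℕ) : ℤ)) ?_
    rw [Module.length, Module.length, WithBot.unbot_inj,
      Order.krullDim_eq_of_orderIso (Submodule.orderIsoMapComapOfBijective f (eta_bijective i h d))]
  · rfl

lemma isZero_pullback_st (M : X.Modules) (d : D) (h : IsZero ((St (i d)).obj M)) :
    IsZero ((St d).obj ((Scheme.Modules.pullback i).obj M)) :=
  ((ModuleCat.extendScalars.{u, u, u} (i.stalkMap d).hom).map_isZero h).of_iso ((KFlat.pullStalkIso i d).app M)

/-- Inverse images of bounded coherent modules are bounded. -/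
theorem cohLe_pullback [IsLocallyNoetherian X] {δ : X → ℤ} {k : ℤ} {M : X.Modules} (hM : Cyc.CohLe δ k M) :
    Cyc.CohLe (fun d => δ (i d)) k ((Scheme.Modules.pullback i).obj M) :=
  haveI : IsLocallyNoetherian D := LocallyOfFiniteType.isLocallyNoetherian i
  (cohLe_iff _ k).2 ⟨QC.isCoh_pullback i hM.1, fun d hd =>
    isZero_pullback_st i M d (((cohLe_iff δ k).1 hM).2 (i d) hd)⟩

end Groth.Agent.CycK0
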