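import Groth.Agent.CycK0.Change
import Groth.Agent.CycDim.RatBasic

/-!
The rational equivalence class attached to a class in `K₀(Coh_{≤k+1}/Coh_{≤k-1})`.
-/

set_option autoImplicit false
set_option linter.unusedSectionVars false
set_option linter.style.haveILetI false
set_option backward.isDefEq.respectTransparency false

universe u

open CategoryTheory CategoryTheory.Limits AlgebraicGeometry TopologicalSpace
open Groth.Agent.K0Dev (St)
open Groth.Agent.CDivNormal (genPrime)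
open Groth.Agent.RefStalk (msp)
open Groth.Agent.CycDim (spz)

noncomputable section

namespace Groth.Agent.CycK0

variable {X : Scheme.{u}} {δ : X → ℤ} {k : ℤ}

/-! ### Sums of principal divisors -/

/-- A locally finite sum of principal divisors. -/
def RatFun (δ : X → ℤ) (k : ℤ) (a : X → ℤ) : Prop :=
  ∃ (ι : Type u) (ξ : ι → X) (f : (i : ι) → X.residueField (ξ i)),
    (∀ i, δ (ξ i) = k + 1) ∧ (∀ i, f i ≠ 0) ∧
    (∀ x : X, ∃ U : Set X, IsOpen U ∧ x ∈ U ∧ {i | (closure {ξ i} ∩ U).Nonempty}.Finite) ∧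
    ∀ x : X, a x = ∑ᶠ i, Cyc.divFun δ (ξ i) (f i) x

lemma RatFun.neg {a : X → ℤ} (h : RatFun δ k a) : RatFun δ k (-a) := by
  obtain ⟨ι, ξ, f, h1, h2, h3, h4⟩ := h
  refine ⟨ι, ξ, fun i => (f i)⁻¹, h1, fun i => inv_ne_zero (h2 i), h3, fun x => ?_⟩
  rw [Pi.neg_apply, h4 x, ← finsum_neg_distrib]
  refine finsum_congr fun i => ?_
  unfold Cyc.divFun
  split
  · next h => rw [C1Cap.ordAt_inv _ (h2 i)]
  · rw [neg_zero]

lemma RatFun.add {a b : X → ℤ} (ha : RatFun δ k a) (hb : RatFun δ k b) : RatFun δ k (a + b) := by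
  obtain ⟨ι, ξ, f, h1, h2, h3, h4⟩ := ha
  obtain ⟨κ, ζ, g, g1, g2, g3, g4⟩ := hb
  let F : (i : ι ⊕ κ) → X.residueField (Sum.elim ξ ζ i) := fun
    | .inl i => f i
    | .inr i => g i
  refine ⟨ι ⊕ κ, Sum.elim ξ ζ, F, fun i => by cases i <;> simp [h1, g1],
    fun i => by cases i <;> simp [F, h2, g2], fun x => ?_, fun x => ?_⟩
  · obtain ⟨U, hU, hxU, hUf⟩ := h3 x
    obtain ⟨V, hV, hxV, hVf⟩ := g3 x
    refine ⟨U ∩ V, hU.inter hV, ⟨hxU, hxV⟩, ((hUf.image Sum.inl).union (hVf.image Sum.inr)).subset ?_⟩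
    rintro (i | i) ⟨z, hz, hzU, hzV⟩
    · exact Or.inl ⟨i, ⟨z, hz, hzU⟩, rfl⟩
    · exact Or.inr ⟨i, ⟨z, hz, hzV⟩, rfl⟩
  · have hfα := CycRat.finite_at (δ := δ) ξ f h3 x
    have hfβ := CycRat.finite_at (δ := δ) ζ g g3 x
    classical
    rw [Pi.add_apply, h4 x, g4 x, finsum_eq_sum_of_support_subset _ (s := hfα.toFinset) (by simp),
      finsum_eq_sum_of_support_subset _ (s := hfβ.toFinset) (by simp),
      finsum_eq_sum_of_support_subset _ (s := hfα.toFinset.disjSum hfβ.toFinset) ?_, Finset.sum_disjSum]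
    · rfl
    · rintro (i | i) hi
      · exact Finset.mem_coe.2 (Finset.inl_mem_disjSum.2 (hfα.mem_toFinset.2 hi))
      · exact Finset.mem_coe.2 (Finset.inr_mem_disjSum.2 (hfβ.mem_toFinset.2 hi))

/-- The subgroup of sums of principal divisors. -/
def ratSub (δ : X → ℤ) (k : ℤ) : AddSubgroup (X → ℤ) where
  carrier := {a | RatFun δ k a}
  zero_mem' := ⟨PEmpty, fun i => i.elim, fun i => i.elim, fun i => i.elim, fun i => i.elim,
    fun _ => ⟨Set.univ, isOpen_univ, trivial, Set.toFinite _⟩, fun _ => (finsum_of_isEmpty _).symm⟩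
  add_mem' := RatFun.add
  neg_mem' := RatFun.neg

variable [IsLocallyNoetherian X]

/-- Two frames give indices differing by divisors. -/
theorem sub_mem_ratSub (hδ : Cyc.IsDimFun X δ) {G : X.Modules} (hG : TopRed δ k G) (β β' : Frame δ k G) :
    idxAt β - idxAt β' ∈ ratSub δ k := by
  classical
  haveI := hG.1.1.1
  let ι : Type u := {ξ : TopPt δ k // rk G ξ.1 ≠ 0}
  refine ⟨ι, fun i => i.1.1, fun i => (show X.residueField i.1.1 from transDet β β' i.1), fun i => i.1.2,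
    fun i => transDet_ne_zero β β' i.1, fun x => ?_, fun x => ?_⟩
  · obtain ⟨U, hU, hxU, -⟩ := exists_isAffineOpen_mem_and_subset (x := x) (U := (⊤ : X.Opens)) trivial
    have hinj : Function.Injective fun i : ι => i.1.1 := Subtype.val_injective.comp Subtype.val_injective
    refine ⟨U, U.2, hxU, ((finite_top hδ (QC.isClosed_support hG.1.1.2)
      (fun y hy => hG.1.2 y (not_subsingleton_iff_nontrivial.1 hy)) hU).preimage hinj.injOn).subset ?_⟩
    rintro i ⟨y, hy, hyU⟩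
    refine ⟨(specializes_iff_mem_closure.2 hy).mem_open U.2 hyU, fun hs => i.2 ?_, i.1.2⟩
    rw [rk, (Module.length_eq_zero_iff (R := X.presheaf.stalk i.1.1)).2 hs]
    rfl
  · by_cases hx : δ x = k
    swap
    · rw [Pi.sub_apply, idxAt_of_ne β hx, idxAt_of_ne β' hx, sub_zero]
      refine (finsum_eq_zero_of_forall_eq_zero fun i => dif_neg fun h => hx ?_).symm
      have := i.1.2
      have h2 : δ x + 1 = δ i.1.1 := h.2
      omega
    rw [Pi.sub_apply, idxAt_change hδ hG β β' hx, sub_sub_cancel]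
    let T := branches hδ hG.1 x
    let emb : T → ι := fun ξ => ⟨ξ.1.1, (mem_branches hδ hG.1 ξ.1).1 ξ.2⟩
    rw [finsum_eq_sum_of_support_subset _ (s := Finset.univ.image emb) fun i hi => ?_,
      Finset.sum_image fun a _ b _ hab => Subtype.ext (Subtype.ext (Subtype.mk.inj hab)), ← Finset.sum_coe_sort T]
    · refine Finset.sum_congr rfl fun ξ _ => ?_
      show _ = Cyc.divFun δ ξ.1.1.1 _ x
      rw [Cyc.divFun, dif_pos ⟨ξ.1.2, by rw [ξ.1.1.2, hx]⟩]
    · rw [Finset.coe_image]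
      have h1 := (CycDeg.divFun_delta hi).1
      exact ⟨⟨⟨i.1, h1⟩, (mem_branches hδ hG.1 _).2 i.2⟩, Finset.mem_coe.2 (Finset.mem_univ _), rfl⟩

/-- The class of the index. -/
def phiG (δ : X → ℤ) (k : ℤ) (G : X.Modules) : (X → ℤ) ⧸ ratSub δ k := by
  classical
  exact if h : Nonempty (Frame δ k G) then QuotientAddGroup.mk (idxAt h.some) else 0

lemma phiG_eq (hδ : Cyc.IsDimFun X δ) {G : X.Modules} (hG : TopRed δ k G) (β : Frame δ k G) :
    phiG δ k G = QuotientAddGroup.mk (idxAt β) := by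
  rw [phiG, dif_pos ⟨β⟩, QuotientAddGroup.eq_iff_sub_mem]
  exact sub_mem_ratSub hδ hG _ _

lemma rk_eq_zero (hδ : Cyc.IsDimFun X δ) {G : X.Modules} (hG : Cyc.CohLe δ k G) (ξ : TopPt δ k) : rk G ξ.1 = 0 := by
  haveI := ModuleCat.subsingleton_of_isZero (((cohLe_iff δ k).1 hG).2 ξ.1 (by rw [ξ.2]; omega))
  rw [rk, (Module.length_eq_zero_iff (R := X.presheaf.stalk ξ.1)).2 (inferInstanceAs (Subsingleton ((St ξ.1).obj G)))]
  rfl

lemma topRed_of_le {G : X.Modules} (hG : Cyc.CohLe δ k G) : TopRed δ k G :=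
  ⟨⟨hG.1, fun x hx => (hG.2 x hx).trans (by omega)⟩, fun x hx a _ m => by
    haveI : Subsingleton (G.presheaf.stalk x) := not_nontrivial_iff_subsingleton.1 fun hn => by
      have := hG.2 x hn; omega
    exact Subsingleton.elim _ _⟩

/-- On modules of dimension `≤ k` the index is the cycle. -/
theorem phiG_of_le (hδ : Cyc.IsDimFun X δ) {G : X.Modules} (hG : Cyc.CohLe δ k G) :
    phiG δ k G = QuotientAddGroup.mk (Cyc.sheafFun δ k G) := by
  obtain ⟨β⟩ := nonempty_frame hδ (topRed_of_le hG)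
  rw [phiG_eq hδ (topRed_of_le hG) β]
  refine congrArg QuotientAddGroup.mk (funext fun x => ?_)
  by_cases hx : δ x = k
  swap
  · rw [idxAt_of_ne β hx, Cyc.sheafFun, if_neg hx]
  rw [Cyc.sheafFun, if_pos hx]
  obtain ⟨s, φ, hφ, -, -⟩ := exists_adm hδ (topRed_of_le hG) β x (L := PEmpty) PEmpty.elim (fun l => l.elim)
    (P := PEmpty) PEmpty.elim
  haveI : IsEmpty (Cmp δ k G x) := ⟨fun j => (rk_eq_zero hδ hG j.1.1 ▸ j.2 : Fin 0).elim0⟩
  rw [idxAt_eq hδ (topRed_of_le hG) hx hφ, idxMap_of_subsingleton, idxMap_of_subsingleton,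
    Module.length_eq_zero (M := Lat δ k G x), ENat.toNat_zero, Nat.cast_zero, sub_zero]

/-! ### Additivity -/

/-- The map on stalks. -/
abbrev stm {A B : X.Modules} (f : A ⟶ B) (x : X) : A.presheaf.stalk x →ₗ[X.presheaf.stalk x] B.presheaf.stalk x :=
  ((St x).map f).hom

lemma rk_add (hδ : Cyc.IsDimFun X δ) {S : ShortComplex X.Modules} (hS : S.ShortExact) (h₁ : Cyc.CohLe δ (k + 1) S.X₁)
    (h₂ : Cyc.CohLe δ (k + 1) S.X₂) (h₃ : Cyc.CohLe δ (k + 1) S.X₃) (ξ : TopPt δ k) :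
    rk S.X₂ ξ.1 = rk S.X₁ ξ.1 + rk S.X₃ ξ.1 := by
  have h := hS.map_of_exact (St ξ.1)
  haveI := h.mono_f
  haveI := h.epi_g
  have e : Module.length (X.presheaf.stalk ξ.1) (S.X₂.presheaf.stalk ξ.1) =
      Module.length (X.presheaf.stalk ξ.1) (S.X₁.presheaf.stalk ξ.1) +
        Module.length (X.presheaf.stalk ξ.1) (S.X₃.presheaf.stalk ξ.1) :=
    Module.length_eq_add_of_exact _ _ ((ModuleCat.mono_iff_injective (S.map (St ξ.1)).f).1 inferInstance)
      ((ModuleCat.epi_iff_surjective (S.map (St ξ.1)).g).1 inferInstance)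
      (LinearMap.exact_iff.2 ((ShortComplex.moduleCat_exact_iff_range_eq_ker _).1 h.exact).symm)
  rw [rk, e, ENat.toNat_add (length_ne_top hδ h₁ ξ.2) (length_ne_top hδ h₃ ξ.2)]
  rfl

lemma exists_adapted (hδ : Cyc.IsDimFun X δ) {S : ShortComplex X.Modules} (hS : S.ShortExact)
    (h₁ : TopRed δ k S.X₁) (h₂ : TopRed δ k S.X₂) (h₃ : TopRed δ k S.X₃)
    (β₁ : Frame δ k S.X₁) (β₃ : Frame δ k S.X₃) :
    ∃ (β₂ : Frame δ k S.X₂) (e : ∀ ξ : TopPt δ k, Fin (rk S.X₂ ξ.1) ≃ Fin (rk S.X₁ ξ.1) ⊕ Fin (rk S.X₃ ξ.1)),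
      (∀ (ξ : TopPt δ k) (m : S.X₁.presheaf.stalk ξ.1) i, β₂ ξ (stm S.f ξ.1 m) i = Sum.elim (β₁ ξ m) 0 (e ξ i)) ∧
      ∀ (ξ : TopPt δ k) (m : S.X₂.presheaf.stalk ξ.1) l,
        β₃ ξ (stm S.g ξ.1 m) l = β₂ ξ m ((e ξ).symm (Sum.inr l)) := by
  obtain ⟨γ⟩ := nonempty_frame hδ h₂
  let e : ∀ ξ : TopPt δ k, Fin (rk S.X₂ ξ.1) ≃ Fin (rk S.X₁ ξ.1) ⊕ Fin (rk S.X₃ ξ.1) := fun ξ =>
    (finCongr (rk_add hδ hS h₁.1 h₂.1 h₃.1 ξ)).trans finSumFinEquiv.symm
  have main : ∀ ξ : TopPt δ k, ∃ b : S.X₂.presheaf.stalk ξ.1 ≃ₗ[X.presheaf.stalk ξ.1] (Fin (rk S.X₂ ξ.1) → Kap ξ.1),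
      (∀ (m : S.X₁.presheaf.stalk ξ.1) i, b (stm S.f ξ.1 m) i = Sum.elim (β₁ ξ m) 0 (e ξ i)) ∧
      ∀ (m : S.X₂.presheaf.stalk ξ.1) l, β₃ ξ (stm S.g ξ.1 m) l = b m ((e ξ).symm (Sum.inr l)) := by
    intro ξ
    have h := hS.map_of_exact (St ξ.1)
    haveI := h.mono_f
    haveI := h.epi_g
    let f : S.X₁.presheaf.stalk ξ.1 →ₗ[X.presheaf.stalk ξ.1] S.X₂.presheaf.stalk ξ.1 := ((St ξ.1).map S.f).hom
    let g : S.X₂.presheaf.stalk ξ.1 →ₗ[X.presheaf.stalk ξ.1] S.X₃.presheaf.stalk ξ.1 := ((St ξ.1).map S.g).hom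
    have hf : Function.Injective f := (ModuleCat.mono_iff_injective (S.map (St ξ.1)).f).1 inferInstance
    have hg : Function.Surjective g := (ModuleCat.epi_iff_surjective (S.map (St ξ.1)).g).1 inferInstance
    have hfg : LinearMap.range f = LinearMap.ker g := (ShortComplex.moduleCat_exact_iff_range_eq_ker _).1 h.exact
    let f' : (Fin (rk S.X₁ ξ.1) → Kap ξ.1) →ₗ[X.presheaf.stalk ξ.1] (Fin (rk S.X₂ ξ.1) → Kap ξ.1) :=
      (γ ξ).toLinearMap ∘ₗ f ∘ₗ (β₁ ξ).symm.toLinearMap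
    let fK := LinearMap.extendScalarsOfSurjective (R := X.presheaf.stalk ξ.1) (S := Kap ξ.1)
      IsLocalRing.residue_surjective f'
    obtain ⟨r, hr⟩ := fK.exists_leftInverse_of_injective
      (LinearMap.ker_eq_bot.2 ((γ ξ).injective.comp (hf.comp (β₁ ξ).symm.injective)))
    let L : S.X₂.presheaf.stalk ξ.1 →ₗ[X.presheaf.stalk ξ.1] (Fin (rk S.X₁ ξ.1) → Kap ξ.1) :=
      (r.restrictScalars (X.presheaf.stalk ξ.1)) ∘ₗ (γ ξ).toLinearMap
    have hL : ∀ m, L (f m) = β₁ ξ m := fun m => by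
      have := LinearMap.congr_fun hr (β₁ ξ m)
      simpa [fK, f', L] using this
    let b : S.X₂.presheaf.stalk ξ.1 →ₗ[X.presheaf.stalk ξ.1] (Fin (rk S.X₂ ξ.1) → Kap ξ.1) :=
      { toFun := fun m i => Sum.elim (L m) (β₃ ξ (g m)) (e ξ i)
        map_add' := fun m m' => funext fun i => by
          rcases hi : e ξ i with j | j <;> simp [hi]
        map_smul' := fun a m => funext fun i => by
          rcases hi : e ξ i with j | j <;> simp [hi] }
    have hb : Function.Bijective b := by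
      refine ⟨(injective_iff_map_eq_zero _).2 fun m hm => ?_, fun v => ?_⟩
      · have hgm : g m = 0 := (β₃ ξ).injective (by
          rw [map_zero]
          exact funext fun l => by simpa [b] using congrFun hm ((e ξ).symm (Sum.inr l)))
        obtain ⟨m', rfl⟩ : m ∈ LinearMap.range f := hfg ▸ LinearMap.mem_ker.2 hgm
        have : β₁ ξ m' = 0 := by
          rw [← hL]
          exact funext fun l => by simpa [b] using congrFun hm ((e ξ).symm (Sum.inl l))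
        rw [(β₁ ξ).map_eq_zero_iff.1 this, map_zero]
      · obtain ⟨m, hm⟩ := hg ((β₃ ξ).symm fun l => v ((e ξ).symm (Sum.inr l)))
        let m' := (β₁ ξ).symm ((fun l => v ((e ξ).symm (Sum.inl l))) - L m)
        refine ⟨f m' + m, funext fun i => ?_⟩
        have h1 : L (f m' + m) = fun l => v ((e ξ).symm (Sum.inl l)) := by
          rw [map_add, hL, LinearEquiv.apply_symm_apply, sub_add_cancel]
        have h2 : g (f m' + m) = g m := by
          rw [map_add, LinearMap.mem_ker.1 (hfg ▸ LinearMap.mem_range_self f m'), zero_add]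
        show Sum.elim (L (f m' + m)) (β₃ ξ (g (f m' + m))) (e ξ i) = v i
        rw [h1, h2, hm, LinearEquiv.apply_symm_apply]
        obtain ⟨q, rfl⟩ := (e ξ).symm.surjective i
        rw [Equiv.apply_symm_apply]
        rcases q with j | j <;> rfl
    refine ⟨LinearEquiv.ofBijective b hb, fun m i => ?_, fun m l => ?_⟩
    · show Sum.elim (L (f m)) (β₃ ξ (g (f m))) (e ξ i) = _
      rw [hL, LinearMap.mem_ker.1 (hfg ▸ LinearMap.mem_range_self f m), map_zero]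
    · show _ = Sum.elim (L m) (β₃ ξ (g m)) (e ξ ((e ξ).symm (Sum.inr l)))
      rw [Equiv.apply_symm_apply]
      rfl
  choose b hb1 hb2 using main
  exact ⟨b, e, hb1, hb2⟩

set_option maxHeartbeats 1000000 in
/-- The index is additive. -/
theorem phiG_add (hδ : Cyc.IsDimFun X δ) {S : ShortComplex X.Modules} (hS : S.ShortExact)
    (h₁ : TopRed δ k S.X₁) (h₂ : TopRed δ k S.X₂) (h₃ : TopRed δ k S.X₃) :
    phiG δ k S.X₂ = phiG δ k S.X₁ + phiG δ k S.X₃ := by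
  classical
  obtain ⟨β₁⟩ := nonempty_frame hδ h₁
  obtain ⟨β₃⟩ := nonempty_frame hδ h₃
  obtain ⟨β₂, e, he1, he2⟩ := exists_adapted hδ hS h₁ h₂ h₃ β₁ β₃
  rw [phiG_eq hδ h₁ β₁, phiG_eq hδ h₂ β₂, phiG_eq hδ h₃ β₃, ← QuotientAddGroup.mk_add]
  refine congrArg QuotientAddGroup.mk (funext fun x => ?_)
  rw [Pi.add_apply]
  by_cases hx : δ x = k
  swap
  · rw [idxAt_of_ne β₁ hx, idxAt_of_ne β₂ hx, idxAt_of_ne β₃ hx, add_zero]
  haveI := finite_cmp hδ h₁.1 x
  haveI := finite_cmp hδ h₂.1 x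
  haveI := finite_cmp hδ h₃.1 x
  -- a common denominator
  obtain ⟨s₁, φ₁, hφ₁, hs₁, -⟩ := exists_adm hδ h₁ β₁ x (L := PEmpty) PEmpty.elim (fun l => l.elim)
    (P := Cmp δ k S.X₂ x) (fun j => j.1)
  obtain ⟨s₃, φ₃, hφ₃, hs₃, -⟩ := exists_adm hδ h₃ β₃ x (L := PEmpty) PEmpty.elim (fun l => l.elim)
    (P := Cmp δ k S.X₂ x) (fun j => j.1)
  obtain ⟨s₂, φ₂, hφ₂, -, -⟩ := exists_adm hδ h₂ β₂ x (L := PEmpty) PEmpty.elim (fun l => l.elim)
    (P := PEmpty) PEmpty.elim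
  have hne : ∀ {G : X.Modules} (j : Cmp δ k G x), (rk S.X₂ j.1.1.1 ≠ 0) →
      s₁ ∉ genPrime j.1.2 ∧ s₂ ∉ genPrime j.1.2 ∧ s₃ ∉ genPrime j.1.2 := fun {G} j h0 =>
    ⟨hs₁ ⟨j.1, ⟨0, Nat.pos_of_ne_zero h0⟩⟩, hφ₂.1 ⟨j.1, ⟨0, Nat.pos_of_ne_zero h0⟩⟩,
      hs₃ ⟨j.1, ⟨0, Nat.pos_of_ne_zero h0⟩⟩⟩
  let s := s₁ * s₂ * s₃
  have hprod : ∀ {G : X.Modules} (j : Cmp δ k G x), (rk S.X₂ j.1.1.1 ≠ 0) → s ∉ genPrime j.1.2 := fun {G} j h0 hm => by
    have hp : (genPrime j.1.2).IsPrime := inferInstance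
    obtain ⟨a, b, c⟩ := hne j h0
    rcases hp.mem_or_mem hm with h | h
    · exact (hp.mem_or_mem h).elim a b
    · exact c h
  have hr := rk_add hδ hS h₁.1 h₂.1 h₃.1
  have hj₁ : ∀ j : Cmp δ k S.X₁ x, rk S.X₂ j.1.1.1 ≠ 0 := fun j => by
    have := hr j.1.1; have := j.2.pos; omega
  have hj₂ : ∀ j : Cmp δ k S.X₂ x, rk S.X₂ j.1.1.1 ≠ 0 := fun j => j.2.pos.ne'
  have hj₃ : ∀ j : Cmp δ k S.X₃ x, rk S.X₂ j.1.1.1 ≠ 0 := fun j => by
    have := hr j.1.1; have := j.2.pos; omega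
  have A₁ : Adm β₁ x s ((s₂ * s₃) • φ₁) := ⟨fun j => hprod j (hj₁ j), fun m j => by
    show toKap j.1.2 ((s₂ * s₃) • φ₁ m j) = _
    rw [toKap_smul, hφ₁.2]; simp only [s, map_mul]; ring⟩
  have A₂ : Adm β₂ x s ((s₁ * s₃) • φ₂) := ⟨fun j => hprod j (hj₂ j), fun m j => by
    show toKap j.1.2 ((s₁ * s₃) • φ₂ m j) = _
    rw [toKap_smul, hφ₂.2]; simp only [s, map_mul]; ring⟩
  have A₃ : Adm β₃ x s ((s₁ * s₂) • φ₃) := ⟨fun j => hprod j (hj₃ j), fun m j => by
    show toKap j.1.2 ((s₁ * s₂) • φ₃ m j) = _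
    rw [toKap_smul, hφ₃.2]; simp only [s, map_mul]; ring⟩
  generalize (s₂ * s₃) • φ₁ = ψ₁ at A₁
  generalize (s₁ * s₃) • φ₂ = ψ₂ at A₂
  generalize (s₁ * s₂) • φ₃ = ψ₃ at A₃
  -- maps of lattices
  let g₁ : Lat δ k S.X₁ x →ₗ[X.presheaf.stalk x] Lat δ k S.X₂ x :=
    { toFun := fun v j => Sum.elim (fun l => v ⟨j.1, l⟩) 0 (e j.1.1 j.2)
      map_add' := fun v w => funext fun j => by rcases h : e j.1.1 j.2 with l | l <;> simp [h]
      map_smul' := fun a v => funext fun j => by rcases h : e j.1.1 j.2 with l | l <;> simp [h] }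
  let g₂ : Lat δ k S.X₂ x →ₗ[X.presheaf.stalk x] Lat δ k S.X₃ x :=
    LinearMap.pi fun j => LinearMap.proj (⟨j.1, (e j.1.1).symm (Sum.inr j.2)⟩ : Cmp δ k S.X₂ x)
  have hg₁ : Function.Injective g₁ := fun v w h => funext fun j => by
    have := congrFun h ⟨j.1, (e j.1.1).symm (Sum.inl j.2)⟩
    simpa [g₁] using this
  have hg₂ : Function.Surjective g₂ := fun w =>
    ⟨fun j => Sum.elim 0 (fun l => w ⟨j.1, l⟩) (e j.1.1 j.2), funext fun j => by simp [g₂]⟩
  have hex : LinearMap.range g₁ = LinearMap.ker g₂ := by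
    ext v
    rw [LinearMap.mem_range, LinearMap.mem_ker]
    constructor
    · rintro ⟨w, rfl⟩
      exact funext fun j => by simp [g₁, g₂]
    · intro hv
      refine ⟨fun j => v ⟨j.1, (e j.1.1).symm (Sum.inl j.2)⟩, funext fun j => ?_⟩
      obtain ⟨ξ, i⟩ := j
      obtain ⟨q, rfl⟩ := (e ξ.1).symm.surjective i
      rcases q with l | l
      · simp [g₁]
      · simpa [g₁, g₂] using (congrFun hv ⟨ξ, l⟩).symm
  have h := hS.map_of_exact (St x)
  haveI := h.mono_f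
  haveI := h.epi_g
  let f : S.X₁.presheaf.stalk x →ₗ[X.presheaf.stalk x] S.X₂.presheaf.stalk x := ((St x).map S.f).hom
  let g : S.X₂.presheaf.stalk x →ₗ[X.presheaf.stalk x] S.X₃.presheaf.stalk x := ((St x).map S.g).hom
  have c₁ : ψ₂ ∘ₗ f = g₁ ∘ₗ ψ₁ := LinearMap.ext fun m => funext fun j => toKap_injective j.1.2 (by
    rw [LinearMap.comp_apply, A₂.2]
    have hc : co β₂ j (f m) =
        Sum.elim (fun l => co β₁ ⟨j.1, l⟩ m) (fun _ => (0 : Kap j.1.1.1)) (e j.1.1 j.2) := by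
      show β₂ j.1.1 (msp S.X₂ j.1.2 (((St x).map S.f).hom m)) j.2 = _
      rw [msp_natural]
      exact he1 _ _ _
    rw [hc]
    show _ = toKap j.1.2 (Sum.elim (fun l => ψ₁ m ⟨j.1, l⟩) (fun _ => 0) (e j.1.1 j.2))
    rcases e j.1.1 j.2 with l | l
    · exact (A₁.2 m ⟨j.1, l⟩).symm
    · simp)
  have c₂ : ψ₃ ∘ₗ g = g₂ ∘ₗ ψ₂ := LinearMap.ext fun m => funext fun j => toKap_injective j.1.2 (by
    rw [LinearMap.comp_apply, A₃.2]
    have hc : co β₃ j (g m) = co β₂ ⟨j.1, (e j.1.1).symm (Sum.inr j.2)⟩ m := by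
      show β₃ j.1.1 (msp S.X₃ j.1.2 (((St x).map S.g).hom m)) j.2 = _
      rw [msp_natural]
      exact he2 _ _ _
    rw [hc]
    exact (A₂.2 m ⟨j.1, (e j.1.1).symm (Sum.inr j.2)⟩).symm)
  have hf : Function.Injective f := (ModuleCat.mono_iff_injective (S.map (St x)).f).1 inferInstance
  have hg : Function.Surjective g := (ModuleCat.epi_iff_surjective (S.map (St x)).g).1 inferInstance
  have hfg : LinearMap.range f = LinearMap.ker g := (ShortComplex.moduleCat_exact_iff_range_eq_ker _).1 h.exact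
  have E1 := (idx_add ψ₁ ψ₂ ψ₃ f g₁ g g₂ c₁ c₂ hf hg₁ hg hg₂ hfg hex
    (Or.inl ⟨iFin_adm hδ h₁ hx A₁, iFin_adm hδ h₂ hx A₂⟩)).2.2.2
  have E2 := (idx_add (mulLat δ k S.X₁ x s) (mulLat δ k S.X₂ x s) (mulLat δ k S.X₃ x s) g₁ g₁ g₂ g₂
    (LinearMap.ext fun v => (map_smul g₁ s v).symm) (LinearMap.ext fun v => (map_smul g₂ s v).symm)
    hg₁ hg₁ hg₂ hg₂ hex hex (Or.inl ⟨iFin_mulLat hδ h₁.1 hx A₁.1, iFin_mulLat hδ h₂.1 hx A₂.1⟩)).2.2.2
  rw [idxAt_eq hδ h₁ hx A₁, idxAt_eq hδ h₂ hx A₂, idxAt_eq hδ h₃ hx A₃]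
  omega

/-! ### Dévissage -/

lemma reduced_of_killed {Y : Closeds X} (hδ : Cyc.IsDimFun X δ) (hk : ∀ y ∈ (Y : Set X), δ y ≤ k) {M : X.Modules}
    (hM : K0Dev.Killed (Scheme.IdealSheafData.vanishingIdeal Y).subschemeι M) : Reduced δ k M := by
  let j := (Scheme.IdealSheafData.vanishingIdeal Y).subschemeι
  have hr : Set.range j = (Y : Set X) := DvrDom.range_vanishingIdeal_subschemeι Y
  haveI : IsReduced (Scheme.IdealSheafData.vanishingIdeal Y).subscheme :=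
    DvrDom.isReduced_vanishingIdeal_subscheme Y
  haveI := hM.1.1.1
  intro x hx a ha m
  have hkill := (K0Dev.killed_iff j).1 hM.2
  by_cases hxY : x ∈ (Y : Set X)
  · obtain ⟨W₀, hxW₀, hW₀⟩ := exists_isolating hδ Y.isClosed hk hx
    obtain ⟨z, rfl⟩ : x ∈ Set.range j := hr.symm ▸ hxY
    refine ClSubLib.smul_stalk_eq_zero j M hkill z a ?_ m
    obtain ⟨V, hV, r, rfl⟩ := X.presheaf.exists_germ_eq (x := j z) a
    let W := V ⊓ W₀
    have hz : j z ∈ W := ⟨hV, hxW₀⟩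
    let r' : Γ(X, W) := X.presheaf.map (homOfLE (inf_le_left : W ≤ V)).op r
    have hg : X.presheaf.germ W (j z) hz r' = X.presheaf.germ V (j z) hV r :=
      X.presheaf.germ_res_apply (homOfLE (inf_le_left : W ≤ V)) _ hz r
    rw [← hg] at ha ⊢
    have hzero : (j.app W).hom r' = 0 := by
      refine eq_zero_of_basicOpen_eq_bot (U := j ⁻¹ᵁ W) _ (Opens.ext (Set.eq_empty_of_forall_notMem fun w hw => ?_))
      rw [← Scheme.preimage_basicOpen] at hw
      have hsp := hW₀ (j w) (X.basicOpen_le r' hw).2 (hr ▸ ⟨w, rfl⟩)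
      exact (IsLocalRing.mem_maximalIdeal _).1 ha ((X.mem_basicOpen r' _ hz).1 (hsp.mem_open (X.basicOpen r').2 hw))
    exact (Scheme.Hom.germ_stalkMap_apply j W z hz r').trans ((congrArg _ hzero).trans (map_zero _))
  · haveI : Subsingleton (M.presheaf.stalk x) :=
      not_nontrivial_iff_subsingleton.1 fun hn => hxY (hr ▸ hM.1.2 x hn)
    exact Subsingleton.elim _ _

/-- The dévissage data for modules with reduced generic stalks. -/
def topSetup (δ : X → ℤ) (k : ℤ) : K0Dev.Setup X.Modules X.affineOpens where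
  P := TopRed δ k
  Q := Cyc.CohLe δ (k + 1)
  N t := K0Dev.VanishOn t.1
  le _ h := h.1
  iso_P := fun M G e h => ⟨cohLe_of_iso e h.1, fun x hx a ha m => by
    let ex := ((St x).mapIso e).toLinearEquiv
    refine ex.symm.injective ?_
    rw [map_smul, map_zero]
    exact h.2 x hx a ha (ex.symm m)⟩
  iso_Q _ _ e h := cohLe_of_iso e h
  zero_P G h := ⟨cohLe_of_isZero h, fun x _ a _ m => by
    haveI := ModuleCat.subsingleton_of_isZero ((St x).map_isZero h)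
    exact Subsingleton.elim (α := (St x).obj G) _ _⟩
  ker_Q _ _ f h h' := cohLe_kernel f h h'.1.1
  coker_Q _ _ f h h' := cohLe_cokernel f h.1.1 h'
  pull_Q := fun M N G f g hM hN hG => by
    let d : M ⊞ N ⟶ G := biprod.desc f (-g)
    let e : kernel d ≅ pullback f g :=
      { hom := pullback.lift (kernel.ι d ≫ biprod.fst) (kernel.ι d ≫ biprod.snd) (by
          rw [Category.assoc, Category.assoc, ← sub_eq_zero, ← Preadditive.comp_sub,
            show biprod.fst ≫ f - biprod.snd ≫ g = d by apply biprod.hom_ext' <;> simp [d],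
            kernel.condition])
        inv := kernel.lift d (biprod.lift (pullback.fst f g) (pullback.snd f g)) (by simp [d, pullback.condition])
        hom_inv_id := by
          refine (cancel_mono (kernel.ι d)).1 ?_
          apply biprod.hom_ext <;> simp
        inv_hom_id := by apply pullback.hom_ext <;> simp }
    exact cohLe_of_iso e (cohLe_kernel d (cohLe_biprod hM hN) hG.1.1)
  sub_P := fun M G f _ hM hG => ⟨hM, fun x hx a ha m => by
    refine (ModuleCat.mono_iff_injective ((St x).map f)).1 inferInstance ?_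
    exact (map_smul ((St x).map f).hom a m).trans ((hG.2 x hx a ha _).trans (map_zero _).symm)⟩
  quot_P := fun M G f _ hG hM => ⟨hG, fun x hx a ha m => by
    obtain ⟨m', rfl⟩ := (ModuleCat.epi_iff_surjective ((St x).map f)).1 inferInstance m
    exact (map_smul ((St x).map f).hom a m').symm.trans
      ((congrArg ((St x).map f).hom (hM.2 x hx a ha m')).trans (map_zero _))⟩
  zero_N _ _ h x _ := (St x).map_isZero h
  sub_N _ _ _ f _ h x hx := IsZero.of_mono ((St x).map f) (h x hx)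
  quot_N _ _ _ f _ h x hx := IsZero.of_epi ((St x).map f) (h x hx)
  sum_N _ F _ h x hx := K0Dev.isZero_st_sigma x F fun n => h n x hx
  sum_Q F _ h hs := (cohLe_iff δ (k + 1)).2 ⟨K0Dev.isCoh_sigma F (fun n => (h n).1) hs,
    fun x hx => K0Dev.isZero_st_sigma x F fun n => ((cohLe_iff δ (k + 1)).1 (h n)).2 x hx⟩
  sum_P F _ h hs := ⟨(cohLe_iff δ (k + 1)).2 ⟨K0Dev.isCoh_sigma F (fun n => (h n).1.1) hs,
    fun x hx => K0Dev.isZero_st_sigma x F fun n => ((cohLe_iff δ (k + 1)).1 (h n).1).2 x hx⟩, fun x hx a ha m => by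
    haveI : PreservesColimitsOfSize.{0, 0} (St x) := preservesSmallestColimits_of_preservesColimits _
    let t : (St x).obj (∐ F) ⟶ (St x).obj (∐ F) := ModuleCat.ofHom (LinearMap.lsmul _ _ a)
    have ht : t = 0 := (isColimitOfPreserves (St x) (colimit.isColimit (Discrete.functor F))).hom_ext fun j => by
      rw [comp_zero]
      refine ModuleCat.hom_ext (LinearMap.ext fun v => ?_)
      show a • ((St x).map (Sigma.ι F j.as)).hom v = 0
      rw [← map_smul]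
      exact (congrArg _ ((h j.as).2 x hx a ha v)).trans (map_zero _)
    exact LinearMap.congr_fun (congrArg ModuleCat.Hom.hom ht) m⟩
  mono_map F G _ _ φ h := K0Dev.mono_sigma_map F G φ h

lemma exists_fil (hδ : Cyc.IsDimFun X δ) {G : X.Modules} (hG : Cyc.CohLe δ (k + 1) G) :
    Nonempty (K0Dev.Fil (topSetup δ k) G) := by
  haveI := hG.1.1
  let Y : Closeds X := ⟨CohB1.support G, QC.isClosed_support hG.1.2⟩
  have hk : ∀ y ∈ (Y : Set X), δ y ≤ k + 1 := fun y hy => hG.2 y (not_subsingleton_iff_nontrivial.1 hy)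
  let j := (Scheme.IdealSheafData.vanishingIdeal Y).subschemeι
  have hr : Set.range j = (Y : Set X) := DvrDom.range_vanishingIdeal_subschemeι Y
  have hle : ∀ M, K0Dev.Supp j M → Cyc.CohLe δ (k + 1) M := fun M hM =>
    ⟨hM.1, fun x hx => hk x (hr ▸ hM.2 x hx)⟩
  have hGj : K0Dev.Supp j G := ⟨hG.1, fun x hx => hr ▸ not_subsingleton_iff_nontrivial.2 hx⟩
  let Φ := K0Dev.adicFil j hGj
  exact ⟨{ F := Φ.F, mem := fun n => hle _ (Φ.mem n), f := Φ.f, mono := Φ.mono, e := Φ.e, summable := Φ.summable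
           quot := fun n => ⟨hle _ (Φ.quot n).1, reduced_of_killed hδ hk (Φ.quot n)⟩ }⟩

/-- The invariant. -/
theorem exists_hom (hδ : Cyc.IsDimFun X δ) : ∃ Φ : Cyc.K0CohQuot δ (k + 1) (k - 1) →+ (X → ℤ) ⧸ ratSub δ k,
    ∀ G, Cyc.CohLe δ k G → Φ (Cyc.toK0CohQuot δ (k + 1) (k - 1) G) = QuotientAddGroup.mk (Cyc.sheafFun δ k G) := by
  classical
  obtain ⟨φ, hφ⟩ := K0Dev.exists_equiv (topSetup δ k) fun G hG => exists_fil hδ hG
  let Φ₀ : KZero.K0sub (TopRed δ k) →+ (X → ℤ) ⧸ ratSub δ k := QuotientAddGroup.lift _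
    (FreeAbelianGroup.lift fun G : Subtype (TopRed δ k) => phiG δ k G.1) ((AddSubgroup.closure_le _).2 (by
      rintro _ ⟨S, h₁, h₂, h₃, hS, rfl⟩
      rw [SetLike.mem_coe, AddMonoidHom.mem_ker, map_sub, map_sub, FreeAbelianGroup.lift_apply_of,
        FreeAbelianGroup.lift_apply_of, FreeAbelianGroup.lift_apply_of, phiG_add hδ hS h₁ h₂ h₃]
      abel))
  have h0 : ∀ G, TopRed δ k G → Φ₀ (KZero.clSub (TopRed δ k) G) = phiG δ k G := fun G hG => by
    rw [KZero.clSub, dif_pos hG]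
    exact FreeAbelianGroup.lift_apply_of _ _
  let ψ : KZero.K0sub (TopRed δ k) ≃+ KZero.K0sub (Cyc.CohLe δ (k + 1)) := φ
  let Φ₁ : KZero.K0sub (Cyc.CohLe δ (k + 1)) →+ (X → ℤ) ⧸ ratSub δ k := Φ₀.comp ψ.symm.toAddMonoidHom
  have h1 : ∀ G, Cyc.CohLe δ k G →
      Φ₁ (KZero.clSub (Cyc.CohLe δ (k + 1)) G) = QuotientAddGroup.mk (Cyc.sheafFun δ k G) := fun G hG => by
    rw [← phiG_of_le hδ hG, ← h0 G (topRed_of_le hG)]
    refine congrArg Φ₀ ?_
    show ψ.symm _ = _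
    rw [AddEquiv.symm_apply_eq]
    exact (hφ G (topRed_of_le hG)).symm
  refine ⟨QuotientAddGroup.lift _ Φ₁ ((AddSubgroup.closure_le _).2 ?_), fun G hG => h1 G hG⟩
  rintro _ ⟨F, hF, rfl⟩
  have hF' : Cyc.CohLe δ k F := ⟨hF.1, fun x hx => (hF.2 x hx).trans (by omega)⟩
  rw [SetLike.mem_coe, AddMonoidHom.mem_ker, h1 F hF', show Cyc.sheafFun δ k F = 0 from funext fun x => ?_]
  · rfl
  unfold Cyc.sheafFun
  split
  · next h =>
    haveI : Subsingleton (F.presheaf.stalk x) := not_nontrivial_iff_subsingleton.1 fun hn => by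
      have := hF.2 x hn; omega
    rw [(Module.length_eq_zero_iff (R := X.presheaf.stalk x)).2 inferInstance]
    rfl
  · rfl

/-- Cycles with trivial class are rationally equivalent to zero. -/
theorem ratEquivZero_of_class (hX : Cyc.IsSetup X δ) {α : AlgebraicCycle X ℤ} (hα : α ∈ Cyc.Zk X δ k)
    (h : Cyc.toK0CohQuot δ (k + 1) (k - 1) (Cyc.cycleSheafPos ⇑α) =
      Cyc.toK0CohQuot δ (k + 1) (k - 1) (Cyc.cycleSheafNeg ⇑α)) : Cyc.RatEquivZero δ k α := by
  have hδ := hX.2.2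
  obtain ⟨Φ, hΦ⟩ := exists_hom (k := k) hδ
  have hne : ∀ x, α x ≠ 0 → δ x = k := fun x hx => by_contra fun h => hx (hα x h)
  have hne' : ∀ x, (-⇑α) x ≠ 0 → δ x = k := fun x hx => hne x fun h => hx (by simp [h])
  have hfin : ∀ {U : X.Opens}, IsAffineOpen U → {x : X | x ∈ U ∧ α x ≠ 0}.Finite := by
    intro U hU
    obtain ⟨s, -, hs⟩ := hU.isCompact.elim_nhds_subcover
      (fun x => (α.supportLocallyFiniteWithinDomain' x trivial).choose)
      fun x _ => (α.supportLocallyFiniteWithinDomain' x trivial).choose_spec.1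
    refine ((s.finite_toSet.biUnion fun x _ => (α.supportLocallyFiniteWithinDomain' x trivial).choose_spec.2)).subset ?_
    intro y hy
    obtain ⟨x, hx, hyx⟩ := Set.mem_iUnion₂.1 (hs hy.1)
    exact Set.mem_biUnion hx ⟨hyx, hy.2⟩
  have hP := cohLe_cycleSheafPos (k := k) hδ hfin fun x hx => (hne x hx).le
  have hQ : Cyc.CohLe δ k (Cyc.cycleSheafPos (-⇑α)) := cohLe_cycleSheafPos hδ
    (fun hU => (hfin hU).subset fun x hx => ⟨hx.1, fun h => hx.2 (by simp [h])⟩) fun x hx => (hne' x hx).le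
  have e : Φ (Cyc.toK0CohQuot δ (k + 1) (k - 1) (Cyc.cycleSheafPos ⇑α)) =
      Φ (Cyc.toK0CohQuot δ (k + 1) (k - 1) (Cyc.cycleSheafPos (-⇑α))) := congrArg Φ h
  rw [hΦ _ hP, hΦ _ hQ, QuotientAddGroup.eq_iff_sub_mem] at e
  have hfun : Cyc.sheafFun δ k (Cyc.cycleSheafPos ⇑α) - Cyc.sheafFun δ k (Cyc.cycleSheafPos (-⇑α)) = ⇑α := by
    funext x
    rw [Pi.sub_apply, sheafFun_cycleSheafPos hδ hne, sheafFun_cycleSheafPos hδ hne', Pi.neg_apply]
    omega
  rw [hfun] at e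
  exact e

end Groth.Agent.CycK0
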