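import Groth.Agent.CycK0.C1K
import Groth.Agent.CycK0.Invariant
import Groth.Agent.CycDim.PullSec

/-!
The first Chern class respects rational equivalence: the indices of the two presentations of a principal divisor
change by the same amount under a twist.
-/

set_option autoImplicit false
set_option linter.unusedSectionVars false
set_option linter.style.haveILetI false
set_option backward.isDefEq.respectTransparency false
set_option backward.isDefEq.respectTransparency.types false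

universe u

open CategoryTheory CategoryTheory.Limits AlgebraicGeometry TopologicalSpace Opposite
open Groth.Agent.K0Dev (St)
open Groth.Agent.RefStalk (msp)

noncomputable section

attribute [local instance] Abelian.hasFiniteBiproducts

namespace Groth.Agent.CycK0

variable {X : Scheme.{u}}

/-! ### Maps to rational functions -/

lemma hom_ext_rat {ξ : X} {F : X.Modules} {g g' : F ⟶ ratSheaf ξ} (h : (St ξ).map g = (St ξ).map g') : g = g' :=
  ((KFlat.skyAdjunction ξ).homEquiv F (kap ξ)).symm.injective (by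
    rw [Adjunction.homEquiv_counit, Adjunction.homEquiv_counit]
    exact congrArg (fun q => q ≫ _) h)

lemma evR_mulRat {ξ : X} (f : X.residueField ξ) (z : (ratSheaf ξ).presheaf.stalk ξ) :
    evR specializes_rfl (((St ξ).map (mulRat ξ f)).hom z) = (rf f : Kap ξ) * evR specializes_rfl z := by
  show KFlat.skyEvalₗ ξ (kap ξ) (msp (ratSheaf ξ) specializes_rfl (((St ξ).map (mulRat ξ f)).hom z)) = _
  refine (congrArg (KFlat.skyEvalₗ ξ (kap ξ)) (msp_natural (mulRat ξ f) specializes_rfl z)).trans ?_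
  exact LinearMap.congr_fun (congrArg ModuleCat.Hom.hom (KFlat.skyStalkIso_natural ξ
    (ModuleCat.ofHom (LinearMap.mulLeft (X.presheaf.stalk ξ) (rf f))))) (msp (ratSheaf ξ) specializes_rfl z)

variable {L : X.Modules}

/-- The embeddings of twists commute with multiplication by functions. -/
lemma twist_comm (hL : PicF.IsInvertible L) {ξ : X} {s : Cyc.secFibre L ξ} (hs : s ≠ 0)
    {τ : (twist L).obj (integers ξ) ⟶ ratSheaf ξ} (hτ : TwistEmb L ξ s τ) (f : X.residueField ξ)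
    {A : X.Modules} (u v : A ⟶ integers ξ) (huv : v ≫ incl ξ = u ≫ incl ξ ≫ mulRat ξ f) :
    (twist L).map v ≫ τ = (twist L).map u ≫ τ ≫ mulRat ξ f := by
  refine hom_ext_rat (ModuleCat.hom_ext (LinearMap.ext fun z => evR_injective specializes_rfl ?_))
  obtain ⟨U, e, hξ, he⟩ := TMul.exists_isGen hL ξ
  obtain ⟨φ, hφ⟩ := C1Cap.exists_coeff he hξ s
  have h0 : rd ξ φ ≠ 0 := C1Cap.rdu_ne_zero he hξ hs hφ
  obtain ⟨a, rfl⟩ := (theta he hξ A).surjective z
  refine mul_left_cancel₀ h0 ?_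
  simp only [Functor.map_comp, ModuleCat.hom_comp, LinearMap.coe_comp, Function.comp_apply]
  rw [evR_mulRat, theta_natural, theta_natural, mul_left_comm,
    hτ ξ specializes_rfl U e he hξ φ hφ, hτ ξ specializes_rfl U e he hξ φ hφ, ← evR_mulRat]
  refine congrArg (evR specializes_rfl) ?_
  have := LinearMap.congr_fun (congrArg (fun g => ((St ξ).map g).hom) huv) a
  simpa only [Functor.map_comp, ModuleCat.hom_comp, LinearMap.coe_comp, Function.comp_apply] using this

/-! ### Generic isomorphisms -/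

lemma isIso_denom_generic {ξ : X} {f : X.residueField ξ} (hf : f ≠ 0) :
    IsIso ((St ξ).map (dFst ξ f)) ∧ IsIso ((St ξ).map (dSnd ξ f)) := by
  haveI := isIso_mulRat hf
  haveI := isIso_incl_generic ξ
  haveI : IsIso ((St ξ).map (incl ξ ≫ mulRat ξ f)) := by rw [Functor.map_comp]; infer_instance
  have hP : IsPullback ((St ξ).map (dFst ξ f)) ((St ξ).map (dSnd ξ f)) ((St ξ).map (incl ξ ≫ mulRat ξ f))
      ((St ξ).map (incl ξ)) := (IsPullback.of_hasPullback _ _).map (St ξ)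
  exact ⟨hP.isIso_fst_of_isIso, hP.isIso_snd_of_isIso⟩

variable [IsLocallyNoetherian X] {δ : X → ℤ} {k : ℤ}

/-- A pullback of maps from coherent modules to rational functions is coherent. -/
lemma isCoh_pullback {ξ : X} {F G : X.Modules} (hF : Coh.IsCoh F) (hG : Coh.IsCoh G)
    (a : F ⟶ ratSheaf ξ) (b : G ⟶ ratSheaf ξ) : Coh.IsCoh (pullback a b) := by
  let u : pullback a b ⟶ F := pullback.fst _ _
  let v : pullback a b ⟶ G := pullback.snd _ _
  let κ : pullback a b ⟶ kernel (biprod.desc a (-b)) :=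
    kernel.lift _ (biprod.lift u v) (by
      rw [biprod.lift_desc, Preadditive.comp_neg, add_neg_eq_zero]; exact pullback.condition)
  haveI : IsIso κ := by
    let κ' : kernel (biprod.desc a (-b)) ⟶ pullback a b :=
      pullback.lift (kernel.ι _ ≫ biprod.fst) (kernel.ι _ ≫ biprod.snd) (by
        have h := kernel.condition (biprod.desc a (-b))
        have hd : biprod.desc a (-b) = biprod.fst ≫ a - biprod.snd ≫ b := by
          rw [biprod.desc_eq, Preadditive.comp_neg, sub_eq_add_neg]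
        replace h := (congrArg (fun φ => kernel.ι (biprod.desc a (-b)) ≫ φ) hd).symm.trans h
        rw [Preadditive.comp_sub, sub_eq_zero] at h
        simpa only [Category.assoc] using h)
    refine ⟨κ', pullback.hom_ext (by simp [κ, κ', u, v]) (by simp [κ, κ', u, v]), ?_⟩
    refine (cancel_mono (kernel.ι _)).1 (biprod.hom_ext _ _ (by simp [κ, κ', u, v]) (by simp [κ, κ', u, v]))
  exact K0Coh.isCoh_of_iso (asIso κ).symm (QC.isCoh_kernel (W7Exist.isCoh_biprod hF hG) (isQCoh_ratSheaf ξ) _)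

/-- A coherent lattice: supported on the closure and of generic rank one. -/
abbrev Supp (ξ : X) (F : X.Modules) : Prop := Coh.IsCoh F ∧ ∀ x, ¬ ξ ⤳ x → IsZero ((St x).obj F)

lemma cohLe_coker_gen (hδ : Cyc.IsDimFun X δ) {ξ : X} (hξ : δ ξ = k + 1) {F G : X.Modules} (φ : F ⟶ G)
    (hF : Coh.IsCoh F) (hG : Supp ξ G) (hi : IsIso ((St ξ).map φ)) : Cyc.CohLe δ k (cokernel φ) :=
  (cohLe_iff δ k).2 ⟨QC.isCoh_cokernel hF.1 hG.1 _, fun x hx => by
    by_cases hsp : ξ ⤳ x
    · by_cases he : ξ = x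
      · subst he
        exact IsZero.of_epi_eq_zero ((St ξ).map (cokernel.π φ)) ((cancel_epi ((St ξ).map φ)).1
          (by rw [← Functor.map_comp, cokernel.condition, Functor.map_zero, comp_zero]))
      · have := (hδ _ _ hsp he).1; omega
    · exact IsZero.of_epi ((St x).map (cokernel.π φ)) (hG.2 x hsp)⟩

/-! ### Compositions -/

/-- The cokernels of a composition of monomorphisms. -/
theorem q_comp {A B C : X.Modules} (f : A ⟶ B) (g : B ⟶ C) [Mono g] {m b : ℤ}
    (hf : Cyc.CohLe δ m (cokernel f)) (hfg : Cyc.CohLe δ m (cokernel (f ≫ g))) (hg : Cyc.CohLe δ m (cokernel g)) :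
    Cyc.toK0CohQuot δ m b (cokernel (f ≫ g)) =
      Cyc.toK0CohQuot δ m b (cokernel f) + Cyc.toK0CohQuot δ m b (cokernel g) := by
  let α : cokernel f ⟶ cokernel (f ≫ g) := cokernel.map f (f ≫ g) (𝟙 _) g (by simp)
  let β : cokernel (f ≫ g) ⟶ cokernel g := cokernel.map (f ≫ g) g f (𝟙 _) (by simp)
  have hp : IsPullback f (𝟙 A) g (f ≫ g) :=
    IsPullback.of_isLimit (PullbackCone.IsLimit.mk (by simp) (fun s => s.snd)
      (fun s => (cancel_mono g).1 (by rw [Category.assoc, s.condition]))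
      (fun s => Category.comp_id _) (fun s m _ h₂ => by simpa using h₂))
  haveI : Epi β := by
    haveI : Epi (cokernel.π (f ≫ g) ≫ β) := by
      rw [cokernel.π_desc]
      exact epi_comp _ _
    exact epi_of_epi (cokernel.π (f ≫ g)) β
  have w : α ≫ β = 0 := coequalizer.hom_ext (by simp [α, β])
  have hS : (ShortComplex.mk α β w).ShortExact :=
    { exact := ShortComplex.exact_of_g_is_cokernel _ (CokernelCofork.IsColimit.ofπ' _ _ fun {W} l hl => by
        have h0 : g ≫ cokernel.π (f ≫ g) ≫ l = 0 := by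
          have := cokernel.π f ≫= hl
          simpa [α] using this
        exact ⟨cokernel.desc g (cokernel.π (f ≫ g) ≫ l) h0, coequalizer.hom_ext (by simp [β])⟩)
      mono_f := Abelian.mono_cokernel_map_of_isPullback hp
      epi_g := inferInstance }
  exact q_add hS hf hfg hg b

/-- The twist commutes with cokernels of monomorphisms. -/
theorem nonempty_twist_coker (hL : PicF.IsInvertible L) {F G : X.Modules} (φ : F ⟶ G) [Mono φ] :
    Nonempty ((twist L).obj (cokernel φ) ≅ cokernel ((twist L).map φ)) := by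
  have h := twist_shortExact hL (S := ShortComplex.mk φ (cokernel.π φ) (cokernel.condition _))
    { exact := ShortComplex.exact_of_g_is_cokernel _ (cokernelIsCokernel _) }
  exact ⟨h.gIsCokernel.coconePointUniqueUpToIso (colimit.isColimit (parallelPair ((twist L).map φ) 0))⟩

/-- Cokernels of coproducts of maps. -/
theorem nonempty_coker_sigma {ι : Type u} {M N : ι → X.Modules} (φ : ∀ i, M i ⟶ N i) :
    Nonempty (cokernel (Limits.Sigma.map φ) ≅ ∐ fun i => cokernel (φ i)) :=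
  ⟨{ hom := cokernel.desc _ (Limits.Sigma.map fun i => cokernel.π (φ i)) (Sigma.hom_ext _ _ fun i => by
      rw [comp_zero, Sigma.ι_map_assoc, Sigma.ι_map, cokernel.condition_assoc, zero_comp])
     inv := Sigma.desc fun i => cokernel.desc (φ i) (Sigma.ι N i ≫ cokernel.π (Limits.Sigma.map φ)) (by
      rw [← Sigma.ι_map_assoc, cokernel.condition, comp_zero])
     hom_inv_id := coequalizer.hom_ext (Sigma.hom_ext _ _ fun i => by simp)
     inv_hom_id := Sigma.hom_ext _ _ fun i => coequalizer.hom_ext (by simp) }⟩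

lemma q_iso {m b : ℤ} {F G : X.Modules} (e : F ≅ G) :
    Cyc.toK0CohQuot δ m b F = Cyc.toK0CohQuot δ m b G :=
  congrArg QuotientAddGroup.mk (K0Dev.cl_iso (fun _ _ e h => cohLe_of_iso e h) (fun _ h => cohLe_of_isZero h) e)

lemma Supp.twist {ξ : X} {F : X.Modules} (hL : PicF.IsInvertible L) (hF : Supp ξ F) :
    Supp ξ ((CycK0.twist L).obj F) := by
  haveI : F.IsQuasicoherent := hF.1.1
  exact ⟨⟨TMul.isQCoh_tensor hL, TMul.isFT_tensor hL hF.1.2⟩,
    fun x h => (hF.2 x h).of_iso ((exists_twistStIso hL x).some.app F)⟩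

/-! ### Cycles -/

lemma exists_cycle_affine (a : X → ℤ) (h : ∀ {U : X.Opens}, IsAffineOpen U → {x : X | x ∈ U ∧ a x ≠ 0}.Finite) :
    ∃ γ : AlgebraicCycle X ℤ, ⇑γ = a :=
  ⟨{ toFun := a
     supportWithinDomain' := Set.subset_univ _
     supportLocallyFiniteWithinDomain' := fun z _ => by
      obtain ⟨U, hU, hzU, -⟩ := exists_isAffineOpen_mem_and_subset (x := z) (U := (⊤ : X.Opens)) trivial
      exact ⟨(U : Set X), U.2.mem_nhds hzU, (h hU).subset fun x hx => ⟨hx.1, hx.2⟩⟩ }, rfl⟩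

/-- The cap of the cycle of a module is a cycle. -/
lemma exists_capCycle (hX : Cyc.IsSetup X δ) (hL : PicF.IsInvertible L) {m : ℤ} {F : X.Modules}
    (hF : Cyc.CohLe δ m F) (s : (x : X) → Cyc.secFibre L x) (hs : ∀ x, s x ≠ 0) :
    ∃ γ : AlgebraicCycle X ℤ, ⇑γ = Cyc.c1CapFun δ L (Cyc.sheafFun δ m F) s := by
  refine exists_cycle_affine _ fun {U} hU => ?_
  refine ((finite_sheafFun hX.2.2 hF hU).biUnion fun ξ _ =>
    CycSec.finite_secDivFun hX.2.2 hL ξ (hs ξ) hU).subset fun x hx => ?_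
  obtain ⟨ξ, hξ⟩ : ∃ ξ, Cyc.sheafFun δ m F ξ * Cyc.secDivFun δ L ξ (s ξ) x ≠ 0 := by
    by_contra! h
    exact hx.2 (by simp [Cyc.c1CapFun, h])
  have h2 := right_ne_zero_of_mul hξ
  exact Set.mem_biUnion (show ξ ∈ {y : X | y ∈ U ∧ Cyc.sheafFun δ m F y ≠ 0} from
    ⟨(CycSec.secDivFun_support h2).1.mem_open U.2 hx.1, left_ne_zero_of_mul hξ⟩) ⟨hx.1, h2⟩

lemma capCycle_mem {F : X.Modules} {s : (x : X) → Cyc.secFibre L x} {γ : AlgebraicCycle X ℤ}
    (hγ : ⇑γ = Cyc.c1CapFun δ L (Cyc.sheafFun δ (k + 1) F) s) : γ ∈ Cyc.Zk X δ k := by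
  intro x hx
  by_contra h
  obtain ⟨ξ, hξ⟩ : ∃ ξ, Cyc.sheafFun δ (k + 1) F ξ * Cyc.secDivFun δ L ξ (s ξ) x ≠ 0 := by
    by_contra! h0
    exact h (by rw [hγ]; simp [Cyc.c1CapFun, h0])
  have h2 := right_ne_zero_of_mul hξ
  have h1 : δ ξ = k + 1 := by
    by_contra hne
    exact (left_ne_zero_of_mul hξ) (if_neg hne)
  unfold Cyc.secDivFun at h2
  split at h2
  · next hh => exact hx (by omega)
  · exact h2 rfl

lemma finite_gen_sheafFun (hδ : Cyc.IsDimFun X δ) {m : ℤ} {F : X.Modules} (hF : Cyc.CohLe δ m F) (x : X) :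
    {ξ : X | ξ ⤳ x ∧ Cyc.sheafFun δ m F ξ ≠ 0}.Finite := by
  obtain ⟨U, hU, hxU, -⟩ := exists_isAffineOpen_mem_and_subset (x := x) (U := (⊤ : X.Opens)) trivial
  exact (finite_sheafFun hδ hF hU).subset fun ξ hξ => ⟨hξ.1.mem_open U.2 hxU, hξ.2⟩

lemma c1CapFun_sub_apply {a b c : X → ℤ} (h : ∀ x, a x = b x - c x) {s : (x : X) → Cyc.secFibre L x} {x : X}
    (hb : {ξ : X | ξ ⤳ x ∧ b ξ ≠ 0}.Finite) (hc : {ξ : X | ξ ⤳ x ∧ c ξ ≠ 0}.Finite) :
    Cyc.c1CapFun δ L a s x = Cyc.c1CapFun δ L b s x - Cyc.c1CapFun δ L c s x := by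
  simp only [Cyc.c1CapFun, h, sub_mul]
  exact finsum_sub_distrib
    (hb.subset fun ξ hξ => ⟨(CycSec.secDivFun_support (right_ne_zero_of_mul hξ)).1, left_ne_zero_of_mul hξ⟩)
    (hc.subset fun ξ hξ => ⟨(CycSec.secDivFun_support (right_ne_zero_of_mul hξ)).1, left_ne_zero_of_mul hξ⟩)

lemma cycle_finite_affine (α : AlgebraicCycle X ℤ) {U : X.Opens} (hU : IsAffineOpen U) :
    {x : X | x ∈ U ∧ α x ≠ 0}.Finite := by
  obtain ⟨t, -, ht⟩ := hU.isCompact.elim_nhds_subcover
    (fun x => (α.supportLocallyFiniteWithinDomain' x trivial).choose)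
    fun x _ => (α.supportLocallyFiniteWithinDomain' x trivial).choose_spec.1
  refine ((t.finite_toSet.biUnion fun x _ => (α.supportLocallyFiniteWithinDomain' x trivial).choose_spec.2)).subset ?_
  intro y hy
  obtain ⟨x, hx, hyx⟩ := Set.mem_iUnion₂.1 (ht hy.1)
  exact Set.mem_biUnion hx ⟨hyx, hy.2⟩

/-- The class of a cycle is additive. -/
lemma q_cycle_sub (hX : Cyc.IsSetup X δ) {a b c : AlgebraicCycle X ℤ} (ha : a ∈ Cyc.Zk X δ k)
    (hb : b ∈ Cyc.Zk X δ k) (hc : c ∈ Cyc.Zk X δ k) (h : ∀ x, a x = b x - c x)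
    (key : Cyc.toK0CohQuot δ (k + 1) (k - 1) (Cyc.cycleSheafPos ⇑b) -
        Cyc.toK0CohQuot δ (k + 1) (k - 1) (Cyc.cycleSheafNeg ⇑b) =
      Cyc.toK0CohQuot δ (k + 1) (k - 1) (Cyc.cycleSheafPos ⇑c) -
        Cyc.toK0CohQuot δ (k + 1) (k - 1) (Cyc.cycleSheafNeg ⇑c)) :
    Cyc.toK0CohQuot δ (k + 1) (k - 1) (Cyc.cycleSheafPos ⇑a) =
      Cyc.toK0CohQuot δ (k + 1) (k - 1) (Cyc.cycleSheafNeg ⇑a) := by
  have hδ := hX.2.2
  have hne : ∀ {a : AlgebraicCycle X ℤ}, a ∈ Cyc.Zk X δ k → ∀ x, a x ≠ 0 → δ x = k :=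
    fun ha x hx => by_contra fun h => hx (ha x h)
  have hne' : ∀ {a : AlgebraicCycle X ℤ}, a ∈ Cyc.Zk X δ k → ∀ x, (-⇑a) x ≠ 0 → δ x = k :=
    fun ha x hx => hne ha x fun h => hx (by simp [h])
  have cP : ∀ {a : AlgebraicCycle X ℤ}, a ∈ Cyc.Zk X δ k → Cyc.CohLe δ k (Cyc.cycleSheafPos ⇑a) :=
    fun {a} ha => cohLe_cycleSheafPos hδ (fun hU => cycle_finite_affine a hU) fun x hx => (hne ha x hx).le
  have cN : ∀ {a : AlgebraicCycle X ℤ}, a ∈ Cyc.Zk X δ k → Cyc.CohLe δ k (Cyc.cycleSheafPos (-⇑a)) :=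
    fun {a} ha => cohLe_cycleSheafPos hδ (fun hU => (cycle_finite_affine a hU).subset fun x hx =>
      ⟨hx.1, fun h => hx.2 (by simp [h])⟩) fun x hx => (hne' ha x hx).le
  have hl := cohLe_biprod (cP ha) (cohLe_biprod (cN hb) (cP hc))
  have hr := cohLe_biprod (cN ha) (cohLe_biprod (cP hb) (cN hc))
  have hq := q_raise hl hr (by
    rw [(q_eq_cycle hX hl).1, (q_eq_cycle hX hr).1]
    refine congrArg (fun z => Cyc.toK0CohQuot δ k (k - 1) (Cyc.cycleSheafPos z)) (funext fun x => ?_)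
    rw [sheafFun_biprod hX (cP ha) (cohLe_biprod (cN hb) (cP hc)), sheafFun_biprod hX (cN hb) (cP hc),
      sheafFun_biprod hX (cN ha) (cohLe_biprod (cP hb) (cN hc)), sheafFun_biprod hX (cP hb) (cN hc)]
    simp only [Pi.add_apply, sheafFun_cycleSheafPos hδ (hne ha), sheafFun_cycleSheafPos hδ (hne' ha),
      sheafFun_cycleSheafPos hδ (hne hb), sheafFun_cycleSheafPos hδ (hne' hb),
      sheafFun_cycleSheafPos hδ (hne hc), sheafFun_cycleSheafPos hδ (hne' hc), Pi.neg_apply]
    have := h x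
    omega)
  rw [q_biprod (cohLe_succ (cP ha)) (cohLe_succ (cohLe_biprod (cN hb) (cP hc))),
    q_biprod (cohLe_succ (cN hb)) (cohLe_succ (cP hc)),
    q_biprod (cohLe_succ (cN ha)) (cohLe_succ (cohLe_biprod (cP hb) (cN hc))),
    q_biprod (cohLe_succ (cP hb)) (cohLe_succ (cN hc))] at hq
  have key' : Cyc.toK0CohQuot δ (k + 1) (k - 1) (Cyc.cycleSheafPos ⇑b) +
      Cyc.toK0CohQuot δ (k + 1) (k - 1) (Cyc.cycleSheafPos (-⇑c)) =
    Cyc.toK0CohQuot δ (k + 1) (k - 1) (Cyc.cycleSheafPos ⇑c) +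
      Cyc.toK0CohQuot δ (k + 1) (k - 1) (Cyc.cycleSheafPos (-⇑b)) := sub_eq_sub_iff_add_eq_add.1 key
  rw [key', add_comm (Cyc.toK0CohQuot δ (k + 1) (k - 1) (Cyc.cycleSheafPos (-⇑b)))] at hq
  exact add_right_cancel hq

/-! ### The twist of a principal divisor -/

set_option maxHeartbeats 2000000 in
/-- Twisting changes both presentations of a principal divisor by the same class. -/
theorem twist_principal (hX : Cyc.IsSetup X δ) (hL : PicF.IsInvertible L) {ι : Type u} (ξ : ι → X)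
    (f : (i : ι) → X.residueField (ξ i)) (hξ : ∀ i, δ (ξ i) = k + 2) (hf : ∀ i, f i ≠ 0)
    (s : (x : X) → Cyc.secFibre L x) (hs : ∀ x, s x ≠ 0)
    (hcpt : ∀ V : X.affineOpens, {i | (closure {ξ i} ∩ (V.1 : Set X)).Nonempty}.Finite) :
    Cyc.toK0CohQuot δ (k + 1) (k - 1) ((twist L).obj (∐ fun i => cV (ξ i) (f i))) -
        Cyc.toK0CohQuot δ (k + 1) (k - 1) (∐ fun i => cV (ξ i) (f i)) =
      Cyc.toK0CohQuot δ (k + 1) (k - 1) ((twist L).obj (∐ fun i => cU (ξ i) (f i))) -
        Cyc.toK0CohQuot δ (k + 1) (k - 1) (∐ fun i => cU (ξ i) (f i)) := by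
  have hδ := hX.2.2
  have hξ' : ∀ i, δ (ξ i) = (k + 1) + 1 := fun i => by rw [hξ i]; ring
  -- coproducts of cokernels
  have coh : ∀ {F G : ι → X.Modules} (φ : ∀ i, F i ⟶ G i), (∀ i, Coh.IsCoh (F i)) → (∀ i, Supp (ξ i) (G i)) →
      (∀ i, IsIso ((St (ξ i)).map (φ i))) → Cyc.CohLe δ (k + 1) (cokernel (Limits.Sigma.map φ)) := by
    intro F G φ hF hG hi
    have hc := fun i => cohLe_coker_gen hδ (hξ' i) (φ i) (hF i) (hG i) (hi i)
    refine cohLe_of_iso (nonempty_coker_sigma φ).some.symm ((cohLe_iff δ (k + 1)).2 ⟨isCoh_sigma _ (fun i => (hc i).1)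
      fun V => ⟨(hcpt V).toFinset, fun i hi x hx => IsZero.of_epi ((St x).map (cokernel.π (φ i)))
        ((hG i).2 x fun hsp => hi ((hcpt V).mem_toFinset.2 ⟨x, specializes_iff_mem_closure.1 hsp, hx⟩))⟩,
      fun x hx => isZero_st_sigma _ x fun i => ((cohLe_iff δ (k + 1)).1 (hc i)).2 x hx⟩)
  choose τ hτ using fun i : ι => exists_twistEmb hL (hs (ξ i))
  haveI := fun i => mono_twistEmb hL (hs (ξ i)) (hτ i)
  haveI := fun i => isIso_twistEmb_generic hL (hs (ξ i)) (hτ i)
  haveI := fun i => isIso_incl_generic (ξ i)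
  haveI := fun i => mono_dSnd (hf i)
  haveI := fun i => (isIso_denom_generic (hf i)).1
  haveI := fun i => (isIso_denom_generic (hf i)).2
  let A := fun i => denom (ξ i) (f i)
  let B := fun i => integers (ξ i)
  let A' := fun i => (twist L).obj (denom (ξ i) (f i))
  let B' := fun i => (twist L).obj (integers (ξ i))
  let uA : ∀ i, A i ⟶ B i := fun i => dFst (ξ i) (f i)
  let vA : ∀ i, A i ⟶ B i := fun i => dSnd (ξ i) (f i)
  let uA' : ∀ i, A' i ⟶ B' i := fun i => (twist L).map (uA i)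
  let vA' : ∀ i, A' i ⟶ B' i := fun i => (twist L).map (vA i)
  haveI : ∀ i, Mono (uA' i) := fun i => (twist_shortExact hL
    (S := ShortComplex.mk (uA i) (cokernel.π (uA i)) (cokernel.condition _))
    { exact := ShortComplex.exact_of_g_is_cokernel _ (cokernelIsCokernel _) }).mono_f
  haveI : ∀ i, Mono (vA' i) := fun i => (twist_shortExact hL
    (S := ShortComplex.mk (vA i) (cokernel.π (vA i)) (cokernel.condition _))
    { exact := ShortComplex.exact_of_g_is_cokernel _ (cokernelIsCokernel _) }).mono_f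
  have hiso' : ∀ {F G : X.Modules} (g : F ⟶ G) (x : X), IsIso ((St x).map g) → IsIso ((St x).map ((twist L).map g)) := by
    intro F G g x hg
    exact (NatIso.isIso_map_iff (exists_twistStIso hL x).some g).2 hg
  haveI := fun i => hiso' (uA i) (ξ i) inferInstance
  haveI := fun i => hiso' (vA i) (ξ i) inferInstance
  let M := fun i => pullback (incl (ξ i)) (τ i)
  let uB : ∀ i, M i ⟶ B i := fun i => pullback.fst _ _
  let vB : ∀ i, M i ⟶ B' i := fun i => pullback.snd _ _
  let P := fun i => pullback (uA i ≫ incl (ξ i)) (uA' i ≫ τ i)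
  let p : ∀ i, P i ⟶ A i := fun i => pullback.fst _ _
  let p' : ∀ i, P i ⟶ A' i := fun i => pullback.snd _ _
  have hcond : ∀ i, p i ≫ uA i ≫ incl (ξ i) = p' i ≫ uA' i ≫ τ i := fun i => pullback.condition
  let u₀ : ∀ i, P i ⟶ M i := fun i => pullback.lift (p i ≫ uA i) (p' i ≫ uA' i) (by
    simpa only [Category.assoc] using hcond i)
  let v₀ : ∀ i, P i ⟶ M i := fun i => pullback.lift (p i ≫ vA i) (p' i ≫ vA' i) (by
    have h1 : vA i ≫ incl (ξ i) = uA i ≫ incl (ξ i) ≫ mulRat (ξ i) (f i) := pullback.condition.symm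
    have h2 := twist_comm hL (hs (ξ i)) (hτ i) (f i) (uA i) (vA i) h1
    simp only [Category.assoc]
    rw [h1, show vA' i ≫ τ i = uA' i ≫ τ i ≫ mulRat (ξ i) (f i) from h2, ← reassoc_of% (hcond i)])
  have hu₀ : ∀ i, u₀ i ≫ uB i = p i ≫ uA i ∧ u₀ i ≫ vB i = p' i ≫ uA' i := fun i =>
    ⟨pullback.lift_fst _ _ _, pullback.lift_snd _ _ _⟩
  have hv₀ : ∀ i, v₀ i ≫ uB i = p i ≫ vA i ∧ v₀ i ≫ vB i = p' i ≫ vA' i := fun i =>
    ⟨pullback.lift_fst _ _ _, pullback.lift_snd _ _ _⟩
  have hM : ∀ i, IsPullback ((St (ξ i)).map (uB i)) ((St (ξ i)).map (vB i)) ((St (ξ i)).map (incl (ξ i)))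
      ((St (ξ i)).map (τ i)) := fun i => (IsPullback.of_hasPullback _ _).map (St (ξ i))
  haveI := fun i => (hM i).isIso_fst_of_isIso
  haveI := fun i => (hM i).isIso_snd_of_isIso
  haveI : ∀ i, IsIso ((St (ξ i)).map (uA i ≫ incl (ξ i))) := fun i => by rw [Functor.map_comp]; infer_instance
  haveI : ∀ i, IsIso ((St (ξ i)).map (uA' i ≫ τ i)) := fun i => by rw [Functor.map_comp]; infer_instance
  have hP : ∀ i, IsPullback ((St (ξ i)).map (p i)) ((St (ξ i)).map (p' i)) ((St (ξ i)).map (uA i ≫ incl (ξ i)))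
      ((St (ξ i)).map (uA' i ≫ τ i)) := fun i => (IsPullback.of_hasPullback _ _).map (St (ξ i))
  haveI := fun i => (hP i).isIso_fst_of_isIso
  haveI := fun i => (hP i).isIso_snd_of_isIso
  have hiu : ∀ i, IsIso ((St (ξ i)).map (u₀ i)) := fun i => by
    haveI : IsIso ((St (ξ i)).map (u₀ i) ≫ (St (ξ i)).map (uB i)) := by
      rw [← Functor.map_comp, (hu₀ i).1, Functor.map_comp]; infer_instance
    exact IsIso.of_isIso_comp_right _ ((St (ξ i)).map (uB i))
  have hiv : ∀ i, IsIso ((St (ξ i)).map (v₀ i)) := fun i => by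
    haveI : IsIso ((St (ξ i)).map (v₀ i) ≫ (St (ξ i)).map (uB i)) := by
      rw [← Functor.map_comp, (hv₀ i).1, Functor.map_comp]; infer_instance
    exact IsIso.of_isIso_comp_right _ ((St (ξ i)).map (uB i))
  have hA : ∀ i, Supp (ξ i) (A i) := fun i => ⟨isCoh_denom _ _, fun x h => isZero_denom_st _ h⟩
  have hB : ∀ i, Supp (ξ i) (B i) := fun i => ⟨isCoh_integers _, fun x h => isZero_integers_st h⟩
  have hA' : ∀ i, Supp (ξ i) (A' i) := fun i => (hA i).twist hL
  have hB' : ∀ i, Supp (ξ i) (B' i) := fun i => (hB i).twist hL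
  have hMs : ∀ i, Supp (ξ i) (M i) := fun i => ⟨isCoh_pullback (hB i).1 (hB' i).1 _ _,
    fun x h => IsZero.of_mono ((St x).map (uB i)) (isZero_integers_st h)⟩
  have hPc : ∀ i, Coh.IsCoh (P i) := fun i => isCoh_pullback (hA i).1 (hA' i).1 _ _
  haveI : ∀ i, Mono (uB i) := fun i => inferInstance
  haveI : ∀ i, Mono (vB i) := fun i => inferInstance
  haveI := mono_sigma_map uA fun i => inferInstance
  haveI := mono_sigma_map vA fun i => inferInstance
  haveI := mono_sigma_map uA' fun i => inferInstance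
  haveI := mono_sigma_map vA' fun i => inferInstance
  haveI := mono_sigma_map uB fun i => inferInstance
  haveI := mono_sigma_map vB fun i => inferInstance
  let q := fun F : X.Modules => Cyc.toK0CohQuot δ (k + 1) (k - 1) F
  have sq : ∀ {F G H K : ι → X.Modules} (a : ∀ i, F i ⟶ G i) (b : ∀ i, G i ⟶ H i) (c : ∀ i, F i ⟶ K i)
      (d : ∀ i, K i ⟶ H i), (∀ i, a i ≫ b i = c i ≫ d i) → Mono (Limits.Sigma.map b) → Mono (Limits.Sigma.map d) →
      (∀ i, Coh.IsCoh (F i)) → (∀ i, Supp (ξ i) (G i)) → (∀ i, Supp (ξ i) (H i)) → (∀ i, Supp (ξ i) (K i)) →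
      (∀ i, IsIso ((St (ξ i)).map (a i))) → (∀ i, IsIso ((St (ξ i)).map (b i))) →
      (∀ i, IsIso ((St (ξ i)).map (c i))) → (∀ i, IsIso ((St (ξ i)).map (d i))) →
      q (cokernel (Limits.Sigma.map a)) + q (cokernel (Limits.Sigma.map b)) =
        q (cokernel (Limits.Sigma.map c)) + q (cokernel (Limits.Sigma.map d)) := by
    intro F G H K a b c d he hmb hmd hF hG hH hK ia ib ic id'
    have e : Limits.Sigma.map a ≫ Limits.Sigma.map b = Limits.Sigma.map c ≫ Limits.Sigma.map d :=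
      Sigma.hom_ext _ _ fun i => by
        rw [Sigma.ι_map_assoc, Sigma.ι_map, Sigma.ι_map_assoc, Sigma.ι_map, ← Category.assoc, ← Category.assoc, he i]
    have e1 : Limits.Sigma.map a ≫ Limits.Sigma.map b = Limits.Sigma.map fun i => a i ≫ b i :=
      Sigma.hom_ext _ _ fun i => by simp
    have hab : Cyc.CohLe δ (k + 1) (cokernel (Limits.Sigma.map a ≫ Limits.Sigma.map b)) := by
      rw [e1]
      exact coh _ hF hH fun i => by
        haveI := ia i; haveI := ib i
        rw [Functor.map_comp]; infer_instance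
    have h1 := q_comp (b := k - 1) (Limits.Sigma.map a) (Limits.Sigma.map b) (coh a hF hG ia) hab
      (coh b (fun i => (hG i).1) hH ib)
    have h2 := q_comp (b := k - 1) (Limits.Sigma.map c) (Limits.Sigma.map d) (coh c hF hK ic)
      (e ▸ hab) (coh d (fun i => (hK i).1) hH id')
    exact h1.symm.trans ((q_iso (cokernelIsoOfEq e)).trans h2)
  have s1 := sq u₀ uB p uA (fun i => (hu₀ i).1) inferInstance inferInstance hPc hMs hB hA hiu
    (fun i => inferInstance) (fun i => inferInstance) (fun i => inferInstance)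
  have s2 := sq u₀ vB p' uA' (fun i => (hu₀ i).2) inferInstance inferInstance hPc hMs hB' hA' hiu
    (fun i => inferInstance) (fun i => inferInstance) (fun i => inferInstance)
  have s3 := sq v₀ uB p vA (fun i => (hv₀ i).1) inferInstance inferInstance hPc hMs hB hA hiv
    (fun i => inferInstance) (fun i => inferInstance) (fun i => inferInstance)
  have s4 := sq v₀ vB p' vA' (fun i => (hv₀ i).2) inferInstance inferInstance hPc hMs hB' hA' hiv
    (fun i => inferInstance) (fun i => inferInstance) (fun i => inferInstance)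
  have et : ∀ {F G : ι → X.Modules} (φ : ∀ i, F i ⟶ G i), (∀ i, Mono (φ i)) →
      q ((twist L).obj (∐ fun i => cokernel (φ i))) =
        q (cokernel (Limits.Sigma.map fun i => (twist L).map (φ i))) := by
    intro F G φ hφ
    obtain ⟨σ⟩ := nonempty_twist_sigma hL fun i => cokernel (φ i)
    exact q_iso (σ.symm ≪≫ Limits.Sigma.mapIso (fun i => nonempty_twist_coker hL (φ i) |>.some) ≪≫
      (nonempty_coker_sigma fun i => (twist L).map (φ i)).some.symm)
  show q ((twist L).obj (∐ fun i => cokernel (vA i))) - q (∐ fun i => cokernel (vA i)) =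
    q ((twist L).obj (∐ fun i => cokernel (uA i))) - q (∐ fun i => cokernel (uA i))
  rw [et vA (fun i => inferInstance), et uA (fun i => inferInstance), show q (∐ fun i => cokernel (vA i)) = q (cokernel (Limits.Sigma.map vA)) from
      q_iso (nonempty_coker_sigma vA).some.symm,
    show q (∐ fun i => cokernel (uA i)) = q (cokernel (Limits.Sigma.map uA)) from
      q_iso (nonempty_coker_sigma uA).some.symm, sub_eq_sub_iff_add_eq_add]
  have r := congrArg₂ (· + ·) (congrArg₂ (· - ·) s2 s1) (congrArg₂ (· - ·) s3 s4)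
  have e0 : (0 : Cyc.K0CohQuot δ (k + 1) (k - 1)) =
      (q (cokernel (Limits.Sigma.map uA')) + q (cokernel (Limits.Sigma.map vA))) -
        (q (cokernel (Limits.Sigma.map vA')) + q (cokernel (Limits.Sigma.map uA))) := by
    refine Eq.trans ?_ (r.trans (by abel))
    abel
  exact (sub_eq_zero.1 e0.symm).symm

set_option maxHeartbeats 1000000 in
/-- The first Chern class of a cycle rationally equivalent to zero is rationally equivalent to zero. -/
theorem c1Cap_ratEquivZero (hX : Cyc.IsSetup X δ) (hL : PicF.IsInvertible L) {α : AlgebraicCycle X ℤ}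
    (h0 : Cyc.RatEquivZero δ (k + 1) α) (s : (x : X) → Cyc.secFibre L x) (hs : ∀ x, s x ≠ 0)
    (γ : AlgebraicCycle X ℤ) (hγk : γ ∈ Cyc.Zk X δ k) (hγ : ⇑γ = Cyc.c1CapFun δ L ⇑α s) :
    Cyc.RatEquivZero δ k γ := by
  classical
  obtain ⟨ι, ξ, f, hξ, hf, hloc, hsum⟩ := h0
  have hδ := hX.2.2
  have hcpt : ∀ V : X.affineOpens, {i | (closure {ξ i} ∩ (V.1 : Set X)).Nonempty}.Finite := fun V => by
    choose U hU hxU hfin using hloc
    obtain ⟨t, ht⟩ := V.2.isCompact.elim_finite_subcover U hU fun x _ => Set.mem_iUnion.2 ⟨x, hxU x⟩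
    refine (t.finite_toSet.biUnion fun x _ => hfin x).subset ?_
    rintro i ⟨y, hy, hyV⟩
    obtain ⟨x, hxs, hyx⟩ := Set.mem_iUnion₂.1 (ht hyV)
    exact Set.mem_biUnion hxs ⟨y, hy, hyx⟩
  have hpt : ∀ x : X, {i | ξ i ⤳ x}.Finite := fun x => by
    obtain ⟨U, -, hxU, hfin⟩ := hloc x
    exact hfin.subset fun i hi => ⟨x, specializes_iff_mem_closure.1 hi, hxU⟩
  let CU := fun i => cU (ξ i) (f i)
  let CV := fun i => cV (ξ i) (f i)
  have hc := fun i => cohLe_coker hδ (show δ (ξ i) = (k + 1) + 1 from hξ i) (hf i)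
  have coh : ∀ (F : ι → X.Modules), (∀ i, Cyc.CohLe δ (k + 1) (F i)) →
      (∀ i x, ¬ ξ i ⤳ x → IsZero ((St x).obj (F i))) → Cyc.CohLe δ (k + 1) (∐ F) := fun F hF hz => by
    refine (cohLe_iff δ (k + 1)).2 ⟨isCoh_sigma F (fun i => (hF i).1) fun V => ⟨(hcpt V).toFinset, fun i hi x hx =>
      hz i x fun hsp => hi ((hcpt V).mem_toFinset.2 ⟨x, specializes_iff_mem_closure.1 hsp, hx⟩)⟩,
      fun x hx => isZero_st_sigma F x fun i => ((cohLe_iff δ (k + 1)).1 (hF i)).2 x hx⟩
  have hU : Cyc.CohLe δ (k + 1) (∐ CU) := coh CU (fun i => (hc i).1) fun i x h => (isZero_coker_st _ h).1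
  have hV : Cyc.CohLe δ (k + 1) (∐ CV) := coh CV (fun i => (hc i).2) fun i x h => (isZero_coker_st _ h).2
  have hdiv : ∀ x, α x = Cyc.sheafFun δ (k + 1) (∐ CV) x - Cyc.sheafFun δ (k + 1) (∐ CU) x := fun x => by
    have hz : ∀ i, i ∉ (hpt x).toFinset → ¬ ξ i ⤳ x := fun i hi h => hi ((hpt x).mem_toFinset.2 h)
    rw [hsum x, finsum_eq_sum_of_support_subset _ (s := (hpt x).toFinset) fun i hi => ?_,
      sheafFun_sigma hδ CV (fun i => (hc i).2) x _ fun i hi => (isZero_coker_st _ (hz i hi)).2,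
      sheafFun_sigma hδ CU (fun i => (hc i).1) x _ fun i hi => (isZero_coker_st _ (hz i hi)).1,
      ← Finset.sum_sub_distrib]
    · exact Finset.sum_congr rfl fun i _ => divFun_eq hδ (hξ i) (hf i) x
    · rw [Set.Finite.coe_toFinset]
      exact (CycDeg.divFun_delta hi).1
  obtain ⟨γV, hγV⟩ := exists_capCycle hX hL hV s hs
  obtain ⟨γU, hγU⟩ := exists_capCycle hX hL hU s hs
  have hkV : γV ∈ Cyc.Zk X δ k := capCycle_mem hγV
  have hkU : γU ∈ Cyc.Zk X δ k := capCycle_mem hγU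
  have hlin : ∀ x, γ x = γV x - γU x := fun x => by
    rw [hγ, hγV, hγU]
    exact c1CapFun_sub_apply hdiv (finite_gen_sheafFun hδ hV x) (finite_gen_sheafFun hδ hU x)
  have key := twist_principal (k := k) hX hL ξ f (fun i => by rw [hξ i]; ring) hf s hs hcpt
  rw [q_twist_sub (k := k) hX hL hV s hs γV hkV hγV, q_twist_sub (k := k) hX hL hU s hs γU hkU hγU] at key
  exact ratEquivZero_of_class hX hγk (q_cycle_sub hX hγk hkV hkU hlin key)

end Groth.Agent.CycK0
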