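import Groth.Agent.CycK0.GysMain
import Groth.Agent.CycK0.C1Rat
import Groth.Agent.S1918

/-!
The Gysin map respects rational equivalence.
-/

set_option autoImplicit false
set_option linter.unusedSectionVars false
set_option linter.style.haveILetI false
set_option backward.isDefEq.respectTransparency false
set_option backward.isDefEq.respectTransparency.types false

universe u

open CategoryTheory CategoryTheory.Limits AlgebraicGeometry TopologicalSpace Opposite
open Groth.Agent.K0Dev (St)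
open Groth.Agent.CDivNormal (genPrime)
open Groth.Agent.WeakAssLib (mgerm)

noncomputable section

attribute [local instance] Abelian.hasFiniteBiproducts

namespace Groth.Agent.CycK0

variable {X D : Scheme.{u}} [IsLocallyNoetherian X] {δ : X → ℤ} {k : ℤ}
variable {L : X.Modules} {s : Γ(L, (⊤ : X.Opens))} {i : D ⟶ X} [IsClosedImmersion i]

/-- The section stays regular on submodules. -/
lemma regular_of_mono {P Q : X.Modules} (φ : P ⟶ Q) [Mono φ]
    (hreg : ∀ (x : X) {A : X.Opens} {e : Γ(L, A)}, TMul.IsGen e → ∀ (hx : x ∈ A) (c : X.presheaf.stalk x),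
      mgerm L (show x ∈ (⊤ : X.Opens) from trivial) s = c • mgerm L hx e →
        ∀ m : Q.presheaf.stalk x, c • m = 0 → m = 0)
    (x : X) {A : X.Opens} {e : Γ(L, A)} (he : TMul.IsGen e) (hx : x ∈ A) (c : X.presheaf.stalk x)
    (hc : mgerm L (show x ∈ (⊤ : X.Opens) from trivial) s = c • mgerm L hx e) (m : P.presheaf.stalk x)
    (hm : c • m = 0) : m = 0 :=
  (injective_iff_map_eq_zero _).1 ((ModuleCat.mono_iff_injective ((St x).map φ)).1 inferInstance) m
    (hreg x he hx c hc _ ((map_smul ((St x).map φ).hom c m).symm.trans ((congrArg _ hm).trans (map_zero _))))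

set_option maxHeartbeats 1000000 in
/-- The two presentations of a principal divisor with all components outside the zero scheme have the same class. -/
theorem gy_principal (hX : Cyc.IsSetup X δ) (hL : PicF.IsInvertible L) (hD : Cyc.IsZeroSchemeOf i L s)
    {ι : Type u} (ξ : ι → X) (f : (j : ι) → X.residueField (ξ j)) (hξ : ∀ j, δ (ξ j) = (k + 1) + 1)
    (hf : ∀ j, f j ≠ 0) (hout : ∀ j, ξ j ∉ Set.range i)
    (hcpt : ∀ V : X.affineOpens, {j | (closure {ξ j} ∩ (V.1 : Set X)).Nonempty}.Finite) :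
    gy s δ k i (∐ fun j => cU (ξ j) (f j)) = gy s δ k i (∐ fun j => cV (ξ j) (f j)) := by
  have hδ := hX.2.2
  have hpt : ∀ x : X, {j | ξ j ⤳ x}.Finite := fun x => by
    obtain ⟨U, hU, hxU, -⟩ := exists_isAffineOpen_mem_and_subset (x := x) (U := (⊤ : X.Opens)) trivial
    exact (hcpt ⟨U, hU⟩).subset fun j hj => ⟨x, specializes_iff_mem_closure.1 hj, hxU⟩
  let M := fun j => denom (ξ j) (f j)
  let N := fun j => integers (ξ j)
  have hcohS : ∀ F : ι → X.Modules, (∀ j, Coh.IsCoh (F j)) → (∀ j x, ¬ ξ j ⤳ x → IsZero ((St x).obj (F j))) →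
      Coh.IsCoh (∐ F) := fun F hF hz =>
    isCoh_sigma F hF fun V => ⟨(hcpt V).toFinset, fun j hj x hx => hz j x fun hsp =>
      hj ((hcpt V).mem_toFinset.2 ⟨x, specializes_iff_mem_closure.1 hsp, hx⟩)⟩
  have hd : ∀ j y, y ∈ Set.range i → k + 1 < δ y → ¬ ξ j ⤳ y := fun j y hy hk h => by
    have hne : ξ j ≠ y := fun e => hout j (e ▸ hy)
    have := (hδ _ _ h hne).1
    have := hξ j
    omega
  have hNc := hcohS N (fun j => isCoh_integers _) fun j x => isZero_integers_st
  have hMc := hcohS M (fun j => isCoh_denom _ _) fun j x => isZero_denom_st _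
  have hregN : ∀ (x : X) {A : X.Opens} {e : Γ(L, A)}, TMul.IsGen e → ∀ (hx : x ∈ A) (c : X.presheaf.stalk x),
      mgerm L (show x ∈ (⊤ : X.Opens) from trivial) s = c • mgerm L hx e →
        ∀ m : (∐ N).presheaf.stalk x, c • m = 0 → m = 0 := fun x A e he hx c hc m hm =>
    sigma_integers_reg ξ x (hpt x) c (fun j h hcm => hout j ((mem_genPrime_iff_mem_range hD h he hx hc).1 hcm)) m hm
  haveI : Mono (Limits.Sigma.map fun j => dFst (ξ j) (f j)) := mono_sigma_map _ fun j => mono_dFst _ _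
  haveI : Mono (Limits.Sigma.map fun j => dSnd (ξ j) (f j)) := mono_sigma_map _ fun j => mono_dSnd (hf j)
  have kZ : ∀ {Q : X.Modules}, IsZero (gK s Q) → KillLe i δ k (gK s Q) := fun h =>
    ⟨⟨fun x _ => (St x).map_isZero h, fun d a _ m => by
      haveI := ModuleCat.subsingleton_of_isZero ((St (i d)).map_isZero h)
      exact @Subsingleton.elim _ ‹_› _ _⟩, cohLe_of_isZero h⟩
  have cB : ∀ (F : ι → X.Modules), Coh.IsCoh (∐ F) → (∀ j x, ¬ ξ j ⤳ x → IsZero ((St x).obj (F j))) →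
      KillLe i δ k (gC s (∐ F)) := fun F hF hz => by
    haveI := hF.1
    have hT : Coh.IsCoh ((twist L).obj (∐ F)) := ⟨TMul.isQCoh_tensor hL, TMul.isFT_tensor hL hF.2⟩
    refine ⟨(killed_gK_gC hL hD _).2, (cohLe_iff δ _).2 ⟨QC.isCoh_cokernel hF.1 hT _, fun y hy => ?_⟩⟩
    by_cases hyi : y ∈ Set.range i
    · refine IsZero.of_epi ((St y).map (cokernel.π ((sigT s).app (∐ F)))) ?_
      exact (isZero_st_sigma F y fun j => hz j y (hd j y hyi hy)).of_iso ((exists_twistStIso hL y).some.app (∐ F))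
    · exact (killed_gK_gC hL hD (∐ F)).2.1 y hyi
  have kN := kZ (isZero_gK (s := s) hL hregN)
  have kM := kZ (isZero_gK (s := s) hL (regular_of_mono (Limits.Sigma.map fun j => dFst (ξ j) (f j)) hregN))
  have cN := cB N hNc fun j x => isZero_integers_st
  have cM := cB M hMc fun j x => isZero_denom_st _
  have hc := fun j => cohLe_coker hδ (hξ j) (hf j)
  have hC : ∀ (C : ι → X.Modules), (∀ j, Cyc.CohLe δ (k + 1) (C j)) →
      (∀ j x, ¬ ξ j ⤳ x → IsZero ((St x).obj (C j))) → Cyc.CohLe δ (k + 1) (∐ C) := fun C hC hz =>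
    (cohLe_iff δ _).2 ⟨hcohS C (fun j => (hC j).1) hz,
      fun x hx => isZero_st_sigma C x fun j => ((cohLe_iff δ _).1 (hC j)).2 x hx⟩
  have one : ∀ (φ : ∀ j, M j ⟶ N j), Mono (Limits.Sigma.map φ) →
      Cyc.CohLe δ (k + 1) (∐ fun j => cokernel (φ j)) →
      gy s δ k i (∐ N) = gy s δ k i (∐ M) + gy s δ k i (∐ fun j => cokernel (φ j)) := fun φ hmono hQ => by
    haveI := hmono
    let S := ShortComplex.mk (Limits.Sigma.map φ) (cokernel.π (Limits.Sigma.map φ)) (cokernel.condition _)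
    have hS : S.ShortExact := { exact := ShortComplex.exact_of_g_is_cokernel _ (cokernelIsCokernel _) }
    have e := (nonempty_coker_sigma φ).some
    have hQ' : Cyc.CohLe δ (k + 1) (cokernel (Limits.Sigma.map φ)) := cohLe_of_iso e.symm hQ
    have h3 := killLe_gK_gC (δ := δ) (k := k) hL hD hQ'
    have h : gy s δ k i (∐ N) = gy s δ k i (∐ M) + gy s δ k i (cokernel (Limits.Sigma.map φ)) :=
      gy_add' (S := S) hL hS kM kN h3.1 cM cN h3.2
    rw [h, gy_congr hX hL hD hQ' hQ (q_iso e)]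
  have e1 := one (fun j => dFst (ξ j) (f j)) inferInstance
    (hC _ (fun j => (hc j).1) fun j x h => (isZero_coker_st _ h).1)
  have e2 := one (fun j => dSnd (ξ j) (f j)) inferInstance
    (hC _ (fun j => (hc j).2) fun j x h => (isZero_coker_st _ h).2)
  exact add_left_cancel (e1.symm.trans e2)

omit [IsLocallyNoetherian X] in
/-- The restriction of a cycle to a closed subscheme. -/
lemma exists_comap (c : AlgebraicCycle X ℤ) : ∃ γ : AlgebraicCycle D ℤ, ∀ d, γ d = c (i d) :=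
  ⟨{ toFun := fun d => c (i d)
     supportWithinDomain' := Set.subset_univ _
     supportLocallyFiniteWithinDomain' := fun z _ => by
      obtain ⟨t, ht, hfin⟩ := c.supportLocallyFiniteWithinDomain' (i z) trivial
      exact ⟨i ⁻¹' t, i.continuous.continuousAt.preimage_mem_nhds ht,
        (hfin.preimage i.isClosedEmbedding.injective.injOn).subset fun d hd => ⟨hd.1, hd.2⟩⟩ }, fun _ => rfl⟩

set_option maxHeartbeats 1000000 in
/-- The Gysin map respects rational equivalence. -/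
theorem gysin_ratEquivZero (hX : Cyc.IsSetup X δ) (hL : PicF.IsInvertible L) (hD : Cyc.IsZeroSchemeOf i L s)
    {α : AlgebraicCycle X ℤ} (h0 : Cyc.RatEquivZero δ (k + 1) α) (w : (ξ : X) → Cyc.secFibre L ξ)
    (hw : ∀ ξ, w ξ ≠ 0) (γ : AlgebraicCycle D ℤ)
    (hγ : ∀ d, γ d = Cyc.c1CapFun δ L ⇑α (Cyc.gysinChoice L s w) (i d)) :
    Cyc.RatEquivZero (fun d => δ (i d)) k γ := by
  classical
  haveI : IsLocallyNoetherian D := LocallyOfFiniteType.isLocallyNoetherian i
  obtain ⟨ι, ξ, f, hξ, hf, hloc, hsum⟩ := h0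
  have hδ := hX.2.2
  have hDs := isSetup_closed i hX
  let v := Cyc.gysinChoice L s w
  have hv : ∀ x, v x ≠ 0 := gysinChoice_ne_zero hw
  have hpt : ∀ x : X, {j | ξ j ⤳ x}.Finite := fun x => by
    obtain ⟨U, -, hxU, hfin⟩ := hloc x
    exact hfin.subset fun j hj => ⟨x, specializes_iff_mem_closure.1 hj, hxU⟩
  -- the part on the zero scheme
  let P : ι → Prop := fun j => ξ j ∈ Set.range i
  obtain ⟨ρ, hρ0, hρ, hρk⟩ := S1918.exists_part i hδ (k + 1) ξ f P (fun j h => h) hξ hf hloc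
  let αi : X → ℤ := fun x => ∑ᶠ j : {j // P j}, Cyc.divFun δ (ξ j.1) (f j.1) x
  have hαi : ∀ x, αi x ≠ 0 → x ∈ Set.range i := fun x hx => by
    obtain ⟨j, hj⟩ : ∃ j : {j // P j}, Cyc.divFun δ (ξ j.1) (f j.1) x ≠ 0 := by
      by_contra! h
      exact hx (finsum_eq_zero_of_forall_eq_zero h)
    exact (CycDeg.divFun_delta hj).1.mem_closed i.isClosedEmbedding.isClosed_range j.2
  let L' := (Scheme.Modules.pullback i).obj L
  have hL' : PicF.IsInvertible L' := PicLoc.isInvertible_pullback i hL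
  let t : (d : D) → Cyc.secFibre L' d := fun d => CycSec.secPull i d (v (i d))
  have ht : ∀ d, t d ≠ 0 := fun d => CycSec.secPull_ne_zero i hL d (hv (i d))
  obtain ⟨γi, hγi⟩ := secFin hDs hL' ρ t ht
  have hik : γi ∈ Cyc.Zk D (fun d => δ (i d)) k :=
    cap_mem (m := k) (fun d hd => by_contra fun h => hd (hρk d h)) hγi
  have hi0 : Cyc.RatEquivZero (fun d => δ (i d)) k γi := c1Cap_ratEquivZero hDs hL' hρ0 t ht γi hik hγi
  have hgi : ∀ d, γi d = Cyc.c1CapFun δ L αi v (i d) := fun d => by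
    rw [hγi, c1Cap_closed i hδ hL αi hαi v (fun x _ => hv x) d]
    exact congrFun (congrArg (fun a => Cyc.c1CapFun (fun d => δ (i d)) L' a t) (funext fun e => hρ e)) d
  -- the part off the zero scheme
  let κ := {j // ¬ P j}
  let ζ : κ → X := fun j => ξ j.1
  let g : (j : κ) → X.residueField (ζ j) := fun j => f j.1
  have hcpt : ∀ V : X.affineOpens, {j : κ | (closure {ζ j} ∩ (V.1 : Set X)).Nonempty}.Finite := fun V => by
    choose U hU hxU hfin using hloc
    obtain ⟨c, hc⟩ := V.2.isCompact.elim_finite_subcover U hU fun x _ => Set.mem_iUnion.2 ⟨x, hxU x⟩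
    refine Set.Finite.subset ((c.finite_toSet.biUnion fun x _ => hfin x).preimage Subtype.val_injective.injOn) ?_
    rintro j ⟨y, hy, hyV⟩
    obtain ⟨x, hxc, hyx⟩ := Set.mem_iUnion₂.1 (hc hyV)
    exact Set.mem_biUnion hxc ⟨y, hy, hyx⟩
  let CU := fun j : κ => cU (ζ j) (g j)
  let CV := fun j : κ => cV (ζ j) (g j)
  have hc := fun j : κ => cohLe_coker hδ (show δ (ζ j) = (k + 1) + 1 from hξ j.1) (hf j.1)
  have coh : ∀ (C : κ → X.Modules), (∀ j, Cyc.CohLe δ (k + 1) (C j)) →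
      (∀ j x, ¬ ζ j ⤳ x → IsZero ((St x).obj (C j))) → Cyc.CohLe δ (k + 1) (∐ C) := fun C hC hz =>
    (cohLe_iff δ (k + 1)).2 ⟨isCoh_sigma C (fun j => (hC j).1) fun V => ⟨(hcpt V).toFinset, fun j hj x hx =>
      hz j x fun hsp => hj ((hcpt V).mem_toFinset.2 ⟨x, specializes_iff_mem_closure.1 hsp, hx⟩)⟩,
      fun x hx => isZero_st_sigma C x fun j => ((cohLe_iff δ (k + 1)).1 (hC j)).2 x hx⟩
  have hU : Cyc.CohLe δ (k + 1) (∐ CU) := coh CU (fun j => (hc j).1) fun j x h => (isZero_coker_st _ h).1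
  have hV : Cyc.CohLe δ (k + 1) (∐ CV) := coh CV (fun j => (hc j).2) fun j x h => (isZero_coker_st _ h).2
  have hsplit : ∀ x, α x = αi x + (Cyc.sheafFun δ (k + 1) (∐ CV) x - Cyc.sheafFun δ (k + 1) (∐ CU) x) := fun x => by
    let T := (hpt x).toFinset
    have hz : ∀ j : κ, j ∉ T.subtype _ → ¬ ζ j ⤳ x := fun j hj h =>
      hj (Finset.mem_subtype.2 ((hpt x).mem_toFinset.2 h))
    have hsupp : ∀ j, Cyc.divFun δ (ξ j) (f j) x ≠ 0 → j ∈ T :=
      fun j hj => (hpt x).mem_toFinset.2 (CycDeg.divFun_delta hj).1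
    rw [hsum x, finsum_eq_sum_of_support_subset _ (s := T) fun j hj => hsupp j hj,
      show αi x = _ from finsum_eq_sum_of_support_subset _ (s := T.subtype P) fun j hj =>
        Finset.mem_subtype.2 (hsupp j.1 hj),
      sheafFun_sigma hδ CV (fun j => (hc j).2) x _ fun j hj => (isZero_coker_st _ (hz j hj)).2,
      sheafFun_sigma hδ CU (fun j => (hc j).1) x _ fun j hj => (isZero_coker_st _ (hz j hj)).1,
      ← Finset.sum_sub_distrib, ← Finset.sum_filter_add_sum_filter_not T P, ← Finset.sum_subtype_eq_sum_filter,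
      ← Finset.sum_subtype_eq_sum_filter]
    exact congrArg₂ (· + ·) rfl (Finset.sum_congr rfl fun j _ => divFun_eq hδ (hξ j.1) (hf j.1) x)
  obtain ⟨cV', hcV⟩ := exists_capCycle hX hL hV v hv
  obtain ⟨cU', hcU⟩ := exists_capCycle hX hL hU v hv
  obtain ⟨γV, hγV⟩ := exists_comap (i := i) cV'
  obtain ⟨γU, hγU⟩ := exists_comap (i := i) cU'
  obtain ⟨hVk, eV⟩ := gy_eq_qc (k := k) hX hL hD hV w hw γV fun d => by rw [hγV, hcV]
  obtain ⟨hUk, eU⟩ := gy_eq_qc (k := k) hX hL hD hU w hw γU fun d => by rw [hγU, hcU]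
  have hfinα : ∀ x, {ξ : X | ξ ⤳ x ∧ α ξ ≠ 0}.Finite := fun x => by
    obtain ⟨U, hU', hxU, -⟩ := exists_isAffineOpen_mem_and_subset (x := x) (U := (⊤ : X.Opens)) trivial
    exact (cycle_finite_affine α hU').subset fun y hy => ⟨hy.1.mem_open U.2 hxU, hy.2⟩
  let ao : X → ℤ := fun x => Cyc.sheafFun δ (k + 1) (∐ CV) x - Cyc.sheafFun δ (k + 1) (∐ CU) x
  have hao : ∀ x, {ξ : X | ξ ⤳ x ∧ ao ξ ≠ 0}.Finite := fun x =>
    ((finite_gen_sheafFun hδ hV x).union (finite_gen_sheafFun hδ hU x)).subset fun y hy => by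
      by_cases h : Cyc.sheafFun δ (k + 1) (∐ CV) y = 0
      · exact Or.inr ⟨hy.1, fun h' => hy.2 (by simp [ao, h, h'])⟩
      · exact Or.inl ⟨hy.1, h⟩
  have hdec : ∀ d, γi d = γ d - (γV d - γU d) := fun d => by
    rw [hgi, hγ, hγV, hγU, hcV, hcU,
      ← c1CapFun_sub_apply (a := ao) (fun _ => rfl) (finite_gen_sheafFun hδ hV (i d))
        (finite_gen_sheafFun hδ hU (i d))]
    exact c1CapFun_sub_apply (fun x => by rw [hsplit x]; exact (add_sub_cancel_right _ _).symm) (hfinα _) (hao _)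
  have hk : γ ∈ Cyc.Zk D (fun d => δ (i d)) k := fun d hd => by
    have := hdec d
    rw [hik d hd, hVk d hd, hUk d hd] at this
    omega
  refine ratEquivZero_of_class hDs hk ?_
  have hw' : ∀ d, (γV - γU) d = γV d - γU d := fun d => rfl
  have hwk : γV - γU ∈ Cyc.Zk D (fun d => δ (i d)) k := fun d hd => by
    rw [hw', hVk d hd, hUk d hd, sub_zero]
  have h1 := qc_sub hDs hwk hVk hUk hw'
  rw [eV, eU, gy_principal hX hL hD ζ g (fun j => hξ j.1) (fun j => hf j.1) (fun j => j.2) hcpt, sub_self] at h1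
  have h2 := qc_sub hDs hik hk hwk (fun d => by rw [hdec, hw'])
  rw [h1, sub_zero, show qc (fun d => δ (i d)) k ⇑γi = 0 from sub_eq_zero.2 (q_pos_eq_neg hDs hik hi0)] at h2
  exact sub_eq_zero.1 h2.symm

end Groth.Agent.CycK0
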