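import Groth.Agent.CycK0.GysSec
import Groth.Agent.CycK0.GysRat
import Groth.Agent.CycDim.CapPull
import Groth.Agent.CycDim.PushRat
import Groth.Agent.CycDim.DegBase
import Groth.Agent.CycDim.RelDim

/-!
Gysin maps, proper push forward and flat pull back.
-/

set_option autoImplicit false
set_option linter.unusedSectionVars false
set_option linter.style.haveILetI false
set_option backward.isDefEq.respectTransparency false
set_option backward.isDefEq.respectTransparency.types false

universe u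

open CategoryTheory CategoryTheory.Limits AlgebraicGeometry TopologicalSpace Opposite
open Groth.Agent.EquidimPt (IsFibMax)
open Groth.Agent.CycSec (secPull secPull_ne_zero push_secPull finite_secDivFun secDivFun_support)

noncomputable section

namespace Groth.Agent.CycK0

variable {X Y : Scheme.{u}}

/-- The push forward of the cap with pulled back sections is the cap of the push forward. -/
theorem push_c1CapFun [IsLocallyNoetherian X] [IsLocallyNoetherian Y] (p : X ⟶ Y) [IsProper p] {δX : X → ℤ}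
    {δY : Y → ℤ} (hX : Cyc.IsDimFun X δX) (hY : Cyc.IsDimFun Y δY) (hδ : Cyc.DeltaCompat p δX δY) {L : Y.Modules}
    (hL : PicF.IsInvertible L) (α : AlgebraicCycle X ℤ) (v : (η : Y) → Cyc.secFibre L η) (hv : ∀ η, v η ≠ 0) (y : Y) :
    (∑ᶠ x ∈ (p ⁻¹' {y} : Set X), Cyc.c1CapFun δX ((Scheme.Modules.pullback p).obj L) ⇑α
        (fun ξ => secPull p ξ (v (p ξ))) x * (AlgebraicCycle.mapCoeff p δX δY x : ℤ)) =
      Cyc.c1CapFun δY L ⇑(AlgebraicCycle.map p δX δY α) v y := by
  classical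
  let M := (Scheme.Modules.pullback p).obj L
  have hL' : PicF.IsInvertible M := PicLoc.isInvertible_pullback p hL
  let u₀ : (ξ : X) → Cyc.secFibre M ξ := fun ξ => secPull p ξ (v (p ξ))
  have hu₀ : ∀ ξ, u₀ ξ ≠ 0 := fun ξ => secPull_ne_zero p hL ξ (hv _)
  let γ₀ : X → ℤ := Cyc.c1CapFun δX M ⇑α u₀
  let w : X → ℤ := fun x => (AlgebraicCycle.mapCoeff p δX δY x : ℤ)
  obtain ⟨V, hV, hyV, -⟩ := exists_isAffineOpen_mem_and_subset (x := y) (U := (⊤ : Y.Opens)) trivial
  have hK : IsCompact (p ⁻¹' (V : Set Y)) := QuasiCompact.isCompact_preimage (f := p) V V.2 hV.isCompact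
  show (∑ᶠ x ∈ (p ⁻¹' {y} : Set X), γ₀ x * w x) =
    ∑ᶠ η, (∑ᶠ ξ ∈ (p ⁻¹' {η} : Set X), α ξ * w ξ) * Cyc.secDivFun δY L η (v η) y
  let D : X → X → ℤ := fun ξ x => Cyc.secDivFun δX M ξ (u₀ ξ) x
  let I := (α.locallyFiniteSupport.finite_inter_support_of_isCompact hK).toFinset
  have hDI : ∀ ξ x, p x = y → α ξ * D ξ x ≠ 0 → ξ ∈ I := fun ξ x hx h => by
    obtain ⟨h1, h2⟩ := mul_ne_zero_iff.1 h
    exact (Set.Finite.mem_toFinset _).2
      ⟨((secDivFun_support h2).1.map p.continuous).mem_open V.2 (by rw [hx]; exact hyV), h1⟩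
  choose O hO hxO using fun x : X => exists_isAffineOpen_mem_and_subset (x := x) (U := (⊤ : X.Opens)) trivial
  obtain ⟨t, ht⟩ := hK.elim_finite_subcover (fun x => (O x : Set X)) (fun x => (O x).2)
    fun x _ => Set.mem_iUnion.2 ⟨x, (hxO x).1⟩
  have hA := I.finite_toSet.biUnion fun ξ _ => t.finite_toSet.biUnion fun a _ =>
    finite_secDivFun hX hL' ξ (hu₀ ξ) (hO a)
  let S := hA.toFinset.filter fun x => p x = y
  have hS : ∀ ξ x, p x = y → α ξ * D ξ x ≠ 0 → x ∈ S := by
    intro ξ x hx hne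
    obtain ⟨a, ha, hxa⟩ := Set.mem_iUnion₂.1 (ht (show p x ∈ V by rw [hx]; exact hyV))
    exact Finset.mem_filter.2 ⟨hA.mem_toFinset.2 (Set.mem_biUnion (hDI ξ x hx hne)
      (Set.mem_biUnion ha ⟨hxa, right_ne_zero_of_mul hne⟩)), hx⟩
  have hS' : ∀ x ∈ S, p x = y := fun x hx => (Finset.mem_filter.1 hx).2
  have hR : ∑ᶠ x ∈ (p ⁻¹' {y} : Set X), γ₀ x * w x =
      ∑ ξ ∈ I, α ξ * (w ξ * Cyc.secDivFun δY L (p ξ) (v (p ξ)) y) := by
    have hγ₀x : ∀ x ∈ S, γ₀ x = ∑ ξ ∈ I, α ξ * D ξ x := fun x hx =>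
      finsum_eq_sum_of_support_subset (fun ξ => α ξ * D ξ x) fun ξ hξ => hDI ξ x (hS' x hx) hξ
    rw [finsum_mem_eq_sum_of_subset _ (s := (p ⁻¹' {y} : Set X)) (t := S) (fun x hx => by
        obtain ⟨ξ, hξ⟩ : ∃ ξ, α ξ * D ξ x ≠ 0 := by
          by_contra h
          push Not at h
          exact hx.2 (show (∑ᶠ ξ, α ξ * D ξ x) * w x = 0 by
            rw [finsum_eq_zero_of_forall_eq_zero h, zero_mul])
        exact Finset.mem_coe.2 (hS ξ x hx.1 hξ))
      (fun x hx => hS' x (Finset.mem_coe.1 hx)),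
      Finset.sum_congr rfl fun x hx => by rw [hγ₀x x hx, Finset.sum_mul], Finset.sum_comm]
    refine Finset.sum_congr rfl fun ξ _ => ?_
    by_cases hα0 : α ξ = 0
    · rw [hα0, zero_mul]
      exact Finset.sum_eq_zero fun x _ => by rw [zero_mul, zero_mul]
    rw [← push_secPull p hX hY hδ hL ξ (hv (p ξ)) y,
      finsum_mem_eq_sum_of_subset (fun x => D ξ x * w x) (s := (p ⁻¹' {y} : Set X)) (t := S)
        (fun x hx => Finset.mem_coe.2 (hS ξ x hx.1 (mul_ne_zero hα0 (left_ne_zero_of_mul hx.2))))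
        (fun x hx => hS' x (Finset.mem_coe.1 hx)), Finset.mul_sum]
    exact Finset.sum_congr rfl fun x _ => mul_assoc _ _ _
  rw [hR]
  symm
  let E : Y → ℤ := fun η => Cyc.secDivFun δY L η (v η) y
  have hin : ∀ η, (∑ᶠ ξ ∈ (p ⁻¹' {η} : Set X), α ξ * w ξ) * E η = ∑ ξ ∈ I with p ξ = η, α ξ * (w ξ * E η) := by
    intro η
    by_cases hE : E η = 0
    · rw [hE, mul_zero, Finset.sum_eq_zero fun ξ _ => by rw [mul_zero, mul_zero]]
    rw [finsum_mem_eq_sum_of_subset _ (s := (p ⁻¹' {η} : Set X)) (t := I.filter fun ξ => p ξ = η)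
      (fun ξ hξ => by
        refine Finset.mem_coe.2 (Finset.mem_filter.2 ⟨(Set.Finite.mem_toFinset _).2 ⟨?_, left_ne_zero_of_mul hξ.2⟩, hξ.1⟩)
        show p ξ ∈ (V : Set Y)
        rw [show p ξ = η from hξ.1]
        exact (secDivFun_support hE).1.mem_open V.2 hyV)
      (fun ξ hξ => (Finset.mem_filter.1 (Finset.mem_coe.1 hξ)).2), Finset.sum_mul]
    exact Finset.sum_congr rfl fun ξ _ => mul_assoc _ _ _
  show (∑ᶠ η, (∑ᶠ ξ ∈ (p ⁻¹' {η} : Set X), α ξ * w ξ) * E η) = ∑ ξ ∈ I, α ξ * (w ξ * E (p ξ))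
  rw [finsum_congr hin, finsum_eq_finsetSum_of_support_subset _ (s := I.image fun ξ => p ξ) (fun η hη => by
      rw [Finset.mem_coe, Finset.mem_image]
      by_contra hne
      push Not at hne
      refine hη ?_
      show (∑ ξ ∈ I with p ξ = η, α ξ * (w ξ * E η)) = 0
      rw [Finset.filter_eq_empty_iff.2 fun ξ hξ => hne ξ hξ, Finset.sum_empty]),
    ← Finset.sum_fiberwise_of_maps_to (g := fun ξ => p ξ) (t := I.image fun ξ => p ξ)
      (fun ξ hξ => Finset.mem_image_of_mem _ hξ)]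
  exact Finset.sum_congr rfl fun η _ => Finset.sum_congr rfl fun ξ hξ => by rw [(Finset.mem_filter.1 hξ).2]

/-- The transcendence degree of a residue extension. -/
def resTr (h : X ⟶ Y) (x : X) : Cardinal.{u} :=
  letI := (h.residueFieldMap x).hom.toAlgebra
  Algebra.trdeg (Y.residueField (h x)) (X.residueField x)

lemma resTr_comp {Z : Scheme.{u}} (p : X ⟶ Y) (q : Y ⟶ Z) (x : X) :
    resTr (p ≫ q) x = resTr q (p x) + resTr p x := by
  show @Algebra.trdeg (Z.residueField (q (p x))) (X.residueField x) _ _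
    ((p ≫ q).residueFieldMap x).hom.toAlgebra = _
  rw [Scheme.residueFieldMap_comp]
  letI := (q.residueFieldMap (p x)).hom.toAlgebra
  letI := (p.residueFieldMap x).hom.toAlgebra
  letI : Algebra (Z.residueField (q (p x))) (X.residueField x) :=
    (q.residueFieldMap (p x) ≫ p.residueFieldMap x).hom.toAlgebra
  haveI : IsScalarTower (Z.residueField (q (p x))) (Y.residueField (p x)) (X.residueField x) :=
    IsScalarTower.of_algebraMap_eq fun _ => rfl
  exact (trdeg_add_eq (Z.residueField (q (p x))) (Y.residueField (p x)) (A := X.residueField x)).symm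

lemma resTr_closed (j : X ⟶ Y) [IsClosedImmersion j] (x : X) : resTr j x = 0 := by
  letI := (j.residueFieldMap x).hom.toAlgebra
  haveI : Module.Finite (Y.residueField (j x)) (X.residueField x) :=
    Module.Finite.of_surjective (Algebra.linearMap (Y.residueField (j x)) (X.residueField x))
      (CycPush.residueFieldMap_surjective_pre j x)
  exact trdeg_eq_zero_iff.2 inferInstance

/-- The dimension functions on the inverse image of a closed subscheme are compatible. -/
theorem deltaCompat_snd {X' D : Scheme.{u}} (f : X' ⟶ X) (i : D ⟶ X) [IsClosedImmersion i] {δ : X → ℤ}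
    {δ' : X' → ℤ} (hδ : Cyc.DeltaCompat f δ' δ) :
    Cyc.DeltaCompat (pullback.snd f i) (fun z => δ' (pullback.fst f i z)) (fun d => δ (i d)) := fun z => by
  obtain ⟨n, hn, hx⟩ := hδ (pullback.fst f i z)
  refine ⟨n, ?_, ?_⟩
  · show resTr (pullback.snd f i) z = _
    have h1 := resTr_comp (pullback.fst f i) f z
    have h2 := resTr_comp (pullback.snd f i) i z
    rw [resTr_closed i, zero_add] at h2
    rw [resTr_closed (pullback.fst f i), add_zero] at h1
    rw [← h2, ← pullback.condition, h1]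
    exact hn
  · show δ' (pullback.fst f i z) = δ (i ((pullback.snd f i) z)) + n
    rw [hx]
    refine congrArg (fun y => δ y + (n : ℤ)) ?_
    show (pullback.fst f i ≫ f) z = (pullback.snd f i ≫ i) z
    rw [pullback.condition]

lemma residueDegree_snd {X' D : Scheme.{u}} (f : X' ⟶ X) (i : D ⟶ X) [IsClosedImmersion i] (z : ↥(pullback f i)) :
    (pullback.snd f i).residueDegree z = f.residueDegree (pullback.fst f i z) := by
  rw [← CycPush.residueDegree_comp_closedImmersion (pullback.fst f i) f z, pullback.condition,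
    CycDeg.residueDegree_comp, CycDeg.residueDegree_eq_one i (CycPush.residueFieldMap_surjective_pre i _), one_mul]

/-- Push forwards on the inverse image of a closed subscheme. -/
theorem finsum_snd {X' D : Scheme.{u}} (f : X' ⟶ X) (i : D ⟶ X) [IsClosedImmersion i] (δ : X → ℤ) (δ' : X' → ℤ)
    (c : X' → ℤ) (d : D) :
    (∑ᶠ z ∈ ((pullback.snd f i) ⁻¹' {d} : Set ↥(pullback f i)), c (pullback.fst f i z) *
        (AlgebraicCycle.mapCoeff (pullback.snd f i) (fun z => δ' (pullback.fst f i z)) (fun d => δ (i d)) z : ℤ)) =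
      ∑ᶠ x ∈ (f ⁻¹' {i d} : Set X'), c x * (AlgebraicCycle.mapCoeff f δ' δ x : ℤ) := by
  classical
  have himg : (pullback.fst f i) '' ((pullback.snd f i) ⁻¹' {d}) = f ⁻¹' {i d} := by
    refine Set.ext fun x => ⟨?_, fun hx => ?_⟩
    · rintro ⟨z, hz, rfl⟩
      show (pullback.fst f i ≫ f) z = i d
      rw [pullback.condition]
      exact congrArg i hz
    · have hr : x ∈ Set.range (pullback.fst f i) := by
        rw [Scheme.Pullback.range_fst]
        exact ⟨d, hx.symm⟩
      obtain ⟨z, rfl⟩ := hr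
      refine ⟨z, i.isClosedEmbedding.injective ?_, rfl⟩
      show (pullback.snd f i ≫ i) z = i d
      rw [← pullback.condition]
      exact hx
  rw [← himg, finsum_mem_image (pullback.fst f i).isClosedEmbedding.injective.injOn]
  refine finsum_mem_congr rfl fun z _ => congrArg (c (pullback.fst f i z) * ·) (congrArg Nat.cast ?_)
  unfold AlgebraicCycle.mapCoeff
  have e : f ((pullback.fst f i) z) = i ((pullback.snd f i) z) := by
    show (pullback.fst f i ≫ f) z = (pullback.snd f i ≫ i) z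
    rw [pullback.condition]
  show (if δ' (pullback.fst f i z) = δ (i ((pullback.snd f i) z)) then _ else 0) =
    if δ' (pullback.fst f i z) = δ (f ((pullback.fst f i) z)) then _ else 0
  rw [e, residueDegree_snd]

/-- The Gysin map commutes with proper push forward. -/
theorem gysin_push {X' D : Scheme.{u}} [IsLocallyNoetherian X] {δ : X → ℤ} {δ' : X' → ℤ} {k : ℤ}
    (hX : Cyc.IsSetup X δ) (hX' : Cyc.IsSetup X' δ') (f : X' ⟶ X) [IsProper f] (hδ : Cyc.DeltaCompat f δ' δ)
    {L : X.Modules} (hL : PicF.IsInvertible L) {s : Γ(L, (⊤ : X.Opens))} {i : D ⟶ X} [IsClosedImmersion i]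
    (hD : Cyc.IsZeroSchemeOf i L s) {s' : ((Scheme.Modules.pullback f).obj L).presheaf.obj (op ⊤)}
    (hD' : Cyc.IsZeroSchemeOf (pullback.fst f i) ((Scheme.Modules.pullback f).obj L) s')
    (α' : AlgebraicCycle X' ℤ) (hα' : α' ∈ Cyc.Zk X' δ' (k + 1))
    (w : (ξ : X) → Cyc.secFibre L ξ) (hw : ∀ ξ, w ξ ≠ 0)
    (w' : (ξ : X') → Cyc.secFibre ((Scheme.Modules.pullback f).obj L) ξ) (hw' : ∀ ξ, w' ξ ≠ 0)
    (γ : AlgebraicCycle D ℤ)
    (hγ : ∀ d, γ d = Cyc.c1CapFun δ L ⇑(AlgebraicCycle.map f δ' δ α') (Cyc.gysinChoice L s w) (i d))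
    (γ' : AlgebraicCycle (pullback f i) ℤ)
    (hγ' : ∀ z, γ' z = Cyc.c1CapFun δ' ((Scheme.Modules.pullback f).obj L) ⇑α'
      (Cyc.gysinChoice ((Scheme.Modules.pullback f).obj L) s' w') (pullback.fst f i z)) :
    Cyc.RatEquiv (fun d => δ (i d)) k γ
      (AlgebraicCycle.map (pullback.snd f i) (fun z => δ' (pullback.fst f i z)) (fun d => δ (i d)) γ') := by
  classical
  haveI := hX'.1
  haveI : IsLocallyNoetherian D := LocallyOfFiniteType.isLocallyNoetherian i
  haveI : IsLocallyNoetherian (pullback f i) := LocallyOfFiniteType.isLocallyNoetherian (pullback.fst f i)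
  let L' := (Scheme.Modules.pullback f).obj L
  have hL' : PicF.IsInvertible L' := PicLoc.isInvertible_pullback f hL
  let gv := Cyc.gysinChoice L s w
  have hgv : ∀ x, gv x ≠ 0 := gysinChoice_ne_zero hw
  let v : (ξ : X') → Cyc.secFibre L' ξ := fun ξ => secPull f ξ (gv (f ξ))
  have hv : ∀ ξ, v ξ ≠ 0 := fun ξ => secPull_ne_zero f hL ξ (hgv _)
  obtain ⟨c, hc⟩ := secFin hX' hL' α' v hv
  obtain ⟨γ'', hγ''⟩ := exists_comap (i := pullback.fst f i) c
  have hr : Cyc.RatEquiv (fun z => δ' (pullback.fst f i z)) k γ'' γ' :=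
    gysin_sections (pullback.fst f i) hX'.2.2 hL' α' hα' v
      (Cyc.gysinChoice L' s' w') hv (gysinChoice_ne_zero hw')
      (fun ξ hξ z => (secDivFun_gysinChoice f hL hD hD' w w' δ' ξ hξ z).symm) γ'' γ'
      (fun z => by rw [hγ'', hc]) hγ'
  have hexact : ∀ d, γ d =
      AlgebraicCycle.map (pullback.snd f i) (fun z => δ' (pullback.fst f i z)) (fun d => δ (i d)) γ'' d := fun d => by
    rw [hγ d, ← push_c1CapFun f hX'.2.2 hX.2.2 hδ hL α' gv hgv (i d)]
    refine (finsum_snd f i δ δ' _ d).symm.trans (finsum_mem_congr rfl fun z _ => ?_)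
    rw [hγ'', hc]
  refine CycPush.ratEquivZero_map (pullback.snd f i) (isSetup_closed (pullback.fst f i) hX').2.2
    (isSetup_closed i hX).2.2 (deltaCompat_snd f i hδ) k _ hr _ fun d => ?_
  show γ d - AlgebraicCycle.map (pullback.snd f i) _ _ γ' d = _
  rw [hexact]
  let g := pullback.snd f i
  let m : ↥(pullback f i) → ℤ := fun z =>
    (AlgebraicCycle.mapCoeff g (fun z => δ' (pullback.fst f i z)) (fun d => δ (i d)) z : ℤ)
  show (∑ᶠ z ∈ (g ⁻¹' {d} : Set ↥(pullback f i)), γ'' z * m z) - (∑ᶠ z ∈ (g ⁻¹' {d} : Set ↥(pullback f i)), γ' z * m z) =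
    ∑ᶠ z ∈ (g ⁻¹' {d} : Set ↥(pullback f i)), (γ'' z - γ' z) * m z
  obtain ⟨V, hV, hdV, -⟩ := exists_isAffineOpen_mem_and_subset (x := d) (U := (⊤ : D.Opens)) trivial
  have hK : IsCompact (g ⁻¹' (V : Set D)) := QuasiCompact.isCompact_preimage (f := g) V V.2 hV.isCompact
  have hfib : ∀ c : AlgebraicCycle (pullback f i) ℤ,
      ((g ⁻¹' {d} : Set ↥(pullback f i)) ∩ Function.support fun z => c z * m z).Finite := fun c =>
    (c.locallyFiniteSupport.finite_inter_support_of_isCompact hK).subset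
      fun z hz => ⟨show g z ∈ (V : Set D) by rw [show g z = d from hz.1]; exact hdV, left_ne_zero_of_mul hz.2⟩
  rw [sub_eq_iff_eq_add, ← finsum_mem_add_distrib' (show ((g ⁻¹' {d} : Set ↥(pullback f i)) ∩
    Function.support fun z => (γ'' z - γ' z) * m z).Finite from hfib (γ'' - γ')) (hfib γ')]
  exact finsum_mem_congr rfl fun z _ => by ring

/-- Multiplicities of fibres on the inverse image of a closed subscheme. -/
theorem length_snd {X' D : Scheme.{u}} (f : X' ⟶ X) (i : D ⟶ X) [IsClosedImmersion i] (z : ↥(pullback f i)) :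
    Module.length ((pullback f i).presheaf.stalk z) ((pullback f i).presheaf.stalk z ⧸
        Ideal.map ((pullback.snd f i).stalkMap z).hom (IsLocalRing.maximalIdeal (D.presheaf.stalk ((pullback.snd f i) z)))) =
      Module.length (X'.presheaf.stalk ((pullback.fst f i) z)) (X'.presheaf.stalk ((pullback.fst f i) z) ⧸
        Ideal.map (f.stalkMap ((pullback.fst f i) z)).hom (IsLocalRing.maximalIdeal (X.presheaf.stalk (f ((pullback.fst f i) z))))) := by
  let x := (pullback.fst f i) z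
  let d := (pullback.snd f i) z
  have hw : i d = f x := by
    show (pullback.snd f i ≫ i) z = (pullback.fst f i ≫ f) z
    rw [pullback.condition]
  let π := ((pullback.fst f i).stalkMap z).hom
  have hπ : Function.Surjective π := (pullback.fst f i).stalkMap_surjective z
  let σ := P1Div.stkHom i d hw
  have hσ : Function.Surjective σ := by
    have aux : ∀ {y : X} (h : i d = y), Function.Surjective (P1Div.stkHom i d h) := by
      rintro _ rfl
      intro a
      obtain ⟨b, hb⟩ := i.stalkMap_surjective d a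
      exact ⟨b, by simpa [P1Div.stkHom, TopCat.Presheaf.stalkSpecializes_refl] using hb⟩
    exact aux hw
  have hcomm : π.comp (f.stalkMap x).hom = ((pullback.snd f i).stalkMap z).hom.comp σ := RingHom.ext fun a => by
    have h := Scheme.Hom.stalkMap_congr_hom (pullback.fst f i ≫ f) (pullback.snd f i ≫ i) pullback.condition z
    rw [Scheme.Hom.stalkMap_comp, Scheme.Hom.stalkMap_comp] at h
    exact DFunLike.congr_fun (CommRingCat.hom_ext_iff.mp h) a
  have hmax : (IsLocalRing.maximalIdeal (D.presheaf.stalk d)) = (IsLocalRing.maximalIdeal (X.presheaf.stalk (f x))).map σ := by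
    refine le_antisymm (fun a ha => ?_) (Ideal.map_le_iff_le_comap.2 fun a ha => ?_)
    · obtain ⟨b, rfl⟩ := hσ a
      refine Ideal.mem_map_of_mem σ ((IsLocalRing.mem_maximalIdeal _).2 fun hb => ?_)
      exact (IsLocalRing.mem_maximalIdeal _).1 ha (hb.map σ)
    · refine Ideal.mem_comap.2 ((IsLocalRing.mem_maximalIdeal _).2 fun hu => ?_)
      haveI : IsLocalHom σ := IsLocalHom.of_surjective σ hσ
      exact (IsLocalRing.mem_maximalIdeal _).1 ha (isUnit_of_map_unit σ a hu)
  let J := Ideal.map (f.stalkMap x).hom (IsLocalRing.maximalIdeal (X.presheaf.stalk (f x)))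
  have hI : Ideal.map ((pullback.snd f i).stalkMap z).hom (IsLocalRing.maximalIdeal (D.presheaf.stalk d)) = J.map π := by
    rw [hmax, Ideal.map_map, Ideal.map_map, hcomm]
  have hker : RingHom.ker π ≤ J := by
    rw [ker_pullback_fst f i z hw]
    exact Ideal.map_mono (IsLocalRing.le_maximalIdeal (RingHom.ker_ne_top _))
  rw [hI]
  let q := (Ideal.Quotient.mk (J.map π)).comp π
  have hq : Function.Surjective q := Ideal.Quotient.mk_surjective.comp hπ
  have hk : RingHom.ker q = J := by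
    rw [← RingHom.comap_ker, Ideal.mk_ker, Ideal.comap_map_of_surjective π hπ]
    exact sup_eq_left.2 hker
  let e := (Ideal.quotEquivOfEq hk.symm).trans (RingHom.quotientKerEquivOfSurjective hq)
  rw [Module.length_eq_of_surjective (R := ↥((pullback f i).presheaf.stalk z) ⧸ J.map π)
      (M := ↥((pullback f i).presheaf.stalk z) ⧸ J.map π) (S := (pullback f i).presheaf.stalk z)
      (Ideal.Quotient.mk_surjective (I := J.map π)),
    Module.length_eq_of_surjective (R := ↥(X'.presheaf.stalk x) ⧸ J) (M := ↥(X'.presheaf.stalk x) ⧸ J)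
      (S := X'.presheaf.stalk x) (Ideal.Quotient.mk_surjective (I := J)), CycDim.length_congr e]

/-- The Gysin map commutes with flat pull back. -/
theorem gysin_pull {X' D : Scheme.{u}} [IsLocallyNoetherian X] {δ : X → ℤ} {δ' : X' → ℤ} {k : ℤ} {r : ℕ}
    (hX : Cyc.IsSetup X δ) (hX' : Cyc.IsSetup X' δ') (f : X' ⟶ X) [Flat f] [LocallyOfFiniteType f]
    (hr : Cyc.HasRelDim f r) (hδ : Cyc.DeltaCompat f δ' δ) {L : X.Modules} (hL : PicF.IsInvertible L)
    {s : Γ(L, (⊤ : X.Opens))} {i : D ⟶ X} [IsClosedImmersion i] (hD : Cyc.IsZeroSchemeOf i L s)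
    {s' : ((Scheme.Modules.pullback f).obj L).presheaf.obj (op ⊤)}
    (hD' : Cyc.IsZeroSchemeOf (pullback.fst f i) ((Scheme.Modules.pullback f).obj L) s')
    (α : AlgebraicCycle X ℤ) (hα : α ∈ Cyc.Zk X δ (k + 1))
    (w : (ξ : X) → Cyc.secFibre L ξ) (hw : ∀ ξ, w ξ ≠ 0)
    (w' : (ξ : X') → Cyc.secFibre ((Scheme.Modules.pullback f).obj L) ξ) (hw' : ∀ ξ, w' ξ ≠ 0)
    (ζ₁ ζ₂ : AlgebraicCycle (pullback f i) ℤ)
    (h₁ : ∀ z, ζ₁ z = Cyc.c1CapFun δ' ((Scheme.Modules.pullback f).obj L) (Cyc.pullFun f δ' δ r ⇑α)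
      (Cyc.gysinChoice ((Scheme.Modules.pullback f).obj L) s' w') (pullback.fst f i z))
    (h₂ : ⇑ζ₂ = Cyc.pullFun (pullback.snd f i) (fun z => δ' (pullback.fst f i z)) (fun d => δ (i d)) r
      (fun d => Cyc.c1CapFun δ L ⇑α (Cyc.gysinChoice L s w) (i d))) :
    Cyc.RatEquiv (fun z => δ' (pullback.fst f i z)) (k + r) ζ₁ ζ₂ := by
  classical
  haveI := hX'.1
  let L' := (Scheme.Modules.pullback f).obj L
  have hc : ∀ x : X', IsFibMax f x → δ' x = δ (f x) + r := fun x hx => ((CycDim.delta_le f hδ hr x).2).2 hx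
  let gv := Cyc.gysinChoice L s w
  have hgv : ∀ x, gv x ≠ 0 := gysinChoice_ne_zero hw
  let α' : AlgebraicCycle X' ℤ := CycLim.mkCycle (Cyc.pullFun f δ' δ r ⇑α)
    fun {U} hU => CycSec.finite_pullFun_cycle f hX'.2.2 hc α hU
  have hα' : α' ∈ Cyc.Zk X' δ' (k + r + 1) := fun x hx => by
    show Cyc.pullFun f δ' δ r ⇑α x = 0
    unfold Cyc.pullFun
    split
    · next h => rw [hα (f x) (fun e => hx (by omega)), zero_mul]
    · rfl
  refine gysin_sections (pullback.fst f i) hX'.2.2 (PicLoc.isInvertible_pullback f hL) α' hα'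
    (Cyc.gysinChoice L' s' w') (fun ξ => secPull f ξ (gv (f ξ))) (gysinChoice_ne_zero hw')
    (fun ξ => secPull_ne_zero f hL ξ (hgv _))
    (fun ξ hξ z => secDivFun_gysinChoice f hL hD hD' w w' δ' ξ hξ z) ζ₁ ζ₂ h₁ fun z => ?_
  rw [h₂]
  show _ = Cyc.c1CapFun δ' L' (Cyc.pullFun f δ' δ r ⇑α) (fun ξ => secPull f ξ (gv (f ξ))) (pullback.fst f i z)
  rw [← CycSec.pullFun_c1CapFun f hX'.2.2 hX.2.2 hc hL α gv hgv]
  have e : f ((pullback.fst f i) z) = i ((pullback.snd f i) z) := by
    show (pullback.fst f i ≫ f) z = (pullback.snd f i ≫ i) z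
    rw [pullback.condition]
  unfold Cyc.pullFun
  beta_reduce
  rw [length_snd, show δ (i ((pullback.snd f i) z)) = δ (f ((pullback.fst f i) z)) from congrArg δ e.symm,
    show Cyc.c1CapFun δ L ⇑α (Cyc.gysinChoice L s w) (i ((pullback.snd f i) z)) =
      Cyc.c1CapFun δ L ⇑α (Cyc.gysinChoice L s w) (f ((pullback.fst f i) z)) from congrArg _ e.symm]

end Groth.Agent.CycK0
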