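import Groth.Agent.CycK0.RLat

/-!
The first Chern classes of two invertible sheaves commute up to rational equivalence.
-/

set_option autoImplicit false
set_option linter.unusedSectionVars false
set_option linter.style.haveILetI false
set_option backward.isDefEq.respectTransparency false
set_option backward.isDefEq.respectTransparency.types false

universe u

open CategoryTheory CategoryTheory.Limits AlgebraicGeometry TopologicalSpace Opposite
open Groth.Agent.K0Dev (St)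

noncomputable section

attribute [local instance] Abelian.hasFiniteBiproducts

namespace Groth.Agent.CycK0

variable {X : Scheme.{u}} [IsLocallyNoetherian X] {δ : X → ℤ} {k : ℤ}

/-- The class of a cycle. -/
def qc (δ : X → ℤ) (k : ℤ) (a : X → ℤ) : Cyc.K0CohQuot δ (k + 1) (k - 1) :=
  Cyc.toK0CohQuot δ (k + 1) (k - 1) (Cyc.cycleSheafPos a) - Cyc.toK0CohQuot δ (k + 1) (k - 1) (Cyc.cycleSheafNeg a)

/-- The class is additive. -/
lemma qc_sub (hX : Cyc.IsSetup X δ) {a b c : AlgebraicCycle X ℤ} (ha : a ∈ Cyc.Zk X δ k) (hb : b ∈ Cyc.Zk X δ k)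
    (hc : c ∈ Cyc.Zk X δ k) (h : ∀ x, a x = b x - c x) : qc δ k ⇑a = qc δ k ⇑b - qc δ k ⇑c := by
  have hδ := hX.2.2
  have hne : ∀ {a : AlgebraicCycle X ℤ}, a ∈ Cyc.Zk X δ k → ∀ x, a x ≠ 0 → δ x = k :=
    fun ha x hx => by_contra fun h => hx (ha x h)
  have hne' : ∀ {a : AlgebraicCycle X ℤ}, a ∈ Cyc.Zk X δ k → ∀ x, (-⇑a) x ≠ 0 → δ x = k :=
    fun ha x hx => hne ha x fun h => hx (by simp [h])
  have cP : ∀ {a : AlgebraicCycle X ℤ}, a ∈ Cyc.Zk X δ k → Cyc.CohLe δ k (Cyc.cycleSheafPos ⇑a) :=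
    fun {a} ha => cohLe_cycleSheafPos hδ (fun hU => cycle_finite_affine a hU) fun x hx => (hne ha x hx).le
  have cN : ∀ {a : AlgebraicCycle X ℤ}, a ∈ Cyc.Zk X δ k → Cyc.CohLe δ k (Cyc.cycleSheafPos (-⇑a)) :=
    fun {a} ha => cohLe_cycleSheafPos hδ (fun hU => (cycle_finite_affine a hU).subset fun x hx =>
      ⟨hx.1, fun h => hx.2 (by simp [h])⟩) fun x hx => (hne' ha x hx).le
  have hl := cohLe_biprod (cP ha) (cohLe_biprod (cN hb) (cP hc))
  have hr := cohLe_biprod (cN ha) (cohLe_biprod (cP hb) (cN hc))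
  have hq := q_raise hl hr (by
    rw [(q_eq_cycle hX hl).1, (q_eq_cycle hX hr).1]
    refine congrArg (fun z => Cyc.toK0CohQuot δ k (k - 1) (Cyc.cycleSheafPos z)) (funext fun x => ?_)
    rw [sheafFun_biprod hX (cP ha) (cohLe_biprod (cN hb) (cP hc)), sheafFun_biprod hX (cN hb) (cP hc),
      sheafFun_biprod hX (cN ha) (cohLe_biprod (cP hb) (cN hc)), sheafFun_biprod hX (cP hb) (cN hc)]
    simp only [Pi.add_apply, sheafFun_cycleSheafPos hδ (hne ha), sheafFun_cycleSheafPos hδ (hne' ha),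
      sheafFun_cycleSheafPos hδ (hne hb), sheafFun_cycleSheafPos hδ (hne' hb),
      sheafFun_cycleSheafPos hδ (hne hc), sheafFun_cycleSheafPos hδ (hne' hc), Pi.neg_apply]
    have := h x
    omega)
  rw [q_biprod (cohLe_succ (cP ha)) (cohLe_succ (cohLe_biprod (cN hb) (cP hc))),
    q_biprod (cohLe_succ (cN hb)) (cohLe_succ (cP hc)),
    q_biprod (cohLe_succ (cN ha)) (cohLe_succ (cohLe_biprod (cP hb) (cN hc))),
    q_biprod (cohLe_succ (cP hb)) (cohLe_succ (cN hc))] at hq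
  simp only [qc, Cyc.cycleSheafNeg]
  linear_combination (norm := abel) hq

lemma secFin (hX : Cyc.IsSetup X δ) {L : X.Modules} (hL : PicF.IsInvertible L) (a : AlgebraicCycle X ℤ)
    (s : (x : X) → Cyc.secFibre L x) (hs : ∀ x, s x ≠ 0) : ∃ γ : AlgebraicCycle X ℤ, ⇑γ = Cyc.c1CapFun δ L ⇑a s := by
  refine exists_cycle_affine _ fun {U} hU => ?_
  refine ((cycle_finite_affine a hU).biUnion fun ξ _ =>
    CycSec.finite_secDivFun hX.2.2 hL ξ (hs ξ) hU).subset fun x hx => ?_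
  obtain ⟨ξ, hξ⟩ : ∃ ξ, a ξ * Cyc.secDivFun δ L ξ (s ξ) x ≠ 0 := by
    by_contra! h
    exact hx.2 (by simp [Cyc.c1CapFun, h])
  have h2 := right_ne_zero_of_mul hξ
  exact Set.mem_biUnion (show ξ ∈ {y : X | y ∈ U ∧ a y ≠ 0} from
    ⟨(CycSec.secDivFun_support h2).1.mem_open U.2 hx.1, left_ne_zero_of_mul hξ⟩) ⟨hx.1, h2⟩

omit [IsLocallyNoetherian X] in
lemma cap_mem {L : X.Modules} {a : X → ℤ} {s : (x : X) → Cyc.secFibre L x} {m : ℤ} (ha : ∀ x, a x ≠ 0 → δ x = m + 1)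
    {γ : AlgebraicCycle X ℤ} (hγ : ⇑γ = Cyc.c1CapFun δ L a s) : γ ∈ Cyc.Zk X δ m := by
  intro x hx
  by_contra h
  obtain ⟨ξ, hξ⟩ : ∃ ξ, a ξ * Cyc.secDivFun δ L ξ (s ξ) x ≠ 0 := by
    by_contra! h0
    exact h (by rw [hγ]; simp [Cyc.c1CapFun, h0])
  have h1 := ha ξ (left_ne_zero_of_mul hξ)
  have h2 := right_ne_zero_of_mul hξ
  unfold Cyc.secDivFun at h2
  split at h2
  · next hh => exact hx (by omega)
  · exact h2 rfl

variable {ι : Type u} {ξ : ι → X}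

set_option maxHeartbeats 1000000 in
/-- The double cap of a family of integral closed subschemes, as an index. -/
theorem qc_cap_family (hX : Cyc.IsSetup X δ) (hf : Fam δ k ξ) {L N : X.Modules} (hL : PicF.IsInvertible L)
    (hN : PicF.IsInvertible N) (s : (x : X) → Cyc.secFibre L x) (hs : ∀ x, s x ≠ 0)
    (t : (x : X) → Cyc.secFibre N x) (ht : ∀ x, t x ≠ 0) (γ : AlgebraicCycle X ℤ)
    (hγ : ⇑γ = Cyc.c1CapFun δ L (fun x => ∑ᶠ i, Cyc.secDivFun δ N (ξ i) (t (ξ i)) x) s) :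
    qc δ k ⇑γ = rel δ k (twistLat hL s hs (twistLat hN t ht (baseLat ξ))) (twistLat hL s hs (baseLat ξ)) -
      rel δ k (twistLat hN t ht (baseLat ξ)) (baseLat ξ) := by
  have hδ := hX.2.2
  have hpt : ∀ x : X, {i | ξ i ⤳ x}.Finite := fun x => by
    obtain ⟨U, hU, hxU, -⟩ := exists_isAffineOpen_mem_and_subset (x := x) (U := (⊤ : X.Opens)) trivial
    exact (hf.cpt ⟨U, hU⟩).subset fun i hi => ⟨x, specializes_iff_mem_closure.1 hi, hxU⟩
  have hξ : ∀ i, δ (ξ i) = (k + 1) + 1 := fun i => by rw [hf.delta i]; ring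
  choose M u v hu hv hM hc hτ hdiv using fun i => exists_piece' (k := k + 1) hX hN (hξ i) (ht (ξ i))
  have hcond : ∀ i, v i ≫ (twistLat hN t ht (baseLat ξ)).emb i = u i ≫ (baseLat ξ).emb i := fun i => by
    obtain ⟨τ, h1, h2⟩ := hτ i
    rw [twistExt_unique hN (ht (ξ i)) (twistLat_spec hN t ht (baseLat ξ) i) h1]
    exact h2.symm
  have hiu : ∀ i, IsIso ((St (ξ i)).map (u i)) := fun i => by
    haveI := hu i
    haveI : Epi ((St (ξ i)).map (u i)) := by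
      refine Preadditive.epi_of_isZero_cokernel _ ?_
      exact (((cohLe_iff δ (k + 1)).1 (hc i).1).2 (ξ i) (by rw [hξ i]; omega)).of_iso
        (PreservesCokernel.iso (St (ξ i)) (u i)).symm
    exact isIso_of_mono_of_epi _
  have hiv : ∀ i, IsIso ((St (ξ i)).map (v i)) := fun i => by
    haveI := hv i
    haveI : Epi ((St (ξ i)).map (v i)) := by
      refine Preadditive.epi_of_isZero_cokernel _ ?_
      exact (((cohLe_iff δ (k + 1)).1 (hc i).2).2 (ξ i) (by rw [hξ i]; omega)).of_iso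
        (PreservesCokernel.iso (St (ξ i)) (v i)).symm
    exact isIso_of_mono_of_epi _
  let CU := fun i => cokernel (u i)
  let CV := fun i => cokernel (v i)
  have hV : Cyc.CohLe δ (k + 1) (∐ CV) := cohLe_of_iso (nonempty_coker_sigma v).some
    (cohLe_qd hf (Y := twistLat hN t ht (baseLat ξ)) v (fun i => (hM i).1) hiv)
  have hU : Cyc.CohLe δ (k + 1) (∐ CU) := cohLe_of_iso (nonempty_coker_sigma u).some
    (cohLe_qd hf (Y := baseLat ξ) u (fun i => (hM i).1) hiu)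
  have hzv : ∀ i x, ¬ ξ i ⤳ x → IsZero ((St x).obj (CV i)) := fun i x h =>
    IsZero.of_epi ((St x).map (cokernel.π (v i))) ((((baseLat ξ).supp i).twist hN).2 x h)
  have hzu : ∀ i x, ¬ ξ i ⤳ x → IsZero ((St x).obj (CU i)) := fun i x h =>
    IsZero.of_epi ((St x).map (cokernel.π (u i))) (isZero_integers_st h)
  have hsum : ∀ x, (∑ᶠ i, Cyc.secDivFun δ N (ξ i) (t (ξ i)) x) =
      Cyc.sheafFun δ (k + 1) (∐ CV) x - Cyc.sheafFun δ (k + 1) (∐ CU) x := fun x => by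
    have hz : ∀ i, i ∉ (hpt x).toFinset → ¬ ξ i ⤳ x := fun i hi h => hi ((hpt x).mem_toFinset.2 h)
    rw [finsum_eq_sum_of_support_subset _ (s := (hpt x).toFinset) fun i hi => ?_,
      sheafFun_sigma hδ CV (fun i => (hc i).2) x _ fun i hi => hzv i x (hz i hi),
      sheafFun_sigma hδ CU (fun i => (hc i).1) x _ fun i hi => hzu i x (hz i hi),
      ← Finset.sum_sub_distrib]
    · exact Finset.sum_congr rfl fun i _ => hdiv i x
    · rw [Set.Finite.coe_toFinset]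
      exact (CycSec.secDivFun_support hi).1
  obtain ⟨γV, hγV⟩ := exists_capCycle hX hL hV s hs
  obtain ⟨γU, hγU⟩ := exists_capCycle hX hL hU s hs
  have hkV : γV ∈ Cyc.Zk X δ k := capCycle_mem hγV
  have hkU : γU ∈ Cyc.Zk X δ k := capCycle_mem hγU
  have hlin : ∀ x, γ x = γV x - γU x := fun x => by
    rw [hγ, hγV, hγU]
    exact c1CapFun_sub_apply hsum (finite_gen_sheafFun hδ hV x) (finite_gen_sheafFun hδ hU x)
  have hγk : γ ∈ Cyc.Zk X δ k := fun x hx => by rw [hlin x, hkV x hx, hkU x hx, sub_zero]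
  rw [qc_sub hX hγk hkV hkU hlin]
  have eV := q_twist_sub (k := k) hX hL hV s hs γV hkV hγV
  have eU := q_twist_sub (k := k) hX hL hU s hs γU hkU hγU
  simp only [qc]
  rw [← eV, ← eU]
  have r1 := rel_twist hf hL s hs (Y := twistLat hN t ht (baseLat ξ)) (Z := baseLat ξ) v u (fun i => (hM i).1)
    hv hu hcond hiv
  have r2 := rel_eq_span hf (Y := twistLat hN t ht (baseLat ξ)) (Z := baseLat ξ) v u (fun i => (hM i).1) hcond hiv
  rw [show qd δ k v = Cyc.toK0CohQuot δ (k + 1) (k - 1) (∐ CV) from q_iso (nonempty_coker_sigma v).some,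
    show qd δ k u = Cyc.toK0CohQuot δ (k + 1) (k - 1) (∐ CU) from q_iso (nonempty_coker_sigma u).some] at r2
  rw [← r1, r2]
  abel

/-- The two double caps of a family. -/
theorem qc_cap_family_comm (hX : Cyc.IsSetup X δ) (hf : Fam δ k ξ) {L N : X.Modules} (hL : PicF.IsInvertible L)
    (hN : PicF.IsInvertible N) (s : (x : X) → Cyc.secFibre L x) (hs : ∀ x, s x ≠ 0)
    (t : (x : X) → Cyc.secFibre N x) (ht : ∀ x, t x ≠ 0) (γ γ' : AlgebraicCycle X ℤ)
    (hγ : ⇑γ = Cyc.c1CapFun δ L (fun x => ∑ᶠ i, Cyc.secDivFun δ N (ξ i) (t (ξ i)) x) s)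
    (hγ' : ⇑γ' = Cyc.c1CapFun δ N (fun x => ∑ᶠ i, Cyc.secDivFun δ L (ξ i) (s (ξ i)) x) t) :
    qc δ k ⇑γ = qc δ k ⇑γ' := by
  rw [qc_cap_family hX hf hL hN s hs t ht γ hγ, qc_cap_family hX hf hN hL t ht s hs γ' hγ']
  let B := baseLat ξ
  let BL := twistLat hL s hs B
  let BN := twistLat hN t ht B
  let BB := twistLat hL s hs BN
  let BB' := twistLat hN t ht BL
  show rel δ k BB BL - rel δ k BN B = rel δ k BB' BN - rel δ k BL B
  have hc : rel δ k BB' BB = 0 := rel_eq_zero hf (fun i => swapTwist L N (B.obj i)) (fun i => inferInstance)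
    fun i => swapTwist_ext hL hN (hs (ξ i)) (ht (ξ i)) (twistLat_spec hL s hs B i) (twistLat_spec hN t ht B i)
      (twistLat_spec hL s hs BN i) (twistLat_spec hN t ht BL i)
  have h1 := rel_trans hf BB BL B
  have h2 := rel_trans hf BB BN B
  have h3 := rel_trans hf BB' BB BN
  rw [hc, zero_add] at h3
  rw [← h3]
  linear_combination (norm := abel) h1 - h2

/-! ### Cycles -/

/-- The family of a nonnegative coefficient function. -/
lemma fam_idx (hX : Cyc.IsSetup X δ) (α : AlgebraicCycle X ℤ) (hα : α ∈ Cyc.Zk X δ (k + 2)) :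
    Fam δ k fun a : Idx (⇑α) => a.1.1 where
  dimFun := hX.2.2
  delta a := by_contra fun h => (ne_of_gt a.1.2) (hα a.1.1 h)
  cpt V := (finite_idx (cycle_finite_affine α V.2)).subset fun a ⟨y, hy, hyV⟩ =>
    (specializes_iff_mem_closure.2 hy).mem_open V.1.2 hyV

/-- The sum over the family of a nonnegative coefficient function. -/
lemma finsum_idx (α : AlgebraicCycle X ℤ) {L : X.Modules} (s : (x : X) → Cyc.secFibre L x) (x : X) :
    (∑ᶠ a : Idx (⇑α), Cyc.secDivFun δ L a.1.1 (s a.1.1) x) =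
      ∑ᶠ η : X, max (α η) 0 * Cyc.secDivFun δ L η (s η) x := by
  classical
  obtain ⟨U, hU, hxU, -⟩ := exists_isAffineOpen_mem_and_subset (x := x) (U := (⊤ : X.Opens)) trivial
  have hfin : {a : Idx (⇑α) | a.1.1 ∈ U}.Finite := finite_idx (cycle_finite_affine α hU)
  rw [finsum_eq_sum_of_support_subset _ (s := hfin.toFinset) fun a ha => ?_,
    finsum_eq_sum_of_support_subset _ (s := (cycle_finite_affine α hU).toFinset) fun η hη => ?_,
    ← Finset.sum_fiberwise_of_maps_to (g := fun a : Idx (⇑α) => (a.1.1 : X))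
      (t := (cycle_finite_affine α hU).toFinset) fun a ha =>
        (cycle_finite_affine α hU).mem_toFinset.2 ⟨hfin.mem_toFinset.1 ha, a.1.2.ne'⟩]
  · refine Finset.sum_congr rfl fun η hη => ?_
    have hηU := ((cycle_finite_affine α hU).mem_toFinset.1 hη).1
    rw [Finset.sum_congr rfl fun a ha => show Cyc.secDivFun δ L a.1.1 (s a.1.1) x = Cyc.secDivFun δ L η (s η) x by
      rw [(Finset.mem_filter.1 ha).2], Finset.sum_const, nsmul_eq_mul]
    refine congrArg (· * _) ?_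
    by_cases hη1 : 0 < α η
    · have hcard : hfin.toFinset.filter (fun a : Idx (⇑α) => (a.1.1 : X) = η) =
          (Finset.univ : Finset (Fin (α η).toNat)).image fun n => (⟨⟨η, hη1⟩, n⟩ : Idx (⇑α)) := by
        ext a
        rw [Finset.mem_filter, Finset.mem_image]
        constructor
        · rintro ⟨-, h⟩
          obtain ⟨⟨ζ, hζ⟩, n⟩ := a
          obtain rfl : ζ = η := h
          exact ⟨n, Finset.mem_univ _, rfl⟩
        · rintro ⟨n, -, rfl⟩
          exact ⟨hfin.mem_toFinset.2 hηU, rfl⟩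
      rw [hcard, Finset.card_image_of_injective _ fun n n' h => eq_of_heq (Sigma.mk.inj h).2, Finset.card_univ,
        Fintype.card_fin, max_eq_left hη1.le]
      exact Int.toNat_of_nonneg hη1.le
    · rw [Finset.filter_eq_empty_iff.2 (fun (a : Idx (⇑α)) _ (h : (a.1.1 : X) = η) => hη1 (h ▸ a.1.2)), Finset.card_empty, max_eq_right (not_lt.1 hη1)]
      rfl
  · exact Finset.mem_coe.2 ((cycle_finite_affine α hU).mem_toFinset.2
      ⟨(CycSec.secDivFun_support (right_ne_zero_of_mul hη)).1.mem_open U.2 hxU,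
        fun h => hη (by simp [h])⟩)
  · exact Finset.mem_coe.2 (hfin.mem_toFinset.2 ((CycSec.secDivFun_support ha).1.mem_open U.2 hxU))

set_option maxHeartbeats 1000000 in
/-- The first Chern classes commute. -/
theorem c1Cap_comm (hX : Cyc.IsSetup X δ) {L N : X.Modules} (hL : PicF.IsInvertible L) (hN : PicF.IsInvertible N)
    (α : AlgebraicCycle X ℤ) (hα : α ∈ Cyc.Zk X δ (k + 2)) (sL sL' : (x : X) → Cyc.secFibre L x)
    (sN sN' : (x : X) → Cyc.secFibre N x) (hsL : ∀ x, sL x ≠ 0) (hsL' : ∀ x, sL' x ≠ 0) (hsN : ∀ x, sN x ≠ 0)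
    (hsN' : ∀ x, sN' x ≠ 0) (γ₁ γ₂ : AlgebraicCycle X ℤ)
    (h₁ : ⇑γ₁ = Cyc.c1CapFun δ L (Cyc.c1CapFun δ N ⇑α sN) sL)
    (h₂ : ⇑γ₂ = Cyc.c1CapFun δ N (Cyc.c1CapFun δ L ⇑α sL') sN') : Cyc.RatEquiv δ k γ₁ γ₂ := by
  classical
  have hδ := hX.2.2
  have hne : ∀ x, α x ≠ 0 → δ x = (k + 1) + 1 := fun x hx => by
    have := by_contra fun h => hx (hα x h)
    omega
  obtain ⟨αn, hαn⟩ : ∃ αn : AlgebraicCycle X ℤ, ⇑αn = -⇑α := ⟨-α, rfl⟩
  have hαnk : αn ∈ Cyc.Zk X δ (k + 2) := fun x hx => by rw [hαn, Pi.neg_apply, hα x hx, neg_zero]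
  -- the positive and negative parts
  have cap : ∀ {M : X.Modules} (hM : PicF.IsInvertible M) (a : AlgebraicCycle X ℤ) (s : (x : X) → Cyc.secFibre M x),
      a ∈ Cyc.Zk X δ (k + 2) → (∀ x, s x ≠ 0) → ∃ β : AlgebraicCycle X ℤ, β ∈ Cyc.Zk X δ (k + 1) ∧
        ⇑β = fun x => ∑ᶠ i : Idx (⇑a), Cyc.secDivFun δ M i.1.1 (s i.1.1) x := by
    intro M hM a s ha hs
    obtain ⟨p, hp⟩ : ∃ p : AlgebraicCycle X ℤ, ⇑p = fun x => max (a x) 0 :=
      exists_cycle_affine _ fun hU => (cycle_finite_affine a hU).subset fun x hx =>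
        ⟨hx.1, fun h => hx.2 (by simp [h])⟩
    obtain ⟨β, hβ⟩ := secFin hX hM p s hs
    refine ⟨β, cap_mem (a := ⇑p) (fun x hx => ?_) hβ, hβ.trans (funext fun x => ?_)⟩
    · rw [hp] at hx
      have : δ x = k + 2 := by_contra fun h => hx (by simp [ha x h])
      omega
    · rw [finsum_idx a s x, Cyc.c1CapFun, hp]
  have hdec : ∀ {M : X.Modules} (s : (x : X) → Cyc.secFibre M x) (x : X), Cyc.c1CapFun δ M ⇑α s x =
      (∑ᶠ i : Idx (⇑α), Cyc.secDivFun δ M i.1.1 (s i.1.1) x) -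
        ∑ᶠ i : Idx (⇑αn), Cyc.secDivFun δ M i.1.1 (s i.1.1) x := by
    intro M s x
    rw [finsum_idx α s x, finsum_idx αn s x, hαn]
    refine c1CapFun_sub_apply (b := fun η => max (α η) 0) (c := fun η => max ((-⇑α) η) 0) (fun η => ?_) ?_ ?_
    · simp only [Pi.neg_apply]; omega
    · exact (C1Cap.finite_gen α x).subset fun η hη => ⟨hη.1, fun h => hη.2 (by simp [h])⟩
    · exact (C1Cap.finite_gen α x).subset fun η hη => ⟨hη.1, fun h => hη.2 (by simp [h])⟩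
  -- class of one order
  have step : ∀ {L N : X.Modules} (hL : PicF.IsInvertible L) (hN : PicF.IsInvertible N)
      (s : (x : X) → Cyc.secFibre L x) (t : (x : X) → Cyc.secFibre N x), (∀ x, s x ≠ 0) → (∀ x, t x ≠ 0) →
      ∀ γ : AlgebraicCycle X ℤ, ⇑γ = Cyc.c1CapFun δ L (Cyc.c1CapFun δ N ⇑α t) s →
        γ ∈ Cyc.Zk X δ k ∧ ∃ p q : AlgebraicCycle X ℤ,
          ⇑p = Cyc.c1CapFun δ L (fun x => ∑ᶠ i : Idx (⇑α), Cyc.secDivFun δ N i.1.1 (t i.1.1) x) s ∧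
          ⇑q = Cyc.c1CapFun δ L (fun x => ∑ᶠ i : Idx (⇑αn), Cyc.secDivFun δ N i.1.1 (t i.1.1) x) s ∧
          qc δ k ⇑γ = qc δ k ⇑p - qc δ k ⇑q := by
    intro L N hL hN s t hs ht γ hγ
    obtain ⟨βp, hβpk, hβp⟩ := cap hN α t hα ht
    obtain ⟨βn, hβnk, hβn⟩ := cap hN αn t hαnk ht
    obtain ⟨p, hp⟩ := secFin hX hL βp s hs
    obtain ⟨q, hq⟩ := secFin hX hL βn s hs
    have hpk : p ∈ Cyc.Zk X δ k := cap_mem (a := ⇑βp) (fun x hx => by_contra fun h => hx (hβpk x h)) hp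
    have hqk : q ∈ Cyc.Zk X δ k := cap_mem (a := ⇑βn) (fun x hx => by_contra fun h => hx (hβnk x h)) hq
    have hlin : ∀ x, γ x = p x - q x := fun x => by
      rw [hγ, hp, hq]
      exact c1CapFun_sub_apply (fun y => by rw [hdec t y, hβp, hβn]) (C1Cap.finite_gen βp x) (C1Cap.finite_gen βn x)
    have hγk : γ ∈ Cyc.Zk X δ k := fun x hx => by rw [hlin x, hpk x hx, hqk x hx, sub_zero]
    exact ⟨hγk, p, q, hp.trans (by rw [hβp]), hq.trans (by rw [hβn]), qc_sub hX hγk hpk hqk hlin⟩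
  -- change the inner section
  obtain ⟨μ, hμ⟩ := secFin hX hL α sL hsL
  obtain ⟨μ', hμ'⟩ := secFin hX hL α sL' hsL'
  obtain ⟨γ₃, hγ₃⟩ := secFin hX hN μ sN hsN
  obtain ⟨hk₁, p₁, q₁, hp₁, hq₁, e₁⟩ := step hL hN sL sN hsL hsN γ₁ h₁
  obtain ⟨hk₃, p₃, q₃, hp₃, hq₃, e₃⟩ := step hN hL sN sL hsN hsL γ₃ (hγ₃.trans (by rw [hμ]))
  have e13 : qc δ k ⇑γ₁ = qc δ k ⇑γ₃ := by
    rw [e₁, e₃, qc_cap_family_comm hX (fam_idx hX α hα) hL hN sL hsL sN hsN p₁ p₃ hp₁ hp₃,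
      qc_cap_family_comm hX (fam_idx hX αn hαnk) hL hN sL hsL sN hsN q₁ q₃ hq₁ hq₃]
  -- change the sections
  have hμk : μ ∈ Cyc.Zk X δ (k + 1) := cap_mem (a := ⇑α) hne hμ
  have hμk' : μ' ∈ Cyc.Zk X δ (k + 1) := cap_mem (a := ⇑α) hne hμ'
  have hd : Cyc.RatEquivZero δ (k + 1) (μ - μ') :=
    C1Cap.ratEquiv_cap δ hL (k + 1) α (fun x hx => hα x (by omega)) sL sL' (fun x _ => hsL x) (fun x _ => hsL' x)
      μ μ' hμ hμ'
  obtain ⟨ν, hν⟩ := secFin hX hN (μ - μ') sN hsN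
  have hνk : ν ∈ Cyc.Zk X δ k := cap_mem (a := ⇑(μ - μ')) (fun x hx => by_contra fun h => hx (by
    show μ x - μ' x = 0
    rw [hμk x h, hμk' x h, sub_zero])) hν
  obtain ⟨γ₄, hγ₄⟩ := secFin hX hN μ' sN hsN
  have hk₄ : γ₄ ∈ Cyc.Zk X δ k := cap_mem (a := ⇑μ') (fun x hx => by_contra fun h => hx (hμk' x h)) hγ₄
  have hν0 : qc δ k ⇑ν = 0 := sub_eq_zero.2
    (q_pos_eq_neg hX hνk (c1Cap_ratEquivZero hX hN hd sN hsN ν hνk hν))
  have h34 : qc δ k ⇑ν = qc δ k ⇑γ₃ - qc δ k ⇑γ₄ := qc_sub hX hνk hk₃ hk₄ fun x => by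
    rw [hν, hγ₃, hγ₄]
    exact c1CapFun_sub_apply (fun y => rfl) (C1Cap.finite_gen μ x) (C1Cap.finite_gen μ' x)
  obtain ⟨hk₂, -⟩ := step hN hL sN' sL' hsN' hsL' γ₂ h₂
  have h42 : Cyc.RatEquiv δ k γ₄ γ₂ := C1Cap.ratEquiv_cap δ hN k μ' hμk' sN sN' (fun x _ => hsN x)
    (fun x _ => hsN' x) γ₄ γ₂ hγ₄ (h₂.trans (by rw [hμ']))
  have hd42 : γ₄ - γ₂ ∈ Cyc.Zk X δ k := fun x hx => by
    show γ₄ x - γ₂ x = 0
    rw [hk₄ x hx, hk₂ x hx, sub_zero]
  have h420 : qc δ k ⇑γ₄ = qc δ k ⇑γ₂ := sub_eq_zero.1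
    ((qc_sub hX hd42 hk₄ hk₂ fun x => rfl).symm.trans (sub_eq_zero.2 (q_pos_eq_neg hX hd42 h42)))
  have hd12 : γ₁ - γ₂ ∈ Cyc.Zk X δ k := fun x hx => by
    show γ₁ x - γ₂ x = 0
    rw [hk₁ x hx, hk₂ x hx, sub_zero]
  refine ratEquivZero_of_class hX hd12 (sub_eq_zero.1 ?_)
  show qc δ k ⇑(γ₁ - γ₂) = 0
  rw [qc_sub hX hd12 hk₁ hk₂ (fun x => rfl), e13, sub_eq_zero, ← h420, ← sub_eq_zero, ← h34, hν0]

end Groth.Agent.CycK0
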