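import Groth.Agent.CycK0.GysMul
import Groth.Agent.CycK0.GysSec
import Groth.Agent.CycDim.RatBasic

/-!
The Gysin maps of two pseudo divisors commute.
-/

set_option autoImplicit false
set_option linter.unusedSectionVars false
set_option linter.style.haveILetI false
set_option backward.isDefEq.respectTransparency false
set_option backward.isDefEq.respectTransparency.types false

universe u

open CategoryTheory CategoryTheory.Limits AlgebraicGeometry TopologicalSpace Opposite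
open Groth.Agent.K0Dev (St)
open Groth.Agent.CDivNormal (genPrime)
open Groth.Agent.WeakAssLib (mgerm)
open Groth.Agent.P1Div (stkHom)

noncomputable section

attribute [local instance] Abelian.hasFiniteBiproducts

namespace Groth.Agent.CycK0

variable {X D D' Z : Scheme.{u}}

/-- Zero schemes only matter up to isomorphism. -/
theorem isZeroSchemeOf_iso {Z' : Scheme.{u}} {L : X.Modules} {s : Γ(L, (⊤ : X.Opens))} {j : Z ⟶ X} (e : Z' ≅ Z)
    (h : Cyc.IsZeroSchemeOf j L s) : Cyc.IsZeroSchemeOf (e.hom ≫ j) L s := by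
  refine ⟨?_, fun d => ?_⟩
  · rw [← h.1]
    refine subset_antisymm (by rintro _ ⟨z, rfl⟩; exact ⟨e.hom z, rfl⟩) ?_
    rintro _ ⟨z, rfl⟩
    exact ⟨e.inv z, by rw [← Scheme.Hom.comp_apply, e.inv_hom_id_assoc]⟩
  · obtain ⟨t, f, h1, h2, h3⟩ := h.2 (e.hom d)
    refine ⟨t, f, h1, h2, ?_⟩
    refine Eq.trans ?_ h3
    rw [Scheme.Hom.stalkMap_comp]
    ext a
    simp only [RingHom.mem_ker, CommRingCat.hom_comp, RingHom.comp_apply]
    exact map_eq_zero_iff _ (ConcreteCategory.bijective_of_isIso (e.hom.stalkMap d)).1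

variable [IsLocallyNoetherian X] {δ : X → ℤ} {k : ℤ} {L L' : X.Modules} {s : Γ(L, (⊤ : X.Opens))}
  {s' : Γ(L', (⊤ : X.Opens))} {i : D ⟶ X} [IsClosedImmersion i] {i' : D' ⟶ X} [IsClosedImmersion i'] {f : Z ⟶ D}
  [IsClosedImmersion f] {f' : Z ⟶ D'} [IsClosedImmersion f']
  {σ' : Γ((Scheme.Modules.pullback i).obj L', (⊤ : D.Opens))}

omit [IsLocallyNoetherian X] in
lemma mem_range_fst (hsq : IsPullback f f' i i') (d : D) : d ∈ Set.range f ↔ i d ∈ Set.range i' := by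
  have h : Set.range f = Set.range (pullback.fst i i') := by
    refine subset_antisymm ?_ ?_
    · rintro _ ⟨z, rfl⟩
      exact ⟨hsq.isoPullback.hom z, by rw [← Scheme.Hom.comp_apply, hsq.isoPullback_hom_fst]⟩
    · rintro _ ⟨z, rfl⟩
      exact ⟨hsq.isoPullback.inv z, by rw [← Scheme.Hom.comp_apply, hsq.isoPullback_inv_fst]⟩
  rw [h, Scheme.Pullback.range_fst]
  rfl

/-- The two sections cut out the same subscheme of the divisor. -/
theorem zero_fst (hsq : IsPullback f f' i i')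
    (hσ' : Cyc.IsZeroSchemeOf f ((Scheme.Modules.pullback i).obj L') σ') :
    Cyc.IsZeroSchemeOf (pullback.fst i i') ((Scheme.Modules.pullback i).obj L') σ' := by
  have h := isZeroSchemeOf_iso hsq.isoPullback.symm hσ'
  rwa [show hsq.isoPullback.symm.hom ≫ f = pullback.fst i i' from hsq.isoPullback_inv_fst] at h

/-- Off the intersection the two sections have the same divisors. -/
theorem secDivFun_choice (hL' : PicF.IsInvertible L') (hD' : Cyc.IsZeroSchemeOf i' L' s')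
    (hsq : IsPullback f f' i i') (hσ' : Cyc.IsZeroSchemeOf f ((Scheme.Modules.pullback i).obj L') σ')
    (w' : (ξ : X) → Cyc.secFibre L' ξ) (w₁ : (d : D) → Cyc.secFibre ((Scheme.Modules.pullback i).obj L') d)
    (δ' : D → ℤ) (ξ : D) (hξ : ξ ∉ Set.range f) (z : Z) :
    Cyc.secDivFun δ' ((Scheme.Modules.pullback i).obj L') ξ
        (Cyc.gysinChoice ((Scheme.Modules.pullback i).obj L') σ' w₁ ξ) (f z) =
      Cyc.secDivFun δ' ((Scheme.Modules.pullback i).obj L') ξ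
        (CycSec.secPull i ξ (Cyc.gysinChoice L' s' w' (i ξ))) (f z) := by
  haveI : IsLocallyNoetherian D := LocallyOfFiniteType.isLocallyNoetherian i
  have hξ' : ξ ∉ Set.range (pullback.fst i i') := fun h => hξ ((mem_range_fst hsq ξ).2 (by
    rwa [Scheme.Pullback.range_fst] at h))
  have hz : (pullback.fst i i') (hsq.isoPullback.hom z) = f z := by
    rw [← Scheme.Hom.comp_apply, hsq.isoPullback_hom_fst]
  rw [← hz]
  exact secDivFun_gysinChoice i hL' hD' (zero_fst hsq hσ') w' w₁ δ' ξ hξ' _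

/-- The coefficients generate the same ideal. -/
theorem span_coefficient (hD' : Cyc.IsZeroSchemeOf i' L' s') (hsq : IsPullback f f' i i')
    (hσ' : Cyc.IsZeroSchemeOf f ((Scheme.Modules.pullback i).obj L') σ') (d : D) {A : X.Opens} {e : Γ(L', A)}
    (he : TMul.IsGen e) (hx : i d ∈ A) {c : X.presheaf.stalk (i d)}
    (hc : mgerm L' (show i d ∈ (⊤ : X.Opens) from trivial) s' = c • mgerm L' hx e) {B : D.Opens}
    {e₂ : Γ((Scheme.Modules.pullback i).obj L', B)} (he₂ : TMul.IsGen e₂) (hd : d ∈ B) {c₂ : D.presheaf.stalk d}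
    (hc₂ : mgerm ((Scheme.Modules.pullback i).obj L') (show d ∈ (⊤ : D.Opens) from trivial) σ' =
      c₂ • mgerm ((Scheme.Modules.pullback i).obj L') hd e₂) :
    Ideal.span {(i.stalkMap d).hom c} = Ideal.span {c₂} := by
  haveI : IsLocallyNoetherian D := LocallyOfFiniteType.isLocallyNoetherian i
  have h0 := zero_fst hsq hσ'
  by_cases h : d ∈ Set.range (pullback.fst i i')
  · obtain ⟨z, rfl⟩ := h
    have hw : i' ((pullback.snd i i') z) = i ((pullback.fst i i') z) := by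
      show (pullback.snd i i' ≫ i') z = (pullback.fst i i' ≫ i) z
      rw [pullback.condition]
    rw [← ker_eq_span h0 z he₂ hd hc₂, ker_pullback_fst i i' z hw, ker_stkHom_eq_span hD' _ hw he hx hc,
      Ideal.map_span, Set.image_singleton]
  · have h' : i d ∉ Set.range i' := fun h1 => h (by rw [Scheme.Pullback.range_fst]; exact h1)
    rw [Ideal.span_singleton_eq_top.2 (isUnit_of_notMem h0 h hd hc₂),
      Ideal.span_singleton_eq_top.2 ((isUnit_of_notMem hD' h' hx hc).map (i.stalkMap d).hom)]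

/-- Multiples of isomorphisms restrict to closed subschemes. -/
theorem MulAt.pullback_killed {A B : X.Modules} (hA : Killed i A) (hB : Killed i B) {φ : A ⟶ B} (d : D)
    {c : X.presheaf.stalk (i d)} (h : MulAt (i d) φ c) :
    MulAt d ((Scheme.Modules.pullback i).map φ) ((i.stalkMap d).hom c) := by
  obtain ⟨g, hg⟩ := h
  let E := Equiv.ofBijective _ (eta_bijective i hA d)
  let G : ((Scheme.Modules.pullback i).obj A).presheaf.stalk d → ((Scheme.Modules.pullback i).obj B).presheaf.stalk d :=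
    fun z => ((eta i d).app B).hom (g (E.symm z))
  have hG : ∀ m, G (((eta i d).app A).hom m) = ((eta i d).app B).hom (g m) := fun m =>
    congrArg (fun m => ((eta i d).app B).hom (g m)) (E.symm_apply_apply m)
  have hGb : Function.Bijective G := (eta_bijective i hB d).comp (g.bijective.comp E.symm.bijective)
  let Gl : ((Scheme.Modules.pullback i).obj A).presheaf.stalk d →ₗ[D.presheaf.stalk d]
      ((Scheme.Modules.pullback i).obj B).presheaf.stalk d :=
    { toFun := G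
      map_add' := fun a b => by
        obtain ⟨a, rfl⟩ := (eta_bijective i hA d).2 a
        obtain ⟨b, rfl⟩ := (eta_bijective i hA d).2 b
        erw [← map_add ((eta i d).app A).hom, hG, hG, hG, map_add g, map_add ((eta i d).app B).hom]
      map_smul' := fun r a => by
        obtain ⟨a, rfl⟩ := (eta_bijective i hA d).2 a
        obtain ⟨r, rfl⟩ := i.stalkMap_surjective d r
        refine (congrArg G (map_smul ((eta i d).app A).hom r a).symm).trans ?_
        rw [hG, RingHom.id_apply, hG, map_smul g]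
        exact map_smul ((eta i d).app B).hom r (g a) }
  refine ⟨LinearEquiv.ofBijective Gl hGb, fun z => ?_⟩
  obtain ⟨m, rfl⟩ := (eta_bijective i hA d).2 z
  have h1 : ((eta i d).app B).hom (((St (i d)).map φ).hom m) =
      ((St d).map ((Scheme.Modules.pullback i).map φ)).hom (((eta i d).app A).hom m) :=
    ConcreteCategory.congr_hom ((eta i d).naturality φ) m
  rw [← h1, hg]
  exact (map_smul ((eta i d).app B).hom c (g m)).trans (congrArg ((i.stalkMap d).hom c • ·) (hG m).symm)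

omit [IsLocallyNoetherian X] in
lemma killed_twist {N M : X.Modules} (hN : PicF.IsInvertible N) (h : Killed i M) : Killed i ((twist N).obj M) :=
  ⟨fun x hx => (h.1 x hx).of_iso ((exists_twistStIso hN x).some.app M), fun d a ha m => by
    obtain ⟨A, e, hx, he⟩ := TMul.exists_isGen hN (i d)
    obtain ⟨m, rfl⟩ := (theta he hx M).surjective m
    rw [← map_smul, h.2 d a ha m, map_zero]⟩

set_option maxHeartbeats 1000000 in
/-- The second section on a module killed by the first divisor. -/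
theorem nonempty_restrict (hL' : PicF.IsInvertible L') (hD' : Cyc.IsZeroSchemeOf i' L' s')
    (hsq : IsPullback f f' i i') (hσ' : Cyc.IsZeroSchemeOf f ((Scheme.Modules.pullback i).obj L') σ')
    {M : X.Modules} (hM : Killed i M) :
    Nonempty ((Scheme.Modules.pullback i).obj (gK s' M) ≅ gK σ' ((Scheme.Modules.pullback i).obj M)) ∧
      Nonempty ((Scheme.Modules.pullback i).obj (gC s' M) ≅ gC σ' ((Scheme.Modules.pullback i).obj M)) := by
  let P := Scheme.Modules.pullback i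
  let b := (sigT s').app M
  have hB : Killed i ((twist L').obj M) := killed_twist hL' hM
  have hN' : PicF.IsInvertible ((Scheme.Modules.pullback i).obj L') := PicLoc.isInvertible_pullback i hL'
  obtain ⟨⟨eK⟩, ⟨eC⟩⟩ := nonempty_kerCoker_iso (P.map b) ((sigT σ').app (P.obj M))
    (KFlat.pullTensorIso i M L').symm fun d => by
      obtain ⟨A, e, hx, he, c, hc⟩ := exists_coefficient hL' s' (i d)
      obtain ⟨B, e₂, hd, he₂, c₂, hc₂⟩ := exists_coefficient hN' σ' d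
      exact ⟨(i.stalkMap d).hom c, c₂, span_coefficient hD' hsq hσ' d he hx hc he₂ hd hc₂,
        MulAt.pullback_killed hM hB d (mulAt_sigT he hx hc M), mulAt_sigT he₂ hd hc₂ _⟩
  -- the kernel
  let S₁ := ShortComplex.mk (kernel.ι b) (Abelian.factorThruImage b)
    ((cancel_mono (Abelian.image.ι b)).1 (by rw [Category.assoc, Abelian.image.fac, kernel.condition, zero_comp]))
  let S₂ := ShortComplex.mk (Abelian.image.ι b) (cokernel.π b) (kernel.condition _)
  have hS₁ : S₁.ShortExact :=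
    { exact := ShortComplex.exact_of_f_is_kernel _ (isKernelOfComp (Abelian.image.ι b) b (kernelIsKernel b) S₁.zero (Abelian.image.fac b)) }
  have hS₂ : S₂.ShortExact := { exact := ShortComplex.exact_of_f_is_kernel _ (kernelIsKernel (cokernel.π b)) }
  have hI : Killed i (Abelian.image b) := hB.of_mono (Abelian.image.ι b)
  have hK : Killed i (kernel b) := hM.of_mono (kernel.ι b)
  have h₁ := shortExact_pullback i hS₁ hK hM hI
  have h₂ := shortExact_pullback i hS₂ hI hB (hB.of_epi (cokernel.π b))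
  haveI : Mono (P.map (Abelian.image.ι b)) := h₂.mono_f
  haveI : Mono (P.map (kernel.ι b)) := h₁.mono_f
  let k₀ : P.obj (kernel b) ≅ kernel (P.map b) :=
    h₁.fIsKernel.conePointUniqueUpToIso (limit.isLimit _) ≪≫ (kernelCompMono _ _).symm ≪≫
      kernel.mapIso _ _ (Iso.refl _) (Iso.refl _) (by
        show (P.map (Abelian.factorThruImage b) ≫ P.map (Abelian.image.ι b)) ≫ 𝟙 _ = 𝟙 _ ≫ P.map b
        rw [← P.map_comp, Abelian.image.fac, Category.comp_id, Category.id_comp])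
  exact ⟨⟨k₀ ≪≫ eK⟩, ⟨PreservesCokernel.iso P b ≪≫ eC⟩⟩

/-- The class of a module on the intersection. -/
abbrev qZ (δ : X → ℤ) (k : ℤ) (j : Z ⟶ X) (M : X.Modules) : Cyc.K0CohQuot (fun z => δ (j z)) (k + 1) (k - 1) :=
  Cyc.toK0CohQuot (fun z => δ (j z)) (k + 1) (k - 1) ((Scheme.Modules.pullback j).obj M)

set_option maxHeartbeats 1000000 in
/-- One side. -/
theorem side (hX : Cyc.IsSetup X δ) (hL : PicF.IsInvertible L) (hD : Cyc.IsZeroSchemeOf i L s)
    (hL' : PicF.IsInvertible L') (hD' : Cyc.IsZeroSchemeOf i' L' s')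
    (hsq : IsPullback f f' i i') (hσ' : Cyc.IsZeroSchemeOf f ((Scheme.Modules.pullback i).obj L') σ')
    (j : Z ⟶ X) (hj : f ≫ i = j) {R : X.Modules} (hR : Cyc.CohLe δ (k + 1 + 1) R) (a : X → ℤ)
    (hRa : Cyc.sheafFun δ (k + 1 + 1) R = a) (hout : ∀ ξ, a ξ ≠ 0 → ξ ∉ Set.range i)
    (hinj : ∀ (x : X) (c : X.presheaf.stalk x), (∀ ξ (h : ξ ⤳ x), a ξ ≠ 0 → c ∉ genPrime h) →
      ∀ m : R.presheaf.stalk x, c • m = 0 → m = 0)
    (hsmall : ∀ y ∈ Set.range i, k + 1 < δ y → IsZero ((St y).obj R))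
    (w : (ξ : X) → Cyc.secFibre L ξ) (w₁ : (d : D) → Cyc.secFibre ((Scheme.Modules.pullback i).obj L') d)
    (hw₁ : ∀ d, w₁ d ≠ 0) (γ : AlgebraicCycle Z ℤ)
    (hγ : ∀ z, γ z = Cyc.c1CapFun (fun d => δ (i d)) ((Scheme.Modules.pullback i).obj L')
      (fun d => Cyc.c1CapFun δ L a (Cyc.gysinChoice L s w) (i d))
      (Cyc.gysinChoice ((Scheme.Modules.pullback i).obj L') σ' w₁) (f z)) :
    γ ∈ Cyc.Zk Z (fun z => δ (j z)) k ∧
      qc (fun z => δ (j z)) k ⇑γ = qZ δ k j (gC s' (gC s R)) - qZ δ k j (gK s' (gC s R)) := by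
  subst hj
  haveI : IsLocallyNoetherian D := LocallyOfFiniteType.isLocallyNoetherian i
  haveI : IsLocallyNoetherian Z := LocallyOfFiniteType.isLocallyNoetherian f
  obtain ⟨μ, -, hμ, -, hμC⟩ := gy_of_regular (k := k + 1) hX hL hD hR a hRa hout hinj w
  obtain ⟨-, hkC⟩ := killed_gK_gC hL hD R
  have hT : Cyc.CohLe δ (k + 1 + 1) ((twist L).obj R) := cohLe_twist hL hR
  have hC : Cyc.CohLe δ (k + 1) (gC s R) :=
    (cohLe_iff δ _).2 ⟨(cohLe_cokernel _ hR.1.1 hT).1, fun y hy => by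
      by_cases hyi : y ∈ Set.range i
      · exact IsZero.of_epi ((St y).map (cokernel.π ((sigT s).app R)))
          ((hsmall y hyi hy).of_iso ((exists_twistStIso hL y).some.app R))
      · exact hkC.1 y hyi⟩
  obtain ⟨hk, hq⟩ := gy_eq_qc (k := k) (isSetup_closed i hX) (PicLoc.isInvertible_pullback i hL') hσ'
    (cohLe_pullback i hC) w₁ hw₁ γ fun z => by
      rw [hγ, ← hμC]
      exact congrFun (congrArg (fun b => Cyc.c1CapFun (fun d => δ (i d)) ((Scheme.Modules.pullback i).obj L') b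
        (Cyc.gysinChoice ((Scheme.Modules.pullback i).obj L') σ' w₁)) (funext fun d => (hμ d).symm)) (f z)
  refine ⟨hk, hq.trans ?_⟩
  obtain ⟨⟨eK⟩, ⟨eC⟩⟩ := nonempty_restrict hL' hD' hsq hσ' hkC
  exact congrArg₂ (· - ·)
    (q_iso ((Scheme.Modules.pullback f).mapIso eC.symm ≪≫ (Scheme.Modules.pullbackComp f i).app _))
    (q_iso ((Scheme.Modules.pullback f).mapIso eK.symm ≪≫ (Scheme.Modules.pullbackComp f i).app _))

variable {σ : Γ((Scheme.Modules.pullback i').obj L, (⊤ : D'.Opens))}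

set_option maxHeartbeats 1000000 in
/-- Families of integral closed subschemes off both divisors. -/
theorem gy_gy_family (hX : Cyc.IsSetup X δ) (hL : PicF.IsInvertible L) (hD : Cyc.IsZeroSchemeOf i L s)
    (hL' : PicF.IsInvertible L') (hD' : Cyc.IsZeroSchemeOf i' L' s') (hsq : IsPullback f f' i i')
    (hσ' : Cyc.IsZeroSchemeOf f ((Scheme.Modules.pullback i).obj L') σ')
    (hσ : Cyc.IsZeroSchemeOf f' ((Scheme.Modules.pullback i').obj L) σ) (j : Z ⟶ X) (hj : f ≫ i = j)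
    (hj' : f' ≫ i' = j) (p : AlgebraicCycle X ℤ) (hp : p ∈ Cyc.Zk X δ (k + 2)) (h0 : ∀ x, 0 ≤ p x)
    (hout : ∀ x, p x ≠ 0 → x ∉ Set.range i) (hout' : ∀ x, p x ≠ 0 → x ∉ Set.range i')
    (w : (ξ : X) → Cyc.secFibre L ξ) (w' : (ξ : X) → Cyc.secFibre L' ξ)
    (w₁ : (d : D) → Cyc.secFibre ((Scheme.Modules.pullback i).obj L') d) (hw₁ : ∀ d, w₁ d ≠ 0)
    (w₂ : (d : D') → Cyc.secFibre ((Scheme.Modules.pullback i').obj L) d) (hw₂ : ∀ d, w₂ d ≠ 0)
    (γ₁ γ₂ : AlgebraicCycle Z ℤ)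
    (h₁ : ∀ z, γ₁ z = Cyc.c1CapFun (fun d => δ (i d)) ((Scheme.Modules.pullback i).obj L')
      (fun d => Cyc.c1CapFun δ L ⇑p (Cyc.gysinChoice L s w) (i d))
      (Cyc.gysinChoice ((Scheme.Modules.pullback i).obj L') σ' w₁) (f z))
    (h₂ : ∀ z, γ₂ z = Cyc.c1CapFun (fun d => δ (i' d)) ((Scheme.Modules.pullback i').obj L)
      (fun d => Cyc.c1CapFun δ L' ⇑p (Cyc.gysinChoice L' s' w') (i' d))
      (Cyc.gysinChoice ((Scheme.Modules.pullback i').obj L) σ w₂) (f' z)) :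
    γ₁ ∈ Cyc.Zk Z (fun z => δ (j z)) k ∧ γ₂ ∈ Cyc.Zk Z (fun z => δ (j z)) k ∧
      qc (fun z => δ (j z)) k ⇑γ₁ = qc (fun z => δ (j z)) k ⇑γ₂ := by
  classical
  haveI : IsLocallyNoetherian D := LocallyOfFiniteType.isLocallyNoetherian i
  haveI : IsLocallyNoetherian Z := LocallyOfFiniteType.isLocallyNoetherian f
  have hδ := hX.2.2
  let ξ : Idx (⇑p) → X := fun l => l.1.1
  have hξ : ∀ l, δ (ξ l) = k + 2 := fun l => by_contra fun h => (ne_of_gt l.1.2) (hp l.1.1 h)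
  have hpt : ∀ x : X, {l | ξ l ⤳ x}.Finite := fun x => by
    obtain ⟨U, hU, hxU, -⟩ := exists_isAffineOpen_mem_and_subset (x := x) (U := (⊤ : X.Opens)) trivial
    exact (finite_idx (cycle_finite_affine p hU)).subset fun l hl => hl.mem_open U.2 hxU
  obtain ⟨hR, hRa⟩ := sheafFun_sigma_idx (k := k + 1) hδ ⇑p h0 (fun hU => cycle_finite_affine p hU)
    (fun x hx => by have := by_contra fun h => hx (hp x h); omega)
  have hinj : ∀ (x : X) (c : X.presheaf.stalk x), (∀ η (h : η ⤳ x), p η ≠ 0 → c ∉ genPrime h) →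
      ∀ m : (∐ fun l => integers (ξ l)).presheaf.stalk x, c • m = 0 → m = 0 := fun x c hc m hm =>
    sigma_integers_reg ξ x (hpt x) c (fun l h => hc _ h l.1.2.ne') m hm
  have hsmall : ∀ (T : Set X), (∀ x, p x ≠ 0 → x ∉ T) → ∀ y ∈ T, k + 1 < δ y →
      IsZero ((St y).obj (∐ fun l => integers (ξ l))) := fun T hT y hy hk => by
    refine isZero_st_sigma _ y fun l => isZero_integers_st fun h => ?_
    have hne : ξ l ≠ y := fun e => hT _ l.1.2.ne' (show ξ l ∈ T by rw [e]; exact hy)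
    have := (hδ _ _ h hne).1
    have := hξ l
    omega
  obtain ⟨k₁, q₁⟩ := side hX hL hD hL' hD' hsq hσ' j hj hR ⇑p hRa hout hinj (hsmall _ hout) w w₁ hw₁ γ₁ h₁
  obtain ⟨k₂, q₂⟩ := side hX hL' hD' hL hD hsq.flip hσ j hj' hR ⇑p hRa hout' hinj (hsmall _ hout') w' w₂ hw₂ γ₂ h₂
  obtain ⟨⟨eK⟩, ⟨eC⟩⟩ := nonempty_gK_gC_swap (s := s) (s' := s') hL hL' (R := ∐ fun l => integers (ξ l))
    (isZero_gK hL fun x A e he hx c hc m hm => hinj x c
      (fun η h hη hcm => hout η hη ((mem_genPrime_iff_mem_range hD h he hx hc).1 hcm)) m hm)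
    fun x A e he hx c hc m hm => hinj x c
      (fun η h hη hcm => hout' η hη ((mem_genPrime_iff_mem_range hD' h he hx hc).1 hcm)) m hm
  refine ⟨k₁, k₂, q₁.trans (Eq.trans ?_ q₂.symm)⟩
  exact congrArg₂ (· - ·) (q_iso ((Scheme.Modules.pullback j).mapIso eC))
    (q_iso ((Scheme.Modules.pullback j).mapIso eK))

omit [IsLocallyNoetherian X] in
/-- Where the cap of a cycle lives. -/
lemma cap_level {M : X.Modules} {a : X → ℤ} {v : (x : X) → Cyc.secFibre M x} {m : ℤ} (T : Set X) (hT : IsClosed T)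
    (ha : ∀ x, a x ≠ 0 → δ x = m + 1) (hs : ∀ x, a x ≠ 0 → x ∈ T) (x : X) (hx : Cyc.c1CapFun δ M a v x ≠ 0) :
    δ x = m ∧ x ∈ T := by
  obtain ⟨η, hη⟩ : ∃ η, a η * Cyc.secDivFun δ M η (v η) x ≠ 0 := by
    by_contra! h
    exact hx (finsum_eq_zero_of_forall_eq_zero h)
  obtain ⟨h1, h2⟩ := CycSec.secDivFun_support (right_ne_zero_of_mul hη)
  have := ha η (left_ne_zero_of_mul hη)
  exact ⟨by omega, h1.mem_closed hT (hs η (left_ne_zero_of_mul hη))⟩

set_option maxHeartbeats 1000000 in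
/-- Cycles supported in the first divisor. -/
theorem gy_gy_inside (hX : Cyc.IsSetup X δ) (hL : PicF.IsInvertible L)
    (hL' : PicF.IsInvertible L') (hD' : Cyc.IsZeroSchemeOf i' L' s') (hsq : IsPullback f f' i i')
    (hσ' : Cyc.IsZeroSchemeOf f ((Scheme.Modules.pullback i).obj L') σ')
    (j : Z ⟶ X) (hj : f ≫ i = j) (hj' : f' ≫ i' = j) (α : AlgebraicCycle X ℤ) (hα : α ∈ Cyc.Zk X δ (k + 2))
    (hsupp : ∀ x, α x ≠ 0 → x ∈ Set.range i)
    (w : (ξ : X) → Cyc.secFibre L ξ) (hw : ∀ ξ, w ξ ≠ 0) (w' : (ξ : X) → Cyc.secFibre L' ξ) (hw' : ∀ ξ, w' ξ ≠ 0)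
    (w₁ : (d : D) → Cyc.secFibre ((Scheme.Modules.pullback i).obj L') d) (hw₁ : ∀ d, w₁ d ≠ 0)
    (w₂ : (d : D') → Cyc.secFibre ((Scheme.Modules.pullback i').obj L) d) (hw₂ : ∀ d, w₂ d ≠ 0)
    (g₁ g₂ : AlgebraicCycle Z ℤ)
    (h₁ : ∀ z, g₁ z = Cyc.c1CapFun (fun d => δ (i d)) ((Scheme.Modules.pullback i).obj L')
      (fun d => Cyc.c1CapFun δ L ⇑α (Cyc.gysinChoice L s w) (i d))
      (Cyc.gysinChoice ((Scheme.Modules.pullback i).obj L') σ' w₁) (f z))
    (h₂ : ∀ z, g₂ z = Cyc.c1CapFun (fun d => δ (i' d)) ((Scheme.Modules.pullback i').obj L)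
      (fun d => Cyc.c1CapFun δ L' ⇑α (Cyc.gysinChoice L' s' w') (i' d))
      (Cyc.gysinChoice ((Scheme.Modules.pullback i').obj L) σ w₂) (f' z)) :
    g₁ ∈ Cyc.Zk Z (fun z => δ (j z)) k ∧ g₂ ∈ Cyc.Zk Z (fun z => δ (j z)) k ∧
      qc (fun z => δ (j z)) k ⇑g₁ = qc (fun z => δ (j z)) k ⇑g₂ := by
  classical
  have hcond : ∀ z, i' (f' z) = i (f z) := fun z => by
    show (f' ≫ i') z = (f ≫ i) z
    rw [hj', hj]
  subst hj
  haveI : IsLocallyNoetherian D := LocallyOfFiniteType.isLocallyNoetherian i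
  haveI : IsLocallyNoetherian D' := LocallyOfFiniteType.isLocallyNoetherian i'
  haveI : IsLocallyNoetherian Z := LocallyOfFiniteType.isLocallyNoetherian f
  have hδ := hX.2.2
  have hDs := isSetup_closed i hX
  have hDs' := isSetup_closed i' hX
  have hZs := isSetup_closed f hDs
  let N := (Scheme.Modules.pullback i).obj L
  let N' := (Scheme.Modules.pullback i).obj L'
  let M := (Scheme.Modules.pullback i').obj L
  have hN : PicF.IsInvertible N := PicLoc.isInvertible_pullback i hL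
  have hN' : PicF.IsInvertible N' := PicLoc.isInvertible_pullback i hL'
  have hM : PicF.IsInvertible M := PicLoc.isInvertible_pullback i' hL
  have hfN : PicF.IsInvertible ((Scheme.Modules.pullback f).obj N) := PicLoc.isInvertible_pullback f hN
  have hfM : PicF.IsInvertible ((Scheme.Modules.pullback f').obj M) := PicLoc.isInvertible_pullback f' hM
  let δD : D → ℤ := fun d => δ (i d)
  let δZ : Z → ℤ := fun z => δ (i (f z))
  let v := Cyc.gysinChoice L s w
  let v' := Cyc.gysinChoice L' s' w'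
  have hv : ∀ x, v x ≠ 0 := gysinChoice_ne_zero hw
  have hv' : ∀ x, v' x ≠ 0 := gysinChoice_ne_zero hw'
  obtain ⟨a, ha⟩ := exists_comap (i := i) α
  have hka : a ∈ Cyc.Zk D δD (k + 2) := fun d hd => by rw [ha]; exact hα _ hd
  have ha2 : ∀ d, a d ≠ 0 → δD d = k + 1 + 1 := fun d hd => by
    have := by_contra fun h => hd (hka d h)
    omega
  have hα2 : ∀ x, α x ≠ 0 → δ x = k + 1 + 1 := fun x hx => by
    have := by_contra fun h => hx (hα x h)
    omega
  have hae : (fun d => α (i d)) = ⇑a := funext fun d => (ha d).symm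
  let tL : (d : D) → Cyc.secFibre N d := fun d => CycSec.secPull i d (v (i d))
  have htL : ∀ d, tL d ≠ 0 := fun d => CycSec.secPull_ne_zero i hL d (hv _)
  let tZ : (z : Z) → Cyc.secFibre ((Scheme.Modules.pullback f).obj N) z := fun z => CycSec.secPull f z (tL (f z))
  have htZ : ∀ z, tZ z ≠ 0 := fun z => CycSec.secPull_ne_zero f hN z (htL _)
  let gD := Cyc.gysinChoice N' σ' w₁
  let vD : (d : D) → Cyc.secFibre N' d := fun d => CycSec.secPull i d (v' (i d))
  have hgD : ∀ d, gD d ≠ 0 := gysinChoice_ne_zero hw₁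
  have hvD : ∀ d, vD d ≠ 0 := fun d => CycSec.secPull_ne_zero i hL' d (hv' _)
  obtain ⟨c, hc⟩ := secFin hDs hN' a gD hgD
  obtain ⟨μ, hμ⟩ := exists_comap (i := f) c
  obtain ⟨c', hc'⟩ := secFin hDs hN' a vD hvD
  obtain ⟨μ₂, hμ₂⟩ := exists_comap (i := f) c'
  obtain ⟨γ₂, hγ₂⟩ := secFin hZs hfN μ tZ htZ
  obtain ⟨g₃, hg₃⟩ := secFin hZs hfN μ₂ tZ htZ
  have lev : ∀ (ν : AlgebraicCycle Z ℤ) (u : (d : D) → Cyc.secFibre N' d),
      (∀ z, ν z = Cyc.c1CapFun δD N' ⇑a u (f z)) → ∀ z, ν z ≠ 0 → δZ z = k + 1 := fun ν u hν z hz =>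
    (cap_level (δ := δD) Set.univ isClosed_univ ha2 (fun _ _ => trivial) (f z) (by rwa [← hν])).1
  have lμ : ∀ z, μ z ≠ 0 → δZ z = k + 1 := lev μ gD fun z => by rw [hμ, hc]
  have lμ₂ : ∀ z, μ₂ z ≠ 0 → δZ z = k + 1 := lev μ₂ vD fun z => by rw [hμ₂, hc']
  -- the first side
  have e₁ : ∀ z, g₁ z = Cyc.c1CapFun δD N' (Cyc.c1CapFun δD N ⇑a tL) gD (f z) := fun z => by
    rw [h₁, ← hae]
    exact congrFun (congrArg (fun b => Cyc.c1CapFun δD N' b gD)
      (funext fun d => c1Cap_closed i hδ hL _ hsupp v (fun x _ => hv x) d)) (f z)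
  have r₁ : Cyc.RatEquiv δZ k g₁ γ₂ := gysin_cap_comm hDs hN' hσ' hN a hka w₁ hw₁ tL htL tZ htZ g₁ γ₂ e₁ (by
    rw [hγ₂]
    exact congrArg (fun b => Cyc.c1CapFun δZ ((Scheme.Modules.pullback f).obj N) b tZ)
      (funext fun z => by rw [hμ, hc]))
  -- changing the sections of the second bundle
  have hkμ : Cyc.RatEquiv δZ (k + 1) μ μ₂ := gysin_sections f hDs.2.2 hN' a (fun d hd => hka d fun h => hd (h.trans (by ring)))
    gD vD hgD hvD (fun ξ hξ z => secDivFun_choice hL' hD' hsq hσ' w' w₁ δD ξ hξ z) μ μ₂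
    (fun z => by rw [hμ, hc]) (fun z => by rw [hμ₂, hc'])
  have kγ₂ : γ₂ ∈ Cyc.Zk Z δZ k := cap_mem lμ hγ₂
  have kg₃ : g₃ ∈ Cyc.Zk Z δZ k := cap_mem lμ₂ hg₃
  have r₂ : Cyc.RatEquiv δZ k γ₂ g₃ := by
    refine c1Cap_ratEquivZero (L := (Scheme.Modules.pullback f).obj N) hZs hfN hkμ tZ htZ (γ₂ - g₃) (fun z hz => by
      show γ₂ z - g₃ z = 0
      rw [kγ₂ z hz, kg₃ z hz, sub_zero]) (funext fun z => ?_)
    show γ₂ z - g₃ z = _
    rw [hγ₂, hg₃]
    exact (c1CapFun_sub_apply (fun z => rfl) (C1Cap.finite_gen μ z) (C1Cap.finite_gen μ₂ z)).symm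
  -- the second side
  let γ' : D' → ℤ := fun d => Cyc.c1CapFun δ L' ⇑α v' (i' d)
  have hsq' := hsq.flip
  have hγ's : ∀ d, γ' d ≠ 0 → d ∈ Set.range f' := fun d hd => (mem_range_fst hsq' d).2
    (cap_level (δ := δ) (Set.range i) i.isClosedEmbedding.isClosed_range hα2 hsupp (i' d) hd).2
  have hμ₂' : ∀ z, γ' (f' z) = μ₂ z := fun z => by
    rw [hμ₂, hc', ← hae]
    show Cyc.c1CapFun δ L' ⇑α v' (i' (f' z)) = _
    rw [hcond z]
    exact c1Cap_closed i hδ hL' _ hsupp v' (fun x _ => hv' x) (f z)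
  let gσ := Cyc.gysinChoice M σ w₂
  have hgσ : ∀ d, gσ d ≠ 0 := gysinChoice_ne_zero hw₂
  let t' : (z : Z) → Cyc.secFibre ((Scheme.Modules.pullback f').obj M) z := fun z => CycSec.secPull f' z (gσ (f' z))
  let u' : (z : Z) → Cyc.secFibre ((Scheme.Modules.pullback f').obj M) z :=
    fun z => CycSec.secPull f' z (CycSec.secPull i' (f' z) (v (i' (f' z))))
  have ht' : ∀ z, t' z ≠ 0 := fun z => CycSec.secPull_ne_zero f' hM z (hgσ _)
  have hu' : ∀ z, u' z ≠ 0 := fun z => CycSec.secPull_ne_zero f' hM z (CycSec.secPull_ne_zero i' hL _ (hv _))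
  have hfun : (fun z => δ (i' (f' z))) = δZ := funext fun z => congrArg δ (hcond z)
  have e₂ : ⇑g₂ = Cyc.c1CapFun δZ ((Scheme.Modules.pullback f').obj M) ⇑μ₂ t' := funext fun z => by
    rw [h₂, ← hfun]
    refine (c1Cap_closed f' hDs'.2.2 hM γ' hγ's gσ (fun d _ => hgσ d) z).trans ?_
    exact congrFun (congrArg (fun b => Cyc.c1CapFun (fun z => δ (i' (f' z))) ((Scheme.Modules.pullback f').obj M) b t')
      (funext hμ₂')) z
  have e₃ : ⇑g₃ = Cyc.c1CapFun δZ ((Scheme.Modules.pullback f').obj M) ⇑μ₂ u' := by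
    rw [hg₃]
    funext z
    refine finsum_congr fun η => congrArg (μ₂ η * ·) ?_
    have l : Cyc.secDivFun δZ ((Scheme.Modules.pullback f).obj N) η (tZ η) z =
        Cyc.secDivFun δ L (i (f η)) (v (i (f η))) (i (f z)) :=
      (secDivFun_closed f hDs.2.2 hN η (htL _) z).trans (secDivFun_closed i hδ hL (f η) (hv _) (f z))
    have r : Cyc.secDivFun δZ ((Scheme.Modules.pullback f').obj M) η (u' η) z =
        Cyc.secDivFun δ L (i' (f' η)) (v (i' (f' η))) (i' (f' z)) := by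
      rw [← hfun]
      exact (secDivFun_closed f' hDs'.2.2 hM η (CycSec.secPull_ne_zero i' hL _ (hv _)) z).trans
        (secDivFun_closed i' hδ hL (f' η) (hv _) (f' z))
    refine l.trans (Eq.trans ?_ r.symm)
    rw [hcond η, hcond z]
  have r₃ : Cyc.RatEquiv δZ k g₂ g₃ := C1Cap.ratEquiv_cap δZ hfM k μ₂
    (fun z hz => by_contra fun h => hz (lμ₂ z h)) t' u' (fun z _ => ht' z) (fun z _ => hu' z) g₂ g₃ e₂ e₃
  have kg₁ : g₁ ∈ Cyc.Zk Z δZ k := fun z hz => by_contra fun h => hz (by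
    rw [e₁] at h
    exact (cap_level (δ := δD) (m := k) Set.univ isClosed_univ (fun x hx =>
      (cap_level (δ := δD) (m := k + 1) Set.univ isClosed_univ ha2 (fun _ _ => trivial) x hx).1)
      (fun _ _ => trivial) (f z) h).1)
  have kg₂ : g₂ ∈ Cyc.Zk Z δZ k := cap_mem lμ₂ e₂
  exact ⟨kg₁, kg₂, (qc_eq_of_ratEquiv hZs kg₁ kγ₂ r₁).trans ((qc_eq_of_ratEquiv hZs kγ₂ kg₃ r₂).trans
    (qc_eq_of_ratEquiv hZs kg₂ kg₃ r₃).symm)⟩

set_option maxHeartbeats 1000000 in
/-- The Gysin maps of two pseudo divisors commute. -/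
theorem gysin_gysin_comm (hX : Cyc.IsSetup X δ) (hL : PicF.IsInvertible L) (hD : Cyc.IsZeroSchemeOf i L s)
    (hL' : PicF.IsInvertible L') (hD' : Cyc.IsZeroSchemeOf i' L' s') (hsq : IsPullback f f' i i')
    (hσ' : Cyc.IsZeroSchemeOf f ((Scheme.Modules.pullback i).obj L') σ')
    (hσ : Cyc.IsZeroSchemeOf f' ((Scheme.Modules.pullback i').obj L) σ)
    (α : AlgebraicCycle X ℤ) (hα : α ∈ Cyc.Zk X δ (k + 2))
    (w : (ξ : X) → Cyc.secFibre L ξ) (hw : ∀ ξ, w ξ ≠ 0) (w' : (ξ : X) → Cyc.secFibre L' ξ) (hw' : ∀ ξ, w' ξ ≠ 0)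
    (w₁ : (d : D) → Cyc.secFibre ((Scheme.Modules.pullback i).obj L') d) (hw₁ : ∀ d, w₁ d ≠ 0)
    (w₂ : (d : D') → Cyc.secFibre ((Scheme.Modules.pullback i').obj L) d) (hw₂ : ∀ d, w₂ d ≠ 0)
    (γ₁ γ₂ : AlgebraicCycle Z ℤ)
    (h₁ : ∀ z, γ₁ z = Cyc.c1CapFun (fun d => δ (i d)) ((Scheme.Modules.pullback i).obj L')
      (fun d => Cyc.c1CapFun δ L ⇑α (Cyc.gysinChoice L s w) (i d))
      (Cyc.gysinChoice ((Scheme.Modules.pullback i).obj L') σ' w₁) (f z))
    (h₂ : ∀ z, γ₂ z = Cyc.c1CapFun (fun d => δ (i' d)) ((Scheme.Modules.pullback i').obj L)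
      (fun d => Cyc.c1CapFun δ L' ⇑α (Cyc.gysinChoice L' s' w') (i' d))
      (Cyc.gysinChoice ((Scheme.Modules.pullback i').obj L) σ w₂) (f' z)) :
    Cyc.RatEquiv (fun z => δ (i (f z))) k γ₁ γ₂ := by
  classical
  haveI : IsLocallyNoetherian D := LocallyOfFiniteType.isLocallyNoetherian i
  haveI : IsLocallyNoetherian D' := LocallyOfFiniteType.isLocallyNoetherian i'
  haveI : IsLocallyNoetherian Z := LocallyOfFiniteType.isLocallyNoetherian f
  have hZs : Cyc.IsSetup Z fun z => δ (i (f z)) := isSetup_closed f (isSetup_closed i hX)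
  let N' := (Scheme.Modules.pullback i).obj L'
  let M := (Scheme.Modules.pullback i').obj L
  have hN' : PicF.IsInvertible N' := PicLoc.isInvertible_pullback i hL'
  have hM : PicF.IsInvertible M := PicLoc.isInvertible_pullback i' hL
  let v := Cyc.gysinChoice L s w
  let v' := Cyc.gysinChoice L' s' w'
  let gD := Cyc.gysinChoice N' σ' w₁
  let gσ := Cyc.gysinChoice M σ w₂
  have hv : ∀ x, v x ≠ 0 := gysinChoice_ne_zero hw
  have hv' : ∀ x, v' x ≠ 0 := gysinChoice_ne_zero hw'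
  let Good : AlgebraicCycle X ℤ → Prop := fun a => ∀ g₁ g₂ : AlgebraicCycle Z ℤ,
    (∀ z, g₁ z = Cyc.c1CapFun (fun d => δ (i d)) N' (fun d => Cyc.c1CapFun δ L ⇑a v (i d)) gD (f z)) →
    (∀ z, g₂ z = Cyc.c1CapFun (fun d => δ (i' d)) M (fun d => Cyc.c1CapFun δ L' ⇑a v' (i' d)) gσ (f' z)) →
    g₁ ∈ Cyc.Zk Z (fun z => δ (i (f z))) k ∧ g₂ ∈ Cyc.Zk Z (fun z => δ (i (f z))) k ∧
      qc (fun z => δ (i (f z))) k ⇑g₁ = qc (fun z => δ (i (f z))) k ⇑g₂
  -- the two sides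
  have mk : ∀ a : AlgebraicCycle X ℤ, ∃ (μ : AlgebraicCycle D ℤ) (μ' : AlgebraicCycle D' ℤ)
      (ζ₁ ζ₂ : AlgebraicCycle Z ℤ), (∀ d, μ d = Cyc.c1CapFun δ L ⇑a v (i d)) ∧
      (∀ d, μ' d = Cyc.c1CapFun δ L' ⇑a v' (i' d)) ∧
      (∀ z, ζ₁ z = Cyc.c1CapFun (fun d => δ (i d)) N' ⇑μ gD (f z)) ∧
      (∀ z, ζ₂ z = Cyc.c1CapFun (fun d => δ (i' d)) M ⇑μ' gσ (f' z)) := fun a => by
    obtain ⟨c, hc⟩ := secFin hX hL a v hv
    obtain ⟨μ, hμ⟩ := exists_comap (i := i) c
    obtain ⟨c', hc'⟩ := secFin hX hL' a v' hv'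
    obtain ⟨μ', hμ'⟩ := exists_comap (i := i') c'
    obtain ⟨e, he⟩ := secFin (isSetup_closed i hX) hN' μ gD (gysinChoice_ne_zero hw₁)
    obtain ⟨ζ₁, hζ₁⟩ := exists_comap (i := f) e
    obtain ⟨e', he'⟩ := secFin (isSetup_closed i' hX) hM μ' gσ (gysinChoice_ne_zero hw₂)
    obtain ⟨ζ₂, hζ₂⟩ := exists_comap (i := f') e'
    exact ⟨μ, μ', ζ₁, ζ₂, fun d => by rw [hμ, hc], fun d => by rw [hμ', hc'], fun z => by rw [hζ₁, he],
      fun z => by rw [hζ₂, he']⟩
  have sub : ∀ a b c : AlgebraicCycle X ℤ, (∀ x, a x = b x - c x) → Good b → Good c → Good a := by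
    intro a b c hab gb gc g₁ g₂ e₁ e₂
    obtain ⟨μb, μb', b₁, b₂, hμb, hμb', hb₁, hb₂⟩ := mk b
    obtain ⟨μc, μc', c₁, c₂, hμc, hμc', hc₁, hc₂⟩ := mk c
    obtain ⟨kb₁, kb₂, qb⟩ := gb b₁ b₂ (fun z => by rw [hb₁, funext hμb]) (fun z => by rw [hb₂, funext hμb'])
    obtain ⟨kc₁, kc₂, qc'⟩ := gc c₁ c₂ (fun z => by rw [hc₁, funext hμc]) (fun z => by rw [hc₂, funext hμc'])
    have l₁ : ∀ z, g₁ z = b₁ z - c₁ z := fun z => by
      rw [e₁, hb₁, hc₁]
      exact c1CapFun_sub_apply (fun d => by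
        rw [hμb, hμc]
        exact c1CapFun_sub_apply hab (C1Cap.finite_gen b _) (C1Cap.finite_gen c _))
        (C1Cap.finite_gen μb _) (C1Cap.finite_gen μc _)
    have l₂ : ∀ z, g₂ z = b₂ z - c₂ z := fun z => by
      rw [e₂, hb₂, hc₂]
      exact c1CapFun_sub_apply (fun d => by
        rw [hμb', hμc']
        exact c1CapFun_sub_apply hab (C1Cap.finite_gen b _) (C1Cap.finite_gen c _))
        (C1Cap.finite_gen μb' _) (C1Cap.finite_gen μc' _)
    have k₁ : g₁ ∈ Cyc.Zk Z (fun z => δ (i (f z))) k := fun z hz => by rw [l₁, kb₁ z hz, kc₁ z hz, sub_zero]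
    have k₂ : g₂ ∈ Cyc.Zk Z (fun z => δ (i (f z))) k := fun z hz => by rw [l₂, kb₂ z hz, kc₂ z hz, sub_zero]
    exact ⟨k₁, k₂, by rw [qc_sub hZs k₁ kb₁ kc₁ l₁, qc_sub hZs k₂ kb₂ kc₂ l₂, qb, qc']⟩
  -- the parts
  have part : ∀ a : X → ℤ, (∀ x, a x ≠ 0 → α x ≠ 0) → ∃ c : AlgebraicCycle X ℤ, ⇑c = a ∧ c ∈ Cyc.Zk X δ (k + 2) :=
    fun a ha => by
      obtain ⟨c, hc⟩ := exists_cycle_affine a fun hU =>
        (cycle_finite_affine α hU).subset fun x hx => ⟨hx.1, ha x hx.2⟩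
      exact ⟨c, hc, fun x hx => by
        rw [hc]
        by_contra h
        exact ha x h (hα x hx)⟩
  let A := Set.range i
  let B := Set.range i'
  obtain ⟨αi, hαi, ki⟩ := part (fun x => if x ∈ A then α x else 0) fun x hx h => hx (by simp [h])
  obtain ⟨αm, hαm, km⟩ := part (fun x => if x ∈ A then 0 else if x ∈ B then -α x else 0)
    fun x hx h => hx (by simp [h])
  obtain ⟨αp, hαp, kp⟩ := part (fun x => if x ∈ A ∨ x ∈ B then 0 else max (α x) 0) fun x hx h => hx (by simp [h])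
  obtain ⟨αn, hαn, kn⟩ := part (fun x => if x ∈ A ∨ x ∈ B then 0 else max (-α x) 0) fun x hx h => hx (by simp [h])
  obtain ⟨αo, hαo, -⟩ := part (fun x => if x ∈ A ∨ x ∈ B then 0 else α x) fun x hx h => hx (by simp [h])
  obtain ⟨αr, hαr, -⟩ := part (fun x => if x ∈ A then 0 else α x) fun x hx h => hx (by simp [h])
  obtain ⟨αs, hαs, -⟩ := part (fun x => if x ∈ A then 0 else -α x) fun x hx h => hx (by simp [h])
  have hj' : f' ≫ i' = f ≫ i := hsq.w.symm
  have outGood : ∀ a : AlgebraicCycle X ℤ, a ∈ Cyc.Zk X δ (k + 2) → (∀ x, 0 ≤ a x) →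
      (∀ x, a x ≠ 0 → x ∉ A ∧ x ∉ B) → Good a := fun a ha h0 ho g₁ g₂ e₁ e₂ =>
    gy_gy_family hX hL hD hL' hD' hsq hσ' hσ (f ≫ i) rfl hj' a ha h0 (fun x hx => (ho x hx).1)
      (fun x hx => (ho x hx).2) w w' w₁ hw₁ w₂ hw₂ g₁ g₂ e₁ e₂
  have goodP : Good αp := outGood αp kp (fun x => by rw [hαp]; dsimp only; split <;> omega)
    fun x hx => not_or.1 fun h => hx (by rw [hαp]; exact if_pos h)
  have goodN : Good αn := outGood αn kn (fun x => by rw [hαn]; dsimp only; split <;> omega)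
    fun x hx => not_or.1 fun h => hx (by rw [hαn]; exact if_pos h)
  have goodI : Good αi := fun g₁ g₂ e₁ e₂ =>
    gy_gy_inside hX hL hL' hD' hsq hσ' (f ≫ i) rfl hj' αi ki
      (fun x hx => by_contra fun h => hx (by rw [hαi]; exact if_neg h)) w hw w' hw' w₁ hw₁ w₂ hw₂ g₁ g₂ e₁ e₂
  have goodM : Good αm := fun g₁ g₂ e₁ e₂ => by
    obtain ⟨a₁, a₂, a₃⟩ := gy_gy_inside hX hL' hL hD hsq.flip hσ (f ≫ i) hj' rfl αm km
      (fun x hx => by_contra fun h => hx (by rw [hαm]; dsimp only; rw [if_neg h]; split <;> rfl))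
      w' hw' w hw w₂ hw₂ w₁ hw₁ g₂ g₁ e₂ e₁
    exact ⟨a₂, a₁, a₃.symm⟩
  have goodO : Good αo := sub αo αp αn (fun x => by
    rw [hαo, hαp, hαn]; dsimp only; split <;> omega) goodP goodN
  have goodR : Good αr := sub αr αo αm (fun x => by
    rw [hαr, hαo, hαm]
    by_cases hA : x ∈ A <;> by_cases hB : x ∈ B <;> simp [hA, hB]) goodO goodM
  obtain ⟨z, hz⟩ : ∃ z : AlgebraicCycle X ℤ, z = αi - αi := ⟨_, rfl⟩
  have good0 : Good z := sub z αi αi (fun x => by rw [hz]; rfl) goodI goodI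
  have goodS : Good αs := sub αs z αr (fun x => by
    rw [hz, hαs, hαr]
    show _ = (αi x - αi x) - _
    dsimp only
    split <;> omega) good0 goodR
  obtain ⟨k₁, k₂, e⟩ := sub α αi αs (fun x => by
    rw [hαi, hαs]; dsimp only; split <;> omega) goodI goodS γ₁ γ₂ h₁ h₂
  exact ratEquiv_of_qc hZs k₁ k₂ e

end Groth.Agent.CycK0
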