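import Groth.Agent.CycK0.Basic
import Groth.Agent.S1896

/-!
`K₀(Coh_{≤k}/Coh_{≤k-1})` is the group of `k`-cycles.
-/

set_option autoImplicit false
set_option linter.unusedSectionVars false
set_option linter.style.haveILetI false
set_option backward.isDefEq.respectTransparency false
set_option backward.isDefEq.respectTransparency.types false

universe u

open CategoryTheory CategoryTheory.Limits AlgebraicGeometry TopologicalSpace Opposite
open Groth.Agent.K0Dev (St)

noncomputable section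

attribute [local instance] Abelian.hasFiniteBiproducts

namespace Groth.Agent.CycK0

variable {X : Scheme.{u}} [IsLocallyNoetherian X] {δ : X → ℤ} {k : ℤ}

/-- Components are the closures of the points of top dimension they contain. -/
lemma component_eq (hδ : Cyc.IsDimFun X δ) {Y : Set X} (hY : IsClosed Y) (hk : ∀ y ∈ Y, δ y ≤ k) {ξ : X}
    (hξk : δ ξ = k) (C : irreducibleComponents Y) (hmem : ξ ∈ ((↑) '' (C : Set Y) : Set X)) :
    ((↑) '' (C : Set Y) : Set X) = closure {ξ} := by
  have hirr : IsIrreducible ((↑) '' (C : Set Y) : Set X) := C.2.1.image _ continuous_subtype_val.continuousOn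
  have hcl : IsClosed ((↑) '' (C : Set Y) : Set X) :=
    hY.isClosedEmbedding_subtypeVal.isClosedMap _ (isClosed_of_mem_irreducibleComponents _ C.2)
  obtain ⟨η, hη⟩ := QuasiSober.sober hirr hcl
  obtain ⟨y, -, hy⟩ := hη.mem
  have hηk : δ η ≤ δ ξ := hξk ▸ hk η (hy ▸ y.2)
  rw [CycDim.eq_of_delta_le hδ (hη.specializes hmem) hηk] at hη
  exact hη.def.symm

lemma locallyFinite_comp (Y : Set X) (hY : IsClosed Y) :
    LocallyFinite (fun C : irreducibleComponents Y => ((↑) '' (C : Set Y) : Set X)) :=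
  CycDim.locallyFinite_components Y hY

lemma exists_component (Y : Set X) {y : X} (hy : y ∈ Y) :
    ∃ C : irreducibleComponents Y, y ∈ ((↑) '' (C : Set Y) : Set X) :=
  ⟨⟨_, irreducibleComponent_mem_irreducibleComponents ⟨y, hy⟩⟩, ⟨y, hy⟩, mem_irreducibleComponent, rfl⟩

/-- A point of top dimension has a neighbourhood in which every point of `Y` specialises from it. -/
theorem exists_isolating (hδ : Cyc.IsDimFun X δ) {Y : Set X} (hY : IsClosed Y) (hk : ∀ y ∈ Y, δ y ≤ k) {ξ : X}
    (hξk : δ ξ = k) : ∃ W : X.Opens, ξ ∈ W ∧ ∀ y ∈ W, y ∈ Y → ξ ⤳ y := by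
  let c : irreducibleComponents Y → Set X := fun C => (↑) '' (C : Set Y)
  obtain ⟨N, hN, hfin⟩ := locallyFinite_comp Y hY ξ
  obtain ⟨N', hN'N, hN'o, hξN'⟩ := mem_nhds_iff.1 hN
  let bad : Set (irreducibleComponents Y) := {C | (c C ∩ N).Nonempty ∧ ξ ∉ c C}
  have hbad : bad.Finite := hfin.subset fun C h => h.1
  have hcl : IsClosed (⋃ C ∈ bad, c C) := hbad.isClosed_biUnion fun C _ =>
    hY.isClosedEmbedding_subtypeVal.isClosedMap _ (isClosed_of_mem_irreducibleComponents _ C.2)
  refine ⟨⟨N' ∩ (⋃ C ∈ bad, c C)ᶜ, hN'o.inter hcl.isOpen_compl⟩, ⟨hξN', ?_⟩, fun y hy hyY => ?_⟩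
  · simp only [Set.mem_compl_iff, Set.mem_iUnion, not_exists]
    exact fun C hC hξC => hC.2 hξC
  · obtain ⟨C, hC⟩ := exists_component Y hyY
    have hξC : ξ ∈ c C := by
      by_contra h
      exact hy.2 (Set.mem_biUnion (show C ∈ bad from ⟨⟨y, hC, hN'N hy.1⟩, h⟩) hC)
    exact specializes_iff_mem_closure.2 (component_eq hδ hY hk hξk C hξC ▸ hC)

/-- Only finitely many points of top dimension on a quasi-compact open. -/
theorem finite_top (hδ : Cyc.IsDimFun X δ) {Y : Set X} (hY : IsClosed Y) (hk : ∀ y ∈ Y, δ y ≤ k)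
    {U : X.Opens} (hU : IsAffineOpen U) : {x : X | x ∈ U ∧ x ∈ Y ∧ δ x = k}.Finite := by
  classical
  let c : irreducibleComponents Y → Set X := fun C => (↑) '' (C : Set Y)
  have hfin := ((locallyFinite_comp Y hY).finite_nonempty_inter_compact hU.isCompact).image c
  refine Set.Finite.of_finite_image (f := fun x : X => closure ({x} : Set X)) (hfin.subset ?_) ?_
  · rintro _ ⟨x, ⟨hxU, hxY, hxk⟩, rfl⟩
    obtain ⟨C, hC⟩ := exists_component Y hxY
    exact ⟨C, ⟨x, hC, hxU⟩, component_eq hδ hY hk hxk C hC⟩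
  · intro x hx y hy hxy
    refine CycDim.eq_of_delta_le hδ (specializes_iff_mem_closure.2 ?_) (hx.2.2.trans hy.2.2.symm).le
    rw [show closure ({x} : Set X) = closure {y} from hxy]
    exact subset_closure rfl

/-- Modules killed by the maximal ideal are determined by their lengths. -/
theorem nonempty_equiv_of_length {R : Type u} [CommRing R] [IsLocalRing R] {M N : Type u} [AddCommGroup M]
    [Module R M] [AddCommGroup N] [Module R N] (hM : ∀ a ∈ IsLocalRing.maximalIdeal R, ∀ m : M, a • m = 0)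
    (hN : ∀ a ∈ IsLocalRing.maximalIdeal R, ∀ m : N, a • m = 0) (hfM : Module.length R M ≠ ⊤)
    (hfN : Module.length R N ≠ ⊤) (h : (Module.length R M).toNat = (Module.length R N).toNat) :
    Nonempty (M ≃ₗ[R] N) := by
  let φ := IsLocalRing.residue R
  have hk : ∀ a, φ a = 0 → a ∈ IsLocalRing.maximalIdeal R := fun a ha => Ideal.Quotient.eq_zero_iff_mem.1 ha
  obtain ⟨iM, hiM⟩ := SupportLib.exists_module_of_surjective φ IsLocalRing.residue_surjective M
    fun a ha => hM a (hk a ha)
  obtain ⟨iN, hiN⟩ := SupportLib.exists_module_of_surjective φ IsLocalRing.residue_surjective N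
    fun a ha => hN a (hk a ha)
  letI := iM
  letI := iN
  haveI : RingHomSurjective φ := ⟨IsLocalRing.residue_surjective⟩
  let fM : M →ₛₗ[φ] M := { toFun := id, map_add' := fun _ _ => rfl, map_smul' := fun a m => (hiM a m).symm }
  let fN : N →ₛₗ[φ] N := { toFun := id, map_add' := fun _ _ => rfl, map_smul' := fun a m => (hiN a m).symm }
  have eM : Module.length (IsLocalRing.ResidueField R) M = Module.length R M := by
    rw [Module.length, Module.length, WithBot.unbot_inj,
      Order.krullDim_eq_of_orderIso (Submodule.orderIsoMapComapOfBijective fM Function.bijective_id)]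
  have eN : Module.length (IsLocalRing.ResidueField R) N = Module.length R N := by
    rw [Module.length, Module.length, WithBot.unbot_inj,
      Order.krullDim_eq_of_orderIso (Submodule.orderIsoMapComapOfBijective fN Function.bijective_id)]
  haveI : Module.Finite (IsLocalRing.ResidueField R) M := by
    haveI : IsNoetherian (IsLocalRing.ResidueField R) M :=
      (isFiniteLength_iff_isNoetherian_isArtinian.1 (Module.length_ne_top_iff.1 (eM ▸ hfM))).1
    infer_instance
  haveI : Module.Finite (IsLocalRing.ResidueField R) N := by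
    haveI : IsNoetherian (IsLocalRing.ResidueField R) N :=
      (isFiniteLength_iff_isNoetherian_isArtinian.1 (Module.length_ne_top_iff.1 (eN ▸ hfN))).1
    infer_instance
  have hr : Module.finrank (IsLocalRing.ResidueField R) M = Module.finrank (IsLocalRing.ResidueField R) N := by
    have h1 := Module.length_eq_finrank (IsLocalRing.ResidueField R) M
    have h2 := Module.length_eq_finrank (IsLocalRing.ResidueField R) N
    rw [eM] at h1; rw [eN] at h2
    rwa [h1, h2, ENat.toNat_coe, ENat.toNat_coe] at h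
  let e := LinearEquiv.ofFinrankEq M N hr
  exact ⟨{ e.toAddEquiv with map_smul' := fun a m => (congrArg e (hiM a m).symm).trans ((e.map_smul (φ a) m).trans (hiN a (e m))) }⟩

lemma length_ne_top (hδ : Cyc.IsDimFun X δ) {F : X.Modules} (hF : Cyc.CohLe δ k F) {x : X} (hx : δ x = k) :
    Module.length (X.presheaf.stalk x) (F.presheaf.stalk x) ≠ ⊤ :=
  (CycDim.length_stalk_module_lt_top F hF.1.1 hF.1.2
    fun z hz hzx => CycDim.eq_of_delta_le hδ hzx (hx ▸ hF.2 z hz)).ne

/-- Killed by the maximal ideals at all points of top dimension. -/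
def Reduced (δ : X → ℤ) (k : ℤ) (F : X.Modules) : Prop :=
  ∀ x, δ x = k → ∀ a ∈ IsLocalRing.maximalIdeal (X.presheaf.stalk x), ∀ m : F.presheaf.stalk x, a • m = 0

set_option maxHeartbeats 1000000 in
/-- Two reduced modules with the same multiplicities have the same class. -/
theorem q_eq_of_reduced (hδ : Cyc.IsDimFun X δ) {G B : X.Modules} (hG : Cyc.CohLe δ k G) (hB : Cyc.CohLe δ k B)
    (rG : Reduced δ k G) (rB : Reduced δ k B) (h : Cyc.sheafFun δ k G = Cyc.sheafFun δ k B) :
    Cyc.toK0CohQuot δ k (k - 1) G = Cyc.toK0CohQuot δ k (k - 1) B := by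
  classical
  let Y : Set X := CohB1.support G ∪ CohB1.support B
  haveI := hG.1.1
  haveI := hB.1.1
  have hY : IsClosed Y := (QC.isClosed_support hG.1.2).union (QC.isClosed_support hB.1.2)
  have hk : ∀ y ∈ Y, δ y ≤ k := fun y hy => hy.elim (fun h => hG.2 y (not_subsingleton_iff_nontrivial.1 h))
    (fun h => hB.2 y (not_subsingleton_iff_nontrivial.1 h))
  let σ := {x : X // x ∈ Y ∧ δ x = k}
  let P : ∀ s : σ, ModuleCat.{u} (X.presheaf.stalk s.1) := fun s => (St s.1).obj G
  have ψ : ∀ s : σ, (St s.1).obj B ≅ P s := fun s => (nonempty_equiv_of_length (rB s.1 s.2.2) (rG s.1 s.2.2)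
    (length_ne_top hδ hB s.2.2) (length_ne_top hδ hG s.2.2) (by
      have h1 := congrFun h s.1
      simp only [Cyc.sheafFun, if_pos s.2.2, Nat.cast_inj] at h1
      exact h1.symm)).some.toModuleIso
  let T : σ → X.Modules := fun s => (KFlat.sky s.1).obj (P s)
  have hT : Coh.IsQCoh (∏ᶜ T) := isQCoh_prod_sky (fun s : σ => s.1) P fun s => rG s.1 s.2.2
  let a : G ⟶ ∏ᶜ T := Pi.lift fun s => KFlat.toSky s.1 (𝟙 (P s))
  let b : B ⟶ ∏ᶜ T := Pi.lift fun s => KFlat.toSky s.1 (ψ s).hom
  let d : G ⊞ B ⟶ ∏ᶜ T := biprod.desc a (-b)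
  let p₁ : kernel d ⟶ G := kernel.ι d ≫ biprod.fst
  let p₂ : kernel d ⟶ B := kernel.ι d ≫ biprod.snd
  have hE : Cyc.CohLe δ k (kernel d) := cohLe_kernel d (cohLe_biprod hG hB) hT
  have key : ∀ x, δ x = k → IsIso ((St x).map p₁) ∧ IsIso ((St x).map p₂) := by
    intro x hx
    by_cases hxY : x ∈ Y
    · let s : σ := ⟨x, hxY, hx⟩
      obtain ⟨W, hxW, hW⟩ := exists_isolating hδ hY hk hx
      have hπ : Function.Injective ((St x).map (Pi.π T s)).hom := by
        refine (injective_iff_map_eq_zero _).2 fun z hz => ?_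
        obtain ⟨U, hU, t, rfl⟩ := KFlat.exists_pgerm (DCoh.toP.obj (∏ᶜ T)) x z
        have h1 : (Pi.π T s).app U t = (0 : Γ(T s, U)) := by
          refine funext fun hh => ?_
          have h2 : (St x).map (Pi.π T s) ≫ (KFlat.skyStalkIso x (P s)).hom =
              (St x).map (Pi.π T s) ≫ (KFlat.skyStalkIso x (P s)).hom := rfl
          have h3 := congrArg (KFlat.skyEvalₗ x (P s)) hz
          rw [map_zero] at h3
          refine Eq.trans ?_ h3
          refine Eq.trans ?_ (congrArg (KFlat.skyEvalₗ x (P s))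
            (KFlat.pstMap_germ (DCoh.toP.map (Pi.π T s)) x hU t).symm)
          exact (KFlat.skyEval_germ x (P s) U hU _).symm
        have hUW : x ∈ U ⊓ W := ⟨hU, hxW⟩
        have h2 : QC.res (∏ᶜ T) (inf_le_left : U ⊓ W ≤ U) t = 0 := by
          refine Concrete.isLimit_ext _ (isLimitOfPreserves (SheafOfModules.evaluation X.ringCatSheaf (op (U ⊓ W)))
            (limit.isLimit (Discrete.functor T))) _ _ fun j => ?_
          show (Pi.π T j.as).app (U ⊓ W) (QC.res (∏ᶜ T) (inf_le_left : U ⊓ W ≤ U) t) = (Pi.π T j.as).app (U ⊓ W) 0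
          rw [map_zero]
          by_cases hj : j.as = s
          · rw [hj, ← QC.app_res, h1, map_zero]
          · refine funext fun hh => ?_
            refine absurd (hW j.as.1 hh.down.2 j.as.2.1) fun hsp => hj (Subtype.ext ?_)
            exact (CycDim.eq_of_delta_le hδ hsp (hx.trans j.as.2.2.symm).le).symm
        refine (KFlat.pgerm_res (DCoh.toP.obj (∏ᶜ T)) x (inf_le_left : U ⊓ W ≤ U) hUW t).symm.trans ?_
        exact (congrArg _ h2).trans (map_zero _)
      have ha : IsIso ((St x).map (a ≫ Pi.π T s)) := by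
        rw [Pi.lift_π]
        exact IsIso.of_isIso_fac_right (toSky_st (x := x) (𝟙 (P s)))
      have hb : IsIso ((St x).map (b ≫ Pi.π T s)) := by
        rw [Pi.lift_π]
        exact IsIso.of_isIso_fac_right (toSky_st (x := x) (ψ s).hom)
      haveI : Mono ((St x).map (Pi.π T s)) := (ModuleCat.mono_iff_injective _).2 hπ
      rw [Functor.map_comp] at ha hb
      haveI := ha
      haveI := hb
      haveI : IsIso ((St x).map (Pi.π T s)) := by
        haveI : Epi ((St x).map (Pi.π T s)) := epi_of_epi ((St x).map a) _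
        exact isIso_of_mono_of_epi _
      haveI : IsIso ((St x).map a) := IsIso.of_isIso_comp_right _ ((St x).map (Pi.π T s))
      haveI : IsIso ((St x).map b) := IsIso.of_isIso_comp_right _ ((St x).map (Pi.π T s))
      let K := (St x).map (kernel.ι d)
      have hw : (St x).map p₁ ≫ (St x).map a = (St x).map p₂ ≫ (St x).map b := by
        rw [← Functor.map_comp, ← Functor.map_comp]
        refine congrArg (St x).map (sub_eq_zero.1 ?_)
        have := kernel.condition d
        rw [show p₁ ≫ a - p₂ ≫ b = kernel.ι d ≫ d by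
          simp only [p₁, p₂, d, Category.assoc, ← Preadditive.comp_sub]
          congr 1
          apply biprod.hom_ext' <;> simp]
        exact this
      have hzero : ∀ z : (kernel d).presheaf.stalk x, ((St x).map p₁).hom z = 0 → z = 0 := by
        intro z hz
        have h2 : ((St x).map p₂).hom z = 0 := by
          refine (ConcreteCategory.bijective_of_isIso ((St x).map b)).1 ?_
          refine ((LinearMap.congr_fun (congrArg ModuleCat.Hom.hom hw) z).symm.trans ?_).trans (map_zero _).symm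
          exact (congrArg ((St x).map a).hom hz).trans (map_zero _)
        refine ((ModuleCat.mono_iff_injective K).1 inferInstance) (Eq.trans ?_ (map_zero _).symm)
        have htot : K = (St x).map p₁ ≫ (St x).map biprod.inl + (St x).map p₂ ≫ (St x).map biprod.inr := by
          rw [← Functor.map_comp, ← Functor.map_comp, ← Functor.map_add]
          refine congrArg (St x).map ?_
          simp only [p₁, p₂, Category.assoc, ← Preadditive.comp_add, biprod.total, Category.comp_id]
        refine (LinearMap.congr_fun (congrArg ModuleCat.Hom.hom htot) z).trans ?_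
        show ((St x).map biprod.inl).hom (((St x).map p₁).hom z) + ((St x).map biprod.inr).hom (((St x).map p₂).hom z) = 0
        rw [hz, h2, map_zero, map_zero, add_zero]
      haveI : Mono ((St x).map p₁) := (ModuleCat.mono_iff_injective _).2 ((injective_iff_map_eq_zero _).2 hzero)
      haveI : Epi ((St x).map p₁) := by
        refine (ModuleCat.epi_iff_surjective _).2 fun m => ?_
        obtain ⟨m', hm'⟩ := (ConcreteCategory.bijective_of_isIso ((St x).map b)).2 (((St x).map a).hom m)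
        let v : (G ⊞ B).presheaf.stalk x := ((St x).map biprod.inl).hom m + ((St x).map biprod.inr).hom m'
        have hv : ((St x).map d).hom v = 0 := by
          rw [map_add]
          have e1 : (St x).map biprod.inl ≫ (St x).map d = (St x).map a := by
            rw [← Functor.map_comp, biprod.inl_desc]
          have e2 : (St x).map biprod.inr ≫ (St x).map d = -(St x).map b := by
            rw [← Functor.map_comp, biprod.inr_desc, Functor.map_neg]
          refine (congrArg₂ (· + ·) (LinearMap.congr_fun (congrArg ModuleCat.Hom.hom e1) m)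
            (LinearMap.congr_fun (congrArg ModuleCat.Hom.hom e2) m')).trans ?_
          show ((St x).map a).hom m + -((St x).map b).hom m' = 0
          rw [show ((St x).map b).hom m' = ((St x).map a).hom m from hm', add_neg_cancel]
        have hS : (ShortComplex.mk (kernel.ι d) d (kernel.condition d)).Exact :=
          ShortComplex.exact_of_f_is_kernel _ (kernelIsKernel d)
        obtain ⟨z, hz⟩ := ((ShortComplex.moduleCat_exact_iff _).1 (hS.map (St x))) v hv
        refine ⟨z, ?_⟩
        have e3 : (St x).map p₁ = (St x).map (kernel.ι d) ≫ (St x).map biprod.fst := Functor.map_comp _ _ _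
        refine (LinearMap.congr_fun (congrArg ModuleCat.Hom.hom e3) z).trans ?_
        show ((St x).map biprod.fst).hom (((St x).map (kernel.ι d)).hom z) = m
        refine (congrArg _ hz).trans ?_
        show ((St x).map biprod.fst).hom v = m
        rw [map_add]
        have e4 : (St x).map biprod.inl ≫ (St x).map (biprod.fst : G ⊞ B ⟶ G) = 𝟙 _ := by
          rw [← Functor.map_comp, biprod.inl_fst, CategoryTheory.Functor.map_id]
        have e5 : (St x).map biprod.inr ≫ (St x).map (biprod.fst : G ⊞ B ⟶ G) = 0 := by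
          rw [← Functor.map_comp, biprod.inr_fst, Functor.map_zero]
        refine (congrArg₂ (· + ·) (LinearMap.congr_fun (congrArg ModuleCat.Hom.hom e4) m)
            (LinearMap.congr_fun (congrArg ModuleCat.Hom.hom e5) m')).trans (add_zero m)
      haveI : IsIso ((St x).map p₁) := isIso_of_mono_of_epi _
      refine ⟨inferInstance, ?_⟩
      have : (St x).map p₂ = (St x).map p₁ ≫ (St x).map a ≫ inv ((St x).map b) := by
        rw [← Category.assoc, hw, Category.assoc, IsIso.hom_inv_id, Category.comp_id]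
      rw [this]; infer_instance
    · have h1 : IsZero ((St x).obj G) :=
        (ClSubLib.notMem_support_iff_isZero G x).1 fun h' => hxY (Or.inl h')
      have h2 : IsZero ((St x).obj B) :=
        (ClSubLib.notMem_support_iff_isZero B x).1 fun h' => hxY (Or.inr h')
      have h3 : IsZero ((St x).obj (kernel d)) := IsZero.of_mono ((St x).map (kernel.ι d))
        (((ShortComplex.Splitting.ofHasBinaryBiproduct G B).shortExact.map_of_exact (St x)).exact.isZero_of_both_zeros
          (h1.eq_of_src _ _) (h2.eq_of_tgt _ _))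
      exact ⟨isIso_of_source_target_iso_zero _ h3.isoZero h1.isoZero,
        isIso_of_source_target_iso_zero _ h3.isoZero h2.isoZero⟩
  rw [← q_eq_of_bijective p₁ hE hG fun x hx => (key x hx).1, q_eq_of_bijective p₂ hE hB fun x hx => (key x hx).2]

/-- Every class is the class of a reduced module. -/
theorem exists_reduced (hX : Cyc.IsSetup X δ) {F : X.Modules} (hF : Cyc.CohLe δ k F) :
    ∃ G, Cyc.CohLe δ k G ∧ Reduced δ k G ∧ KZero.clSub (Cyc.CohLe δ k) F = KZero.clSub (Cyc.CohLe δ k) G := by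
  haveI := hF.1.1
  let Y : Closeds X := ⟨CohB1.support F, QC.isClosed_support hF.1.2⟩
  have hk : ∀ y ∈ (Y : Set X), δ y ≤ k := fun y hy => hF.2 y (not_subsingleton_iff_nontrivial.1 hy)
  let j := (Scheme.IdealSheafData.vanishingIdeal Y).subschemeι
  have hr : Set.range j = (Y : Set X) := DvrDom.range_vanishingIdeal_subschemeι Y
  haveI : IsReduced (Scheme.IdealSheafData.vanishingIdeal Y).subscheme :=
    DvrDom.isReduced_vanishingIdeal_subscheme Y
  have hle : ∀ M, K0Dev.Supp j M → Cyc.CohLe δ k M := fun M hM =>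
    ⟨hM.1, fun x hx => hk x (hr ▸ hM.2 x hx)⟩
  have hFj : K0Dev.Supp j F := ⟨hF.1, fun x hx => hr ▸ not_subsingleton_iff_nontrivial.2 hx⟩
  let Φ := K0Dev.adicFil j hFj
  refine ⟨Φ.gr, hle _ Φ.mem_gr.1, ?_,
    Φ.cl_gr (Cyc.CohLe δ k) (fun _ _ e h => cohLe_of_iso e h) (fun _ h => cohLe_of_isZero h)
      (fun n => hle _ (Φ.mem n)) (fun M hM hs => ?_) (hle _ Φ.mem_gr.1)⟩
  · intro x hx a ha m
    have hkill := (K0Dev.killed_iff j).1 Φ.mem_gr.2
    by_cases hxY : x ∈ (Y : Set X)
    · obtain ⟨W₀, hxW₀, hW₀⟩ := exists_isolating hX.2.2 Y.isClosed hk hx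
      obtain ⟨z, rfl⟩ : x ∈ Set.range j := hr.symm ▸ hxY
      refine ClSubLib.smul_stalk_eq_zero j Φ.gr hkill z a ?_ m
      obtain ⟨V, hV, r, rfl⟩ := X.presheaf.exists_germ_eq (x := j z) a
      let W := V ⊓ W₀
      have hz : j z ∈ W := ⟨hV, hxW₀⟩
      let r' : Γ(X, W) := X.presheaf.map (homOfLE (inf_le_left : W ≤ V)).op r
      have hg : X.presheaf.germ W (j z) hz r' = X.presheaf.germ V (j z) hV r :=
        X.presheaf.germ_res_apply (homOfLE (inf_le_left : W ≤ V)) _ hz r
      rw [← hg] at ha ⊢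
      have hzero : (j.app W).hom r' = 0 := by
        refine eq_zero_of_basicOpen_eq_bot (U := j ⁻¹ᵁ W) _ (Opens.ext (Set.eq_empty_of_forall_notMem fun w hw => ?_))
        rw [← Scheme.preimage_basicOpen] at hw
        have hsp := hW₀ (j w) (X.basicOpen_le r' hw).2 (hr ▸ ⟨w, rfl⟩)
        exact (IsLocalRing.mem_maximalIdeal _).1 ha ((X.mem_basicOpen r' _ hz).1 (hsp.mem_open (X.basicOpen r').2 hw))
      exact (Scheme.Hom.germ_stalkMap_apply j W z hz r').trans ((congrArg _ hzero).trans (map_zero _))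
    · have := (not_not.1 ((ClSubLib.notMem_support_iff_isZero Φ.gr x).2
        ((((K0Dev.supp_iff j Φ.mem_gr.1.1).1 Φ.mem_gr.1) x (hr ▸ hxY)))))
      exact this.elim _ _
  · refine (cohLe_iff δ k).2 ⟨K0Dev.isCoh_sigma M (fun n => (hM n).1) hs, fun x hx => K0Dev.isZero_st_sigma x M
      fun n => ((cohLe_iff δ k).1 (hM n)).2 x hx⟩

/-- The index set of a cycle sheaf. -/
abbrev Idx (α : X → ℤ) : Type u := Σ ζ : {ζ : X // 0 < α ζ}, Fin (α ζ.1).toNat

lemma range_closure (ζ : X) :
    Set.range (IntMult.ptIdeal ζ).subschemeι = closure {ζ} := Devissage.range_Zi ζ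

lemma isCoh_closureStructureSheaf (ζ : X) : Coh.IsCoh (Cyc.closureStructureSheaf ζ) := by
  haveI : Coh.IsQCoh (Coh.structureModule (IntMult.ptIdeal ζ).subscheme) := QC.isQCoh_unit _
  exact QC.isCoh_pushforward_of_isFinite (IntMult.ptIdeal ζ).subschemeι (Devissage.isCoh_unit _).2

lemma isZero_closure_st {ζ x : X} (h : ¬ ζ ⤳ x) : IsZero ((St x).obj (Cyc.closureStructureSheaf ζ)) :=
  K0Dev.isZero_push_st (IntMult.ptIdeal ζ).subschemeι _
    (by rw [range_closure]; exact fun hx => h (specializes_iff_mem_closure.2 hx))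

lemma length_closure (ζ : X) :
    Module.length (X.presheaf.stalk ζ) ((Cyc.closureStructureSheaf ζ).presheaf.stalk ζ) = 1 := by
  have hnt : Nontrivial ((Cyc.closureStructureSheaf ζ).presheaf.stalk ζ) := by
    obtain ⟨z, hz⟩ : ζ ∈ Set.range (IntMult.ptIdeal ζ).subschemeι := by rw [range_closure]; exact subset_closure rfl
    suffices H : Nontrivial ((Cyc.closureStructureSheaf ζ).presheaf.stalk ((IntMult.ptIdeal ζ).subschemeι z)) by
      rw [hz] at H; exact H
    obtain ⟨e, -⟩ := RefStalk.exists_structStalk (X := (IntMult.ptIdeal ζ).subscheme) z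
    exact @Function.Surjective.nontrivial _ _ e.injective.nontrivial _
      (KFlat.pushStalk_bijective (IntMult.ptIdeal ζ).subschemeι z (Coh.structureModule _)).2
  refine (Module.length_eq_one_iff (R := X.presheaf.stalk ζ)).2 ((isSimpleModule_iff _ _).2 ⟨fun S => ?_⟩)
  by_cases hS : S = ⊥
  · exact Or.inl hS
  · obtain ⟨m, hm, hm0⟩ := S.ne_bot_iff.1 hS
    refine Or.inr (eq_top_iff.2 fun m' _ => ?_)
    obtain ⟨c, rfl⟩ := Devissage.stalk_A_generates ζ hm0 m'
    exact S.smul_mem c hm

variable {α : X → ℤ}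

lemma finite_idx {U : Set X} (hfin : {x : X | x ∈ U ∧ α x ≠ 0}.Finite) :
    {a : Idx α | a.1.1 ∈ U}.Finite := by
  have : {a : Idx α | a.1.1 ∈ U} = (fun a : Idx α => a.1) ⁻¹' {ζ | ζ.1 ∈ U} := rfl
  rw [this]
  refine Set.Finite.preimage' ((hfin.preimage Subtype.val_injective.injOn).subset fun ζ hζ => ⟨hζ, ζ.2.ne'⟩) fun ζ _ => ?_
  refine (Set.finite_range fun n : Fin (α ζ.1).toNat => (⟨ζ, n⟩ : Idx α)).subset ?_
  rintro ⟨ζ', n⟩ (rfl : ζ' = ζ)
  exact ⟨n, rfl⟩

lemma cohLe_cycleSheafPos (hδ : Cyc.IsDimFun X δ)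
    (hfin : ∀ {U : X.Opens}, IsAffineOpen U → {x : X | x ∈ U ∧ α x ≠ 0}.Finite)
    (hk : ∀ x, α x ≠ 0 → δ x ≤ k) : Cyc.CohLe δ k (Cyc.cycleSheafPos α) := by
  refine (cohLe_iff δ k).2 ⟨isCoh_sigma _ (fun a : Idx α => isCoh_closureStructureSheaf a.1.1) fun V => ?_,
    fun x hx => isZero_st_sigma _ x fun a : Idx α => isZero_closure_st fun hsp => ?_⟩
  · refine ⟨(finite_idx (hfin V.2)).toFinset, fun a ha x hx => isZero_closure_st fun hsp => ?_⟩
    rw [Set.Finite.mem_toFinset] at ha
    exact ha (hsp.mem_open V.1.2 hx)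
  · by_cases he : a.1.1 = x
    · have := hk _ a.1.2.ne'; rw [he] at this; omega
    · have := (hδ _ _ hsp he).1
      have := hk _ a.1.2.ne'
      omega

lemma nonempty_st_cycle (hδ : Cyc.IsDimFun X δ) (hk : ∀ x, α x ≠ 0 → δ x = k) {x : X} (hx : δ x = k) :
    ∃ t : Finset (Idx α), (∀ a, a ∈ t ↔ a.1.1 = x) ∧ Nonempty ((Cyc.cycleSheafPos α).presheaf.stalk x ≃ₗ[X.presheaf.stalk x]
      ((a : t) → (Cyc.closureStructureSheaf a.1.1.1).presheaf.stalk x)) := by
  have hf : {a : Idx α | a.1.1 ∈ ({x} : Set X)}.Finite := finite_idx ((Set.finite_singleton x).subset fun y hy => hy.1)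
  refine ⟨hf.toFinset, fun a => by simp, nonempty_st_sigma _ x _ fun a ha => isZero_closure_st fun hsp => ?_⟩
  rw [Set.Finite.mem_toFinset] at ha
  exact ha (CycDim.eq_of_delta_le hδ hsp (le_of_eq (hk _ a.1.2.ne' |>.trans hx.symm)))

lemma reduced_cycleSheafPos (hδ : Cyc.IsDimFun X δ) (hk : ∀ x, α x ≠ 0 → δ x = k) :
    Reduced δ k (Cyc.cycleSheafPos α) := fun x hx r hr m => by
  obtain ⟨t, ht, ⟨e⟩⟩ := nonempty_st_cycle hδ hk hx
  refine e.injective (funext fun a => ?_)
  rw [map_smul, map_zero, Pi.smul_apply, Pi.zero_apply]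
  have := (ht a.1).1 a.2
  subst this
  exact Devissage.smul_stalk_of_killed (Devissage.killed_push _) r hr _

lemma sheafFun_cycleSheafPos (hδ : Cyc.IsDimFun X δ) (hk : ∀ x, α x ≠ 0 → δ x = k) (x : X) :
    Cyc.sheafFun δ k (Cyc.cycleSheafPos α) x = max (α x) 0 := by
  classical
  unfold Cyc.sheafFun
  split
  · next hx =>
    obtain ⟨t, ht, ⟨e⟩⟩ := nonempty_st_cycle hδ hk hx
    have h1 : ∀ a : t, Module.length (X.presheaf.stalk x) ((Cyc.closureStructureSheaf a.1.1.1).presheaf.stalk x) = 1 := by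
      intro a
      have := (ht a.1).1 a.2
      subst this
      exact length_closure _
    rw [e.length_eq, Module.length_pi_of_fintype, Finset.sum_congr rfl fun a _ => h1 a, Finset.sum_const,
      nsmul_one, ENat.toNat_coe, Finset.card_univ, Fintype.card_coe]
    by_cases hα : 0 < α x
    · have hc : t = (Finset.univ : Finset (Fin (α x).toNat)).image fun n => (⟨⟨x, hα⟩, n⟩ : Idx α) := by
        ext a
        rw [ht, Finset.mem_image]
        constructor
        · intro h
          obtain ⟨⟨ζ, hζ⟩, n⟩ := a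
          obtain rfl : ζ = x := h
          exact ⟨n, Finset.mem_univ _, rfl⟩
        · rintro ⟨n, -, rfl⟩; rfl
      rw [hc, Finset.card_image_of_injective _ fun n n' h => by simpa using h, Finset.card_univ, Fintype.card_fin,
        max_eq_left hα.le]
      exact Int.toNat_of_nonneg hα.le
    · have hc : t = ∅ := Finset.eq_empty_of_forall_notMem fun a ha => hα ((ht a).1 ha ▸ a.1.2)
      rw [hc, Finset.card_empty]
      omega
  · next hx =>
    by_cases hα : α x = 0
    · rw [hα]; rfl
    · exact absurd (hk x hα) hx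

lemma finite_sheafFun (hδ : Cyc.IsDimFun X δ) {F : X.Modules} (hF : Cyc.CohLe δ k F) {U : X.Opens}
    (hU : IsAffineOpen U) : {x : X | x ∈ U ∧ Cyc.sheafFun δ k F x ≠ 0}.Finite := by
  haveI := hF.1.1
  refine (finite_top hδ (QC.isClosed_support hF.1.2) (fun y hy => hF.2 y (not_subsingleton_iff_nontrivial.1 hy)) hU).subset ?_
  rintro x ⟨hxU, hx⟩
  unfold Cyc.sheafFun at hx
  split at hx
  · next h =>
    refine ⟨hxU, fun hs => hx ?_, h⟩
    rw [(Module.length_eq_zero_iff (R := X.presheaf.stalk x)).2 hs]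
    rfl
  · exact absurd rfl hx

/-- The cycle of a class determines it. -/
theorem q_eq_cycle (hX : Cyc.IsSetup X δ) {F : X.Modules} (hF : Cyc.CohLe δ k F) :
    Cyc.toK0CohQuot δ k (k - 1) F = Cyc.toK0CohQuot δ k (k - 1) (Cyc.cycleSheafPos (Cyc.sheafFun δ k F)) ∧
      ∀ G, Cyc.CohLe δ k G → KZero.clSub (Cyc.CohLe δ k) F = KZero.clSub (Cyc.CohLe δ k) G →
        Cyc.sheafFun δ k F = Cyc.sheafFun δ k G := by
  have hadd : ∀ S : ShortComplex X.Modules, S.ShortExact → Cyc.CohLe δ k S.X₁ → Cyc.CohLe δ k S.X₂ →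
      Cyc.CohLe δ k S.X₃ → Cyc.sheafFun δ k S.X₂ = Cyc.sheafFun δ k S.X₁ + Cyc.sheafFun δ k S.X₃ :=
    fun S hS h₁ h₂ h₃ => S1896.result X δ hX k S hS h₁.1 h₂.1 h₃.1 h₂.2
  let f : KZero.K0sub (Cyc.CohLe δ k) →+ (X → ℤ) := QuotientAddGroup.lift _
    (FreeAbelianGroup.lift fun G : Subtype (Cyc.CohLe δ k) => Cyc.sheafFun δ k G.1) ((AddSubgroup.closure_le _).2 (by
      rintro _ ⟨S, h₁, h₂, h₃, hS, rfl⟩
      rw [SetLike.mem_coe, AddMonoidHom.mem_ker, map_sub, map_sub, FreeAbelianGroup.lift_apply_of,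
        FreeAbelianGroup.lift_apply_of, FreeAbelianGroup.lift_apply_of, hadd S hS h₁ h₂ h₃]
      abel))
  have hf : ∀ G, Cyc.CohLe δ k G → f (KZero.clSub (Cyc.CohLe δ k) G) = Cyc.sheafFun δ k G := fun G hG => by
    rw [KZero.clSub, dif_pos hG]
    exact FreeAbelianGroup.lift_apply_of _ _
  have hcl : ∀ G H, Cyc.CohLe δ k G → Cyc.CohLe δ k H → KZero.clSub (Cyc.CohLe δ k) G = KZero.clSub (Cyc.CohLe δ k) H →
      Cyc.sheafFun δ k G = Cyc.sheafFun δ k H := fun G H hG hH h => by rw [← hf G hG, h, hf H hH]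
  refine ⟨?_, fun G hG h => hcl F G hF hG h⟩
  obtain ⟨G, hG, hred, hFG⟩ := exists_reduced hX hF
  have hne : ∀ x, Cyc.sheafFun δ k F x ≠ 0 → δ x = k := fun x hx => by
    by_contra h
    exact hx (if_neg h)
  have hB := cohLe_cycleSheafPos (α := Cyc.sheafFun δ k F) hX.2.2 (fun hU => finite_sheafFun hX.2.2 hF hU)
    fun x hx => (hne x hx).le
  refine (congrArg QuotientAddGroup.mk hFG).trans (q_eq_of_reduced hX.2.2 hG hB hred (reduced_cycleSheafPos hX.2.2 hne) ?_)
  funext x
  rw [sheafFun_cycleSheafPos hX.2.2 hne x, ← congrFun (hcl F G hF hG hFG) x, max_eq_left]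
  unfold Cyc.sheafFun
  split
  · exact Int.natCast_nonneg _
  · exact le_rfl

/-- The cycle class map. -/
theorem exists_psi (hX : Cyc.IsSetup X δ) : ∃ ψ : Cyc.K0CohQuot δ k (k - 1) →+ (X → ℤ),
    (∀ F, Cyc.CohLe δ k F → ψ (Cyc.toK0CohQuot δ k (k - 1) F) = Cyc.sheafFun δ k F) ∧ Function.Injective ψ ∧
      Set.range ψ = {a | ∃ α : AlgebraicCycle X ℤ, α ∈ Cyc.Zk X δ k ∧ ⇑α = a} := by
  let f : KZero.K0sub (Cyc.CohLe δ k) →+ (X → ℤ) := QuotientAddGroup.lift _
    (FreeAbelianGroup.lift fun G : Subtype (Cyc.CohLe δ k) => Cyc.sheafFun δ k G.1) ((AddSubgroup.closure_le _).2 (by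
      rintro _ ⟨S, h₁, h₂, h₃, hS, rfl⟩
      rw [SetLike.mem_coe, AddMonoidHom.mem_ker, map_sub, map_sub, FreeAbelianGroup.lift_apply_of,
        FreeAbelianGroup.lift_apply_of, FreeAbelianGroup.lift_apply_of,
        S1896.result X δ hX k S hS h₁.1 h₂.1 h₃.1 h₂.2]
      abel))
  have hf : ∀ G, Cyc.CohLe δ k G → f (KZero.clSub (Cyc.CohLe δ k) G) = Cyc.sheafFun δ k G := fun G hG => by
    rw [KZero.clSub, dif_pos hG]
    exact FreeAbelianGroup.lift_apply_of _ _
  let ψ : Cyc.K0CohQuot δ k (k - 1) →+ (X → ℤ) := QuotientAddGroup.lift _ f ((AddSubgroup.closure_le _).2 (by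
    rintro _ ⟨F, hF, rfl⟩
    have hF' : Cyc.CohLe δ k F := ⟨hF.1, fun x hx => by have := hF.2 x hx; omega⟩
    rw [SetLike.mem_coe, AddMonoidHom.mem_ker, hf F hF']
    funext x
    unfold Cyc.sheafFun
    split
    · next h =>
      haveI : Subsingleton (F.presheaf.stalk x) := not_nontrivial_iff_subsingleton.1 fun hn => by
        have := hF.2 x hn; omega
      rw [(Module.length_eq_zero_iff (R := X.presheaf.stalk x)).2 inferInstance]
      rfl
    · rfl))
  have hψ : ∀ F, Cyc.CohLe δ k F → ψ (Cyc.toK0CohQuot δ k (k - 1) F) = Cyc.sheafFun δ k F := hf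
  have hsub : ∀ c : Cyc.K0CohQuot δ k (k - 1), ∃ F G, Cyc.CohLe δ k F ∧ Cyc.CohLe δ k G ∧
      c = Cyc.toK0CohQuot δ k (k - 1) F - Cyc.toK0CohQuot δ k (k - 1) G := by
    intro c
    obtain ⟨c, rfl⟩ := QuotientAddGroup.mk_surjective c
    obtain ⟨c, rfl⟩ := QuotientAddGroup.mk_surjective c
    induction c using FreeAbelianGroup.induction_on with
    | zero =>
      refine ⟨kernel (𝟙 (Coh.structureModule X)), kernel (𝟙 (Coh.structureModule X)),
        cohLe_of_isZero (isZero_kernel_of_mono _), cohLe_of_isZero (isZero_kernel_of_mono _), ?_⟩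
      rw [sub_self]
      rfl
    | of F =>
      refine ⟨F.1, kernel (𝟙 (Coh.structureModule X)), F.2, cohLe_of_isZero (isZero_kernel_of_mono _), ?_⟩
      rw [Cyc.toK0CohQuot, Cyc.toK0CohQuot, K0Dev.cl_zero (isZero_kernel_of_mono _), KZero.clSub, dif_pos F.2]
      exact (sub_zero _).symm
    | neg F h =>
      obtain ⟨A, B, hA, hB, h⟩ := h
      exact ⟨B, A, hB, hA, by rw [QuotientAddGroup.mk_neg, QuotientAddGroup.mk_neg, h, neg_sub]⟩
    | add c c' h h' =>
      obtain ⟨A, B, hA, hB, h⟩ := h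
      obtain ⟨A', B', hA', hB', h'⟩ := h'
      refine ⟨A ⊞ A', B ⊞ B', cohLe_biprod hA hA', cohLe_biprod hB hB', ?_⟩
      rw [QuotientAddGroup.mk_add, QuotientAddGroup.mk_add, h, h',
        show Cyc.toK0CohQuot δ k (k - 1) (A ⊞ A') = _ from
          q_add (ShortComplex.Splitting.ofHasBinaryBiproduct A A').shortExact hA (cohLe_biprod hA hA') hA' (k - 1),
        show Cyc.toK0CohQuot δ k (k - 1) (B ⊞ B') = _ from
          q_add (ShortComplex.Splitting.ofHasBinaryBiproduct B B').shortExact hB (cohLe_biprod hB hB') hB' (k - 1)]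
      abel
  refine ⟨ψ, hψ, (injective_iff_map_eq_zero _).2 fun c hc => ?_, Set.ext fun g => ⟨?_, ?_⟩⟩
  · obtain ⟨F, G, hF, hG, rfl⟩ := hsub c
    rw [map_sub, hψ F hF, hψ G hG, sub_eq_zero] at hc
    rw [(q_eq_cycle hX hF).1, (q_eq_cycle hX hG).1, hc, sub_self]
  · rintro ⟨c, rfl⟩
    obtain ⟨F, G, hF, hG, rfl⟩ := hsub c
    rw [map_sub, hψ F hF, hψ G hG]
    have hfin : ∀ {U : X.Opens}, IsAffineOpen U →
        {x : X | x ∈ U ∧ (Cyc.sheafFun δ k F - Cyc.sheafFun δ k G) x ≠ 0}.Finite := fun hU =>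
      ((finite_sheafFun hX.2.2 hF hU).union (finite_sheafFun hX.2.2 hG hU)).subset fun x hx => by
        by_cases h : Cyc.sheafFun δ k F x = 0
        · exact Or.inr ⟨hx.1, fun h' => hx.2 (by simp [h, h'])⟩
        · exact Or.inl ⟨hx.1, h⟩
    refine ⟨{ toFun := Cyc.sheafFun δ k F - Cyc.sheafFun δ k G, supportWithinDomain' := Set.subset_univ _,
              supportLocallyFiniteWithinDomain' := fun x _ => by
                obtain ⟨U, hU, hxU, -⟩ := exists_isAffineOpen_mem_and_subset (x := x) (U := (⊤ : X.Opens)) trivial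
                exact ⟨U, U.2.mem_nhds hxU, (hfin hU).subset fun y hy => ⟨hy.1, hy.2⟩⟩ }, fun x hx => ?_, rfl⟩
    show Cyc.sheafFun δ k F x - Cyc.sheafFun δ k G x = 0
    simp [Cyc.sheafFun, hx]
  · rintro ⟨α, hα, rfl⟩
    have hne : ∀ x, α x ≠ 0 → δ x = k := fun x hx => by_contra fun h => hx (hα x h)
    have hne' : ∀ x, (-⇑α) x ≠ 0 → δ x = k := fun x hx => hne x fun h => hx (by simp [h])
    have hfin : ∀ {U : X.Opens}, IsAffineOpen U → {x : X | x ∈ U ∧ α x ≠ 0}.Finite := by
      intro U hU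
      obtain ⟨s, -, hs⟩ := hU.isCompact.elim_nhds_subcover
        (fun x => (α.supportLocallyFiniteWithinDomain' x trivial).choose)
        fun x _ => (α.supportLocallyFiniteWithinDomain' x trivial).choose_spec.1
      refine ((s.finite_toSet.biUnion fun x _ => (α.supportLocallyFiniteWithinDomain' x trivial).choose_spec.2)).subset ?_
      intro y hy
      obtain ⟨x, hx, hyx⟩ := Set.mem_iUnion₂.1 (hs hy.1)
      exact Set.mem_biUnion hx ⟨hyx, hy.2⟩
    have hfin' : ∀ {U : X.Opens}, IsAffineOpen U → {x : X | x ∈ U ∧ (-⇑α) x ≠ 0}.Finite := fun hU =>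
      (hfin hU).subset fun x hx => ⟨hx.1, fun h => hx.2 (by simp [h])⟩
    refine ⟨Cyc.toK0CohQuot δ k (k - 1) (Cyc.cycleSheafPos ⇑α) - Cyc.toK0CohQuot δ k (k - 1) (Cyc.cycleSheafPos (-⇑α)), ?_⟩
    rw [map_sub, hψ _ (cohLe_cycleSheafPos hX.2.2 hfin fun x hx => (hne x hx).le),
      hψ _ (cohLe_cycleSheafPos hX.2.2 hfin' fun x hx => (hne' x hx).le)]
    funext x
    rw [Pi.sub_apply, sheafFun_cycleSheafPos hX.2.2 hne, sheafFun_cycleSheafPos hX.2.2 hne', Pi.neg_apply]
    omega

end Groth.Agent.CycK0
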