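import Groth.Agent.CycK0.C1K
import Groth.Agent.Intersect.Num
import Groth.Agent.Intersect.Apps
import Groth.Agent.Intersect.ProperPoints
import Groth.Agent.CurveRR.Multi
import Groth.Agent.CurveRR.Zero
import Groth.Agent.Devissage.Piece
import Groth.Agent.WeilLib.Count
import Groth.Agent.CycDim.DegBase

/-!
The Euler characteristic as a function of classes of coherent modules: its value on the point classes is the
degree of the residue field, so on modules with zero dimensional support it is the degree of the cycle.
-/

set_option autoImplicit false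
set_option linter.unusedSectionVars false
set_option linter.style.haveILetI false
set_option backward.isDefEq.respectTransparency false
set_option backward.isDefEq.respectTransparency.types false

universe u

open CategoryTheory CategoryTheory.Limits AlgebraicGeometry TopologicalSpace Opposite
open Groth.Agent.K0Dev (St)

noncomputable section

attribute [local instance] Groth.Agent.CurveRR.secMod

namespace Groth.Agent.CycK0

section Point

variable {W : Scheme.{u}} (k : Type u) [Field k] [W.Over (Spec (CommRingCat.of k))]

/-- On a reduced one point scheme the global functions are the residue field. -/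
lemma evaluation_bijective [IsReduced W] (w : W) (hw : ∀ z : W, z = w) :
    Function.Bijective (W.evaluation ⊤ w trivial).hom := by
  haveI : Nonempty W := ⟨w⟩
  haveI : Subsingleton W := ⟨fun a b => (hw a).trans (hw b).symm⟩
  haveI : IrreducibleSpace W :=
    { isPreirreducible_univ := fun u v _ _ ⟨a, _, ha⟩ ⟨b, _, hb⟩ => ⟨a, trivial, ha, Subsingleton.elim b a ▸ hb⟩
      toNonempty := ⟨w⟩ }
  haveI : IsIntegral W := isIntegral_of_irreducibleSpace_of_isReduced W
  have hg : Function.Bijective (W.presheaf.germ ⊤ w trivial).hom := by
    refine ⟨fun a b h => ?_, fun t => ?_⟩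
    · refine TopCat.Presheaf.section_ext W.sheaf ⊤ a b fun x hx => ?_
      obtain rfl := hw x
      exact h
    · obtain ⟨U, hU, s, rfl⟩ := W.presheaf.exists_germ_eq t
      obtain rfl : U = ⊤ := top_unique fun x _ => by rw [hw x]; exact hU
      exact ⟨s, rfl⟩
  have hf : IsField (W.presheaf.stalk w) := by
    rw [hw w]
    obtain rfl : genericPoint W = w := hw _
    exact (Field.toIsField W.functionField :)
  letI := hf.toField
  exact Function.Bijective.comp (g := (W.residue w).hom)
    ⟨(W.residue w).hom.injective, IsLocalRing.residue_surjective⟩ hg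

/-- The Euler characteristic of a reduced point. -/
theorem euler_point [IsProper (W ↘ Spec (CommRingCat.of k))] [IsReduced W] (w : W) (hw : ∀ z : W, z = w) :
    Curv2.euler k W (Coh.structureModule W) = ((W ↘ Spec (CommRingCat.of k)).residueDegree w : ℤ) := by
  let c := W ↘ Spec (CommRingCat.of k)
  haveI : Subsingleton W := ⟨fun a b => (hw a).trans (hw b).symm⟩
  haveI : Finite W := Finite.of_subsingleton
  have hd : topologicalKrullDim (Set.univ : Set W) ≤ 0 :=
    Intersect.dim_le_zero_of_closedPoints isClosed_univ fun y _ => by
      rw [show ({y} : Set W) = Set.univ from Set.eq_univ_of_forall fun z => Subsingleton.elim z y]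
      exact isClosed_univ
  have hv : ∀ i, 1 ≤ i → Subsingleton (Coh.HH W (Coh.structureModule W) i) := fun i hi =>
    SuppZero.subsingleton_hh_of_supported isClosed_univ hd _ (fun x hx => absurd trivial hx) i hi
  rw [CurveRR.euler_eq_h0 hv, ← CurveRR.finrank_sec]
  refine congrArg Nat.cast ?_
  refine Eq.trans ?_ (WeilLib.residueDegree_eq_finrank c w).symm
  letI := (WeilLib.kStr c w).toAlgebra
  have hb := evaluation_bijective w hw
  have hk : ∀ a : k, (W.evaluation ⊤ w trivial).hom (CurveRR.cst k W ⊤ a) = WeilLib.kStr c w a := fun a => by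
    simp [CurveRR.cst, WeilLib.kStr, WeilLib.secStr, Coh.toGlobal, Scheme.Hom.appLE, c, Groth.Agent.QC.resO]
  let e : Γ(Coh.structureModule W, ⊤) →ₗ[k] W.residueField w :=
    { toFun := fun s => (W.evaluation ⊤ w trivial).hom (show Γ(W, ⊤) from s)
      map_add' := fun a b => map_add (W.evaluation ⊤ w trivial).hom _ _
      map_smul' := fun a s => by
        rw [RingHom.id_apply, Algebra.smul_def, RingHom.algebraMap_toAlgebra, ← hk a, ← map_mul]
        rfl }
  exact (LinearEquiv.ofBijective e hb).finrank_eq

end Point

variable {X : Scheme.{u}} (k : Type u) [Field k] [X.Over (Spec (CommRingCat.of k))]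
  [IsProper (X ↘ Spec (CommRingCat.of k))]

/-- The Euler characteristic of the structure sheaf of a closed point. -/
theorem euler_closure_closed {ζ : X} (hζ : IsClosed ({ζ} : Set X)) :
    Curv2.euler k X (Cyc.closureStructureSheaf ζ) = ((X ↘ Spec (CommRingCat.of k)).residueDegree ζ : ℤ) := by
  haveI : IsReduced (Scheme.IdealSheafData.vanishingIdeal (Devissage.Zc ζ)).subscheme :=
    DvrDom.isReduced_vanishingIdeal_subscheme _
  let i := Devissage.Zi ζ
  letI : (Scheme.IdealSheafData.vanishingIdeal (Devissage.Zc ζ)).subscheme.Over (Spec (CommRingCat.of k)) :=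
    ⟨i ≫ (X ↘ Spec (CommRingCat.of k))⟩
  haveI : IsProper ((Scheme.IdealSheafData.vanishingIdeal (Devissage.Zc ζ)).subscheme ↘ Spec (CommRingCat.of k)) :=
    inferInstanceAs (IsProper (i ≫ _))
  have hr : Set.range i = {ζ} := (Devissage.range_Zi ζ).trans hζ.closure_eq
  obtain ⟨w, hw⟩ : ζ ∈ Set.range i := hr ▸ rfl
  have hone : ∀ z, z = w := fun z => i.isClosedEmbedding.injective
    ((show i z ∈ ({ζ} : Set X) from hr ▸ ⟨z, rfl⟩).trans hw.symm)
  refine (CurveRR.Multi.euler_push k i (Coh.structureModule _) (Devissage.isCoh_unit _).1).trans ?_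
  rw [euler_point k w hone]
  refine congrArg Nat.cast ?_
  show (i ≫ (X ↘ Spec (CommRingCat.of k))).residueDegree w = _
  rw [CycDeg.residueDegree_comp, CycDeg.residueDegree_eq_one i fun y => by
    obtain ⟨y, rfl⟩ := IsLocalRing.residue_surjective y
    obtain ⟨z, rfl⟩ := i.stalkMap_surjective w y
    exact ⟨(X.residue (i w)).hom z, RingHom.congr_fun (congrArg CommRingCat.Hom.hom (Scheme.residue_residueFieldMap i w)) z⟩, mul_one]
  exact congrArg _ hw

end Groth.Agent.CycK0
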