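import Groth.Agent.K0Dev.Scheme
import Groth.Agent.KFlat.Skyscraper
import Groth.Agent.CycDim.Basic
import Groth.Agent.QC.Sections
import Groth.Agent.DvrDom.ClosedProper
import Groth.Prelude.Def_ChowK

/-!
`K₀` of coherent modules of dimension `≤ k` modulo dimension `≤ k - 1`.
-/

set_option autoImplicit false
set_option linter.unusedSectionVars false
set_option linter.style.haveILetI false
set_option backward.isDefEq.respectTransparency false
set_option backward.isDefEq.respectTransparency.types false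

universe u

open CategoryTheory CategoryTheory.Limits AlgebraicGeometry TopologicalSpace Opposite
open Groth.Agent.K0Dev (St)
open Groth.Agent.QC (res resO res_res)

noncomputable section

attribute [local instance] Abelian.hasFiniteBiproducts

namespace Groth.Agent.CycK0

variable {X : Scheme.{u}}

/-! ### Coproducts -/

section Coproduct

variable {α : Type u} (F : α → X.Modules)

lemma isZero_st_sigma (x : X) (h : ∀ a, IsZero ((St x).obj (F a))) : IsZero ((St x).obj (∐ F)) := by
  have hc := isColimitOfPreserves (St x) (colimit.isColimit (Discrete.functor F))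
  exact (IsZero.iff_id_eq_zero _).2 (hc.hom_ext fun j => (h j.as).eq_of_src _ _)

lemma nonempty_st_sigma (x : X) (t : Finset α) (ht : ∀ a, a ∉ t → IsZero ((St x).obj (F a))) :
    Nonempty ((∐ F).presheaf.stalk x ≃ₗ[X.presheaf.stalk x] ((a : t) → (F a.1).presheaf.stalk x)) := by
  classical
  let π : ∀ a : α, ∐ F ⟶ F a := fun a => Sigma.desc fun b => if h : b = a then eqToHom (by rw [h]) else 0
  have hself : ∀ a, Sigma.ι F a ≫ π a = 𝟙 _ := fun a => by simp [π]
  have hne : ∀ a b, b ≠ a → Sigma.ι F b ≫ π a = 0 := fun a b h => by simp [π, h]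
  have hid : ∑ a ∈ t, (St x).map (π a) ≫ (St x).map (Sigma.ι F a) = 𝟙 ((St x).obj (∐ F)) := by
    refine (isColimitOfPreserves (St x) (colimit.isColimit (Discrete.functor F))).hom_ext fun ⟨b⟩ => ?_
    show (St x).map (Sigma.ι F b) ≫ _ = (St x).map (Sigma.ι F b) ≫ _
    rw [Category.comp_id, Preadditive.comp_sum]
    by_cases hb : b ∈ t
    · rw [Finset.sum_eq_single b]
      · rw [← Category.assoc, ← Functor.map_comp, hself, CategoryTheory.Functor.map_id, Category.id_comp]
      · intro a _ hab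
        rw [← Category.assoc, ← Functor.map_comp, hne a b (Ne.symm hab), Functor.map_zero, zero_comp]
      · exact fun h => absurd hb h
    · exact (ht b hb).eq_of_src _ _
  let fwd : (St x).obj (∐ F) →ₗ[X.presheaf.stalk x] ((a : t) → (F a.1).presheaf.stalk x) :=
    LinearMap.pi fun a => ((St x).map (π a.1)).hom
  refine ⟨LinearEquiv.ofBijective fwd ⟨(injective_iff_map_eq_zero _).2 fun z hz => ?_, fun v => ?_⟩⟩
  · have h := (LinearMap.congr_fun (congrArg ModuleCat.Hom.hom hid) z).symm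
    rw [ModuleCat.hom_sum, LinearMap.sum_apply] at h
    refine h.trans (Finset.sum_eq_zero fun a ha => ?_)
    show ((St x).map (Sigma.ι F a)).hom (((St x).map (π a)).hom z) = 0
    rw [show ((St x).map (π a)).hom z = 0 from congrFun hz ⟨a, ha⟩, map_zero]
  · refine ⟨∑ a : t, ((St x).map (Sigma.ι F a.1)).hom (v a), funext fun b => ?_⟩
    show ((St x).map (π b.1)).hom _ = v b
    rw [map_sum, Finset.sum_eq_single b]
    · have h := LinearMap.congr_fun (congrArg ModuleCat.Hom.hom
        ((((St x).map_comp (Sigma.ι F b.1) (π b.1)).symm.trans (congrArg (St x).map (hself b.1))).trans ((St x).map_id _))) (v b)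
      exact h
    · intro a _ hab
      have h := LinearMap.congr_fun (congrArg ModuleCat.Hom.hom
        ((((St x).map_comp (Sigma.ι F a.1) (π b.1)).symm.trans (congrArg (St x).map (hne b.1 a.1 fun e => hab (Subtype.ext e)))).trans
          ((St x).map_zero _ _))) (v a)
      exact h
    · simp

lemma isCoh_sigma [IsLocallyNoetherian X] (hF : ∀ a, Coh.IsCoh (F a))
    (hs : ∀ V : X.affineOpens, ∃ t : Finset α, ∀ a, a ∉ t → K0Dev.VanishOn V.1 (F a)) : Coh.IsCoh (∐ F) := by
  classical
  refine K0Coh.isCoh_of_local fun x => ?_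
  obtain ⟨V, hV, hxV, -⟩ := exists_isAffineOpen_mem_and_subset (U := (⊤ : X.Opens)) (x := x) trivial
  obtain ⟨t, ht⟩ := hs ⟨V, hV⟩
  refine ⟨V, hxV, ?_⟩
  let R := Scheme.Modules.restrictFunctor V.ι
  haveI : PreservesColimitsOfSize.{u, u} R := inferInstance
  have hz : ∀ a, a ∉ t → IsZero (R.obj (F a)) := fun a ha => by
    refine (K0Dev.isZero_iff_stalks _).2 fun v => (ClSubLib.notMem_support_iff_isZero _ v).1 fun hv => ?_
    have h1 := (ClSubLib.notMem_support_iff_isZero (F a) (V.ι v)).2 (ht a ha _ (by exact v.2))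
    exact (ClSubLib.support_pullback_subset V.ι (F a)).trans (fun w hw => hw)
      (by rwa [← ClSubLib.support_congr ((Scheme.Modules.restrictFunctorIsoPullback V.ι).app (F a))]) |> h1
  let ε := t.equivFin
  let B := ⨁ fun j : Fin t.card => R.obj (F (ε.symm j).1)
  have hB : Coh.IsCoh B :=
    Devissage.isCoh_biproduct _ fun j => ⟨QC.isQCoh_restrict V.ι (hF _).1, QC.isFT_restrict V.ι (hF _).2⟩
  let e : (∐ fun a => R.obj (F a)) ≅ B :=
    { hom := Sigma.desc fun a => if h : a ∈ t then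
        eqToHom (by rw [Equiv.symm_apply_apply]) ≫ biproduct.ι (fun j : Fin t.card => R.obj (F (ε.symm j).1)) (ε ⟨a, h⟩)
        else 0
      inv := biproduct.desc fun j => Sigma.ι (fun a => R.obj (F a)) (ε.symm j).1
      hom_inv_id := by
        refine Sigma.hom_ext _ _ fun a => ?_
        by_cases h : a ∈ t
        · simp only [Sigma.ι_desc_assoc, dif_pos h, Category.assoc, biproduct.ι_desc, Category.comp_id]
          exact Sigma.eqToHom_comp_ι (fun a => R.obj (F a)) (by rw [Equiv.symm_apply_apply])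
        · exact (hz a h).eq_of_src _ _
      inv_hom_id := by
        refine biproduct.hom_ext' _ _ fun j => ?_
        simp only [biproduct.ι_desc_assoc, Sigma.ι_desc, dif_pos (ε.symm j).2]
        refine Eq.trans ?_ (Category.comp_id _).symm
        exact biproduct.eqToHom_comp_ι (fun j : Fin t.card => R.obj (F (ε.symm j).1)) (ε.apply_symm_apply j).symm }
  exact K0Coh.isCoh_of_iso ((PreservesCoproduct.iso R F) ≪≫ e).symm hB

end Coproduct

/-! ### Quotient classes -/

variable (δ : X → ℤ) (k : ℤ)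

lemma cohLe_iff {F : X.Modules} : Cyc.CohLe δ k F ↔ Coh.IsCoh F ∧ ∀ x, k < δ x → IsZero ((St x).obj F) := by
  refine and_congr_right fun hF => forall_congr' fun x => ?_
  rw [← ClSubLib.notMem_support_iff_isZero]
  show (_ → _) ↔ (_ → ¬ ¬ Subsingleton (F.presheaf.stalk x))
  rw [not_not, ← not_nontrivial_iff_subsingleton, ← not_lt]
  exact imp_not_comm

variable {δ k} [IsLocallyNoetherian X]

lemma cohLe_of_iso {F G : X.Modules} (e : F ≅ G) (h : Cyc.CohLe δ k F) : Cyc.CohLe δ k G :=
  (cohLe_iff δ k).2 ⟨K0Coh.isCoh_of_iso e h.1, fun x hx => (((cohLe_iff δ k).1 h).2 x hx).of_iso ((St x).mapIso e).symm⟩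

lemma cohLe_of_isZero {F : X.Modules} (h : IsZero F) : Cyc.CohLe δ k F :=
  (cohLe_iff δ k).2 ⟨K0Coh.isCoh_of_isZero h, fun x _ => (St x).map_isZero h⟩

lemma cohLe_kernel {F G : X.Modules} (f : F ⟶ G) (hF : Cyc.CohLe δ k F) (hG : Coh.IsQCoh G) :
    Cyc.CohLe δ k (kernel f) :=
  (cohLe_iff δ k).2 ⟨QC.isCoh_kernel hF.1 hG f, fun x hx =>
    IsZero.of_mono ((St x).map (kernel.ι f)) (((cohLe_iff δ k).1 hF).2 x hx)⟩

lemma cohLe_cokernel {F G : X.Modules} (f : F ⟶ G) (hF : Coh.IsQCoh F) (hG : Cyc.CohLe δ k G) :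
    Cyc.CohLe δ k (cokernel f) :=
  (cohLe_iff δ k).2 ⟨QC.isCoh_cokernel hF hG.1 f, fun x hx =>
    IsZero.of_epi ((St x).map (cokernel.π f)) (((cohLe_iff δ k).1 hG).2 x hx)⟩

lemma cohLe_biprod {F G : X.Modules} (hF : Cyc.CohLe δ k F) (hG : Cyc.CohLe δ k G) : Cyc.CohLe δ k (F ⊞ G) := by
  have h := (ShortComplex.Splitting.ofHasBinaryBiproduct F G).shortExact
  refine (cohLe_iff δ k).2 ⟨W7Exist.isCoh_biprod hF.1 hG.1, fun x hx => ?_⟩
  exact (h.map_of_exact (St x)).exact.isZero_of_both_zeros ((((cohLe_iff δ k).1 hF).2 x hx).eq_of_src _ _)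
    ((((cohLe_iff δ k).1 hG).2 x hx).eq_of_tgt _ _)

lemma q_add {S : ShortComplex X.Modules} (hS : S.ShortExact) (h₁ : Cyc.CohLe δ k S.X₁) (h₂ : Cyc.CohLe δ k S.X₂)
    (h₃ : Cyc.CohLe δ k S.X₃) (b : ℤ) :
    Cyc.toK0CohQuot δ k b S.X₂ = Cyc.toK0CohQuot δ k b S.X₁ + Cyc.toK0CohQuot δ k b S.X₃ := by
  rw [Cyc.toK0CohQuot, K0Dev.cl_add _ hS h₁ h₂ h₃]
  rfl

lemma q_small {F : X.Modules} {b : ℤ} (h : Cyc.CohLe δ b F) : Cyc.toK0CohQuot δ k b F = 0 :=
  (QuotientAddGroup.eq_zero_iff _).2 (AddSubgroup.subset_closure ⟨F, h, rfl⟩)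

lemma small_of_zero {F : X.Modules} (hF : Cyc.CohLe δ k F) (h : ∀ x, δ x = k → IsZero ((St x).obj F)) :
    Cyc.CohLe δ (k - 1) F :=
  (cohLe_iff δ (k - 1)).2 ⟨hF.1, fun x hx => by
    rcases lt_or_eq_of_le (show k ≤ δ x by omega) with h1 | h1
    · exact ((cohLe_iff δ k).1 hF).2 x h1
    · exact h x h1.symm⟩

/-- A map which is bijective at all the points of top dimension preserves the class. -/
theorem q_eq_of_bijective {A B : X.Modules} (φ : A ⟶ B) (hA : Cyc.CohLe δ k A) (hB : Cyc.CohLe δ k B)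
    (h : ∀ x, δ x = k → IsIso ((St x).map φ)) :
    Cyc.toK0CohQuot δ k (k - 1) A = Cyc.toK0CohQuot δ k (k - 1) B := by
  have hK := cohLe_kernel φ hA hB.1.1
  have hC := cohLe_cokernel φ hA.1.1 hB
  have hI : Cyc.CohLe δ k (Abelian.image φ) := cohLe_kernel _ hB hC.1.1
  let S₁ := ShortComplex.mk (kernel.ι φ) (Abelian.factorThruImage φ)
    ((cancel_mono (Abelian.image.ι φ)).1 (by rw [Category.assoc, Abelian.image.fac, kernel.condition, zero_comp]))
  have e₁ : S₁.ShortExact :=
    { exact := ShortComplex.exact_of_f_is_kernel _ (KernelFork.IsLimit.ofι' _ _ fun k hk =>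
        ⟨kernel.lift φ k (by rw [← Abelian.image.fac φ, ← Category.assoc, hk, zero_comp]), kernel.lift_ι _ _ _⟩) }
  let S₂ := ShortComplex.mk (Abelian.image.ι φ) (cokernel.π φ) (kernel.condition _)
  have e₂ : S₂.ShortExact :=
    { exact := ShortComplex.exact_of_f_is_kernel _ (kernelIsKernel _) }
  have hKs : Cyc.CohLe δ (k - 1) (kernel φ) := small_of_zero hK fun x hx => by
    haveI := h x hx
    exact IsZero.of_mono_eq_zero ((St x).map (kernel.ι φ)) ((cancel_mono ((St x).map φ)).1
      (by rw [← Functor.map_comp, kernel.condition, Functor.map_zero, zero_comp]))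
  have hCs : Cyc.CohLe δ (k - 1) (cokernel φ) := small_of_zero hC fun x hx => by
    haveI := h x hx
    exact IsZero.of_epi_eq_zero ((St x).map (cokernel.π φ)) ((cancel_epi ((St x).map φ)).1
      (by rw [← Functor.map_comp, cokernel.condition, Functor.map_zero, comp_zero]))
  rw [show Cyc.toK0CohQuot δ k (k - 1) A = _ from q_add e₁ hK hA hI (k - 1),
    show Cyc.toK0CohQuot δ k (k - 1) B = _ from q_add e₂ hI hB hC (k - 1), q_small hKs, q_small hCs, zero_add,
    add_zero]

/-! ### Skyscrapers at generic points -/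

/-- The product of skyscrapers of modules killed by the maximal ideals is quasi-coherent. -/
theorem isQCoh_prod_sky {σ : Type u} (pt : σ → X) (P : ∀ s, ModuleCat.{u} (X.presheaf.stalk (pt s)))
    (hP : ∀ s, ∀ a ∈ IsLocalRing.maximalIdeal (X.presheaf.stalk (pt s)), ∀ m : P s, a • m = 0) :
    Coh.IsQCoh (∏ᶜ fun s => (KFlat.sky (pt s)).obj (P s)) := by
  classical
  let T : σ → X.Modules := fun s => (KFlat.sky (pt s)).obj (P s)
  have hext : ∀ {U : X.Opens} {a b : Γ(∏ᶜ T, U)}, (∀ s, (Pi.π T s).app U a = (Pi.π T s).app U b) → a = b := by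
    intro U a b h
    have hl := isLimitOfPreserves (SheafOfModules.evaluation X.ringCatSheaf (op U)) (limit.isLimit (Discrete.functor T))
    exact Concrete.isLimit_ext _ hl a b fun j => h j.as
  have hlift : ∀ {U : X.Opens} (v : ∀ s, Γ(T s, U)), ∃ a : Γ(∏ᶜ T, U), ∀ s, (Pi.π T s).app U a = v s := by
    intro U v
    let G := SheafOfModules.evaluation X.ringCatSheaf (op U)
    let e := PreservesProduct.iso G T
    let w := (ModuleCat.piIsoPi fun s => G.obj (T s)).inv v
    refine ⟨e.inv w, fun s => ?_⟩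
    refine (congrArg (fun φ : ∏ᶜ (fun s => G.obj (T s)) ⟶ G.obj (T s) => φ w)
      (show e.inv ≫ G.map (Pi.π T s) = Pi.π (fun s => G.obj (T s)) s by
        rw [Iso.inv_comp_eq]; exact (piComparison_comp_π G T s).symm)).trans ?_
    exact congrArg (fun φ => φ v) (ModuleCat.piIsoPi_inv_kernel_ι (fun s => G.obj (T s)) s)
  refine QC.isQCoh_iff_isLoc.2 fun U => ⟨fun f t => ?_, fun f s hs => ?_⟩
  · obtain ⟨a, ha⟩ := hlift (U := U.1) fun s => (show KFlat.SkySec (pt s) (P s) U.1 from fun _ =>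
      if h : pt s ∈ X.basicOpen f then
        (show KFlat.SkySec (pt s) (P s) (X.basicOpen f) from (Pi.π T s).app (X.basicOpen f) t) ⟨h⟩
      else 0)
    refine ⟨0, a, hext fun s => ?_⟩
    rw [pow_zero, one_smul, ← QC.app_res, ha]
    refine funext fun h => ?_
    show (if h : pt s ∈ X.basicOpen f then _ else 0) = _
    rw [dif_pos h.down]
  · refine ⟨1, hext fun s' => ?_⟩
    rw [pow_one, map_zero, Scheme.Modules.Hom.app_smul]
    refine funext fun h => ?_
    show X.presheaf.germ U.1 (pt s') h.down f • (show KFlat.SkySec (pt s') (P s') U.1 from (Pi.π T s').app U.1 s) h = 0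
    by_cases hf : pt s' ∈ X.basicOpen f
    · have h0 : res (T s') (X.basicOpen_le f) ((Pi.π T s').app U.1 s) = 0 := by
        rw [QC.app_res, hs, map_zero]
      rw [show (show KFlat.SkySec (pt s') (P s') U.1 from (Pi.π T s').app U.1 s) h = 0 from congrFun h0 ⟨hf⟩, smul_zero]
    · exact hP s' _ ((IsLocalRing.mem_maximalIdeal _).2 fun hu => hf ((X.mem_basicOpen f _ h.down).2 hu)) _

lemma toSky_st {x : X} {F : X.Modules} {P : ModuleCat.{u} (X.presheaf.stalk x)} (φ : (St x).obj F ⟶ P) :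
    (St x).map (KFlat.toSky x φ) ≫ (KFlat.skyStalkIso x P).hom = φ :=
  ModuleCat.hom_ext (LinearMap.ext fun z => by
    obtain ⟨U, hU, s, rfl⟩ := KFlat.exists_pgerm (DCoh.toP.obj F) x z
    refine (congrArg (KFlat.skyEvalₗ x P) (KFlat.pstMap_germ (DCoh.toP.map (KFlat.toSky x φ)) x hU s)).trans ?_
    exact KFlat.skyEval_germ x P U hU _)

end Groth.Agent.CycK0
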