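import Groth.Agent.CycK0.Index
import Groth.Agent.CycK0.Main
import Groth.Agent.P1Div.StalkLoc
import Groth.Agent.CycDim.PullDiv
import Groth.Agent.CycDim.DegBase
import Groth.Agent.C1Cap.Basic

/-!
Lattice index of a coherent module with reduced generic stalks.
-/

set_option autoImplicit false
set_option linter.unusedSectionVars false
set_option linter.style.haveILetI false
set_option backward.isDefEq.respectTransparency false

universe u

open CategoryTheory CategoryTheory.Limits AlgebraicGeometry TopologicalSpace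
open Groth.Agent.K0Dev (St)
open Groth.Agent.CDivNormal (genPrime exists_genPrime_eq specializes_of_le germ_mem_genPrime)
open Groth.Agent.RefStalk (msp msp_smul msp_germ)
open Groth.Agent.WeakAssLib (mgerm)
open Groth.Agent.CycDim (spz)

noncomputable section

namespace Groth.Agent.CycK0

variable {X : Scheme.{u}}

/-! ### Localisation of stalks -/

lemma exists_msp_eq {F : X.Modules} (hF : Coh.IsQCoh F) {ξ x : X} (h : ξ ⤳ x) (t : F.presheaf.stalk ξ) :
    ∃ (a : X.presheaf.stalk x) (m : F.presheaf.stalk x), a ∉ genPrime h ∧ msp F h m = spz h a • t := by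
  obtain ⟨U, hU, hxU, -⟩ := exists_isAffineOpen_mem_and_subset (x := x) (U := (⊤ : X.Opens)) trivial
  have hξU := h.mem_open U.2 hxU
  obtain ⟨a, s, ha, has⟩ := WeakAssLib.exists_germ hU (QC.isLoc_of_isQCoh hU (hM := hF)) hξU t
  refine ⟨X.presheaf.germ U x hxU a, mgerm F hxU s, fun hm => ha ((germ_mem_genPrime h hU hxU a).1 hm), ?_⟩
  rw [msp_germ F h hxU s, ← has]
  exact congrArg (· • t) (X.presheaf.germ_stalkSpecializes_apply hxU h a).symm

lemma exists_smul_eq_zero {F : X.Modules} (hF : Coh.IsQCoh F) {ξ x : X} (h : ξ ⤳ x) {v : F.presheaf.stalk x}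
    (hv : msp F h v = 0) : ∃ c : X.presheaf.stalk x, c ∉ genPrime h ∧ c • v = 0 := by
  obtain ⟨U, hU, hxU, -⟩ := exists_isAffineOpen_mem_and_subset (x := x) (U := (⊤ : X.Opens)) trivial
  have hξU := h.mem_open U.2 hxU
  have hloc := QC.isLoc_of_isQCoh hU (hM := hF)
  obtain ⟨a, s, ha, has⟩ := WeakAssLib.exists_germ hU hloc hxU v
  have h1 : mgerm F hξU s = 0 := by rw [← msp_germ F h hxU s, ← has, msp_smul, hv, smul_zero]
  obtain ⟨c, hc, hcs⟩ := (WeakAssLib.germ_eq_zero_iff hU hloc hξU s).1 h1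
  refine ⟨X.presheaf.germ U x hxU c, fun hm => hc ((germ_mem_genPrime h hU hxU c).1 hm), ?_⟩
  refine (WeakAssLib.isUnit_germ hU hxU ha).smul_eq_zero.1 ?_
  rw [smul_comm, has, ← WeakAssLib.mgerm_smul, hcs, map_zero]

lemma msp_natural {F G : X.Modules} (f : F ⟶ G) {ξ x : X} (h : ξ ⤳ x) (m : F.presheaf.stalk x) :
    msp G h (((St x).map f).hom m) = ((St ξ).map f).hom (msp F h m) := by
  obtain ⟨U, hU, s, rfl⟩ := KFlat.exists_pgerm (DCoh.toP.obj F) x m
  refine (congrArg (msp G h) (KFlat.pstMap_germ (DCoh.toP.map f) x hU s)).trans ?_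
  refine (msp_germ G h hU _).trans ?_
  exact ((congrArg ((St ξ).map f).hom (msp_germ F h hU s)).trans
    (KFlat.pstMap_germ (DCoh.toP.map f) ξ (h.mem_open U.2 hU) s)).symm

/-! ### Frames -/

/-- The residue field. -/
abbrev Kap (ξ : X) : Type u := IsLocalRing.ResidueField (X.presheaf.stalk ξ)

/-- The residue map. -/
abbrev rd (ξ : X) : X.presheaf.stalk ξ →+* Kap ξ := IsLocalRing.residue (X.presheaf.stalk ξ)

/-- The generic rank. -/
def rk (G : X.Modules) (ξ : X) : ℕ := (Module.length (X.presheaf.stalk ξ) (G.presheaf.stalk ξ)).toNat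

/-- Points of dimension `k + 1`. -/
abbrev TopPt (δ : X → ℤ) (k : ℤ) : Type u := {ξ : X // δ ξ = k + 1}

variable {δ : X → ℤ} {k : ℤ}

/-- Bases of all the generic stalks. -/
def Frame (δ : X → ℤ) (k : ℤ) (G : X.Modules) : Type u :=
  ∀ ξ : TopPt δ k, G.presheaf.stalk ξ.1 ≃ₗ[X.presheaf.stalk ξ.1] (Fin (rk G ξ.1) → Kap ξ.1)

/-- The branches through a point, with multiplicity. -/
abbrev Cmp (δ : X → ℤ) (k : ℤ) (G : X.Modules) (x : X) : Type u :=
  Σ ξ : {ξ : TopPt δ k // ξ.1 ⤳ x}, Fin (rk G ξ.1.1)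

/-- The standard lattice. -/
abbrev Lat (δ : X → ℤ) (k : ℤ) (G : X.Modules) (x : X) : Type u :=
  (j : Cmp δ k G x) → X.presheaf.stalk x ⧸ genPrime j.1.2

/-- A local ring modulo a prime inside the residue field of the prime. -/
def toKap {ξ x : X} (h : ξ ⤳ x) : (X.presheaf.stalk x ⧸ genPrime h) →+* Kap ξ :=
  Ideal.Quotient.lift (genPrime h) ((rd ξ).comp (spz h)) fun a ha =>
    RingHom.mem_ker.1 ((CycDim.mem_genPrime_iff h a).1 ha)

lemma toKap_mk {ξ x : X} (h : ξ ⤳ x) (a : X.presheaf.stalk x) :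
    toKap h (Ideal.Quotient.mk _ a) = rd ξ (spz h a) := rfl

lemma rd_eq_zero_iff {ξ x : X} (h : ξ ⤳ x) (a : X.presheaf.stalk x) :
    rd ξ (spz h a) = 0 ↔ a ∈ genPrime h :=
  ⟨fun h0 => (CycDim.mem_genPrime_iff h a).2 (RingHom.mem_ker.2 h0),
    fun ha => RingHom.mem_ker.1 ((CycDim.mem_genPrime_iff h a).1 ha)⟩

lemma toKap_injective {ξ x : X} (h : ξ ⤳ x) : Function.Injective (toKap h) :=
  (injective_iff_map_eq_zero _).2 fun z hz => by
    obtain ⟨a, rfl⟩ := Ideal.Quotient.mk_surjective z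
    exact Ideal.Quotient.eq_zero_iff_mem.2 ((rd_eq_zero_iff h a).1 hz)

lemma toKap_smul {ξ x : X} (h : ξ ⤳ x) (a : X.presheaf.stalk x) (z : X.presheaf.stalk x ⧸ genPrime h) :
    toKap h (a • z) = rd ξ (spz h a) * toKap h z := by
  obtain ⟨b, rfl⟩ := Ideal.Quotient.mk_surjective z
  exact map_mul (toKap h) (Ideal.Quotient.mk _ a) (Ideal.Quotient.mk _ b)

lemma kap_smul {ξ : X} (w : X.presheaf.stalk ξ) (c : Kap ξ) : w • c = rd ξ w * c := Algebra.smul_def w c

/-- The coordinates of a stalk element. -/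
def co {G : X.Modules} (β : Frame δ k G) {x : X} (j : Cmp δ k G x) (m : G.presheaf.stalk x) : Kap j.1.1.1 :=
  β j.1.1 (msp G j.1.2 m) j.2

lemma co_add {G : X.Modules} (β : Frame δ k G) {x : X} (j : Cmp δ k G x) (m m' : G.presheaf.stalk x) :
    co β j (m + m') = co β j m + co β j m' := by
  show β j.1.1 (msp G j.1.2 (m + m')) j.2 = _
  rw [map_add, map_add]; rfl

lemma co_zero {G : X.Modules} (β : Frame δ k G) {x : X} (j : Cmp δ k G x) : co β j (0 : G.presheaf.stalk x) = 0 := by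
  show β j.1.1 (msp G j.1.2 0) j.2 = _
  rw [map_zero, map_zero]; rfl

lemma co_smul {G : X.Modules} (β : Frame δ k G) {x : X} (j : Cmp δ k G x) (a : X.presheaf.stalk x)
    (m : G.presheaf.stalk x) : co β j (a • m) = rd j.1.1.1 (spz j.1.2 a) * co β j m := by
  show β j.1.1 (msp G j.1.2 (a • m)) j.2 = _
  rw [msp_smul, map_smul]
  exact kap_smul _ _

/-- A scaled coordinate map into the standard lattice. -/
def Adm {G : X.Modules} (β : Frame δ k G) (x : X) (s : X.presheaf.stalk x)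
    (φ : G.presheaf.stalk x →ₗ[X.presheaf.stalk x] Lat δ k G x) : Prop :=
  (∀ j : Cmp δ k G x, s ∉ genPrime j.1.2) ∧
    ∀ m j, toKap j.1.2 (φ m j) = rd j.1.1.1 (spz j.1.2 s) * co β j m

/-- Multiplication on the standard lattice. -/
abbrev mulLat (δ : X → ℤ) (k : ℤ) (G : X.Modules) (x : X) (s : X.presheaf.stalk x) :
    Lat δ k G x →ₗ[X.presheaf.stalk x] Lat δ k G x := LinearMap.lsmul _ _ s

lemma mulLat_injective {G : X.Modules} {x : X} {s : X.presheaf.stalk x}
    (hs : ∀ j : Cmp δ k G x, s ∉ genPrime j.1.2) : Function.Injective (mulLat δ k G x s) :=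
  (injective_iff_map_eq_zero _).2 fun v hv => funext fun j => by
    refine toKap_injective j.1.2 (Eq.trans ?_ (map_zero _).symm)
    have h1 : rd j.1.1.1 (spz j.1.2 s) * toKap j.1.2 (v j) = 0 := by
      rw [← toKap_smul, show s • v j = (0 : X.presheaf.stalk x ⧸ genPrime j.1.2) from congrFun hv j, map_zero]
    exact (mul_eq_zero.1 h1).resolve_left fun h0 => hs j ((rd_eq_zero_iff _ s).1 h0)

variable [IsLocallyNoetherian X]

/-- Distinct branches give incomparable primes. -/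
lemma not_genPrime_le (hδ : Cyc.IsDimFun X δ) {ξ η x : X} (hξ : ξ ⤳ x) (hη : η ⤳ x) (hd : δ η ≤ δ ξ) (hne : ξ ≠ η) :
    ∃ t, t ∈ genPrime hη ∧ t ∉ genPrime hξ := by
  refine Set.not_subset.1 fun hle => hne ?_
  by_contra hne'
  have h1 : η ⤳ ξ := specializes_of_le hη hξ hle
  have := (hδ _ _ h1 (Ne.symm hne')).1
  omega

/-- Reduced at the points of dimension `k + 1`. -/
def TopRed (δ : X → ℤ) (k : ℤ) : ObjectProperty X.Modules := fun G => Cyc.CohLe δ (k + 1) G ∧ Reduced δ (k + 1) G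

lemma isSimpleModule_kap (ξ : X) : IsSimpleModule (X.presheaf.stalk ξ) (Kap ξ) :=
  isSimpleModule_iff_isCoatom.2 (IsLocalRing.maximalIdeal.isMaximal (X.presheaf.stalk ξ)).out

lemma length_kap_pi (ξ : X) (n : ℕ) : Module.length (X.presheaf.stalk ξ) (Fin n → Kap ξ) = n := by
  haveI := isSimpleModule_kap ξ
  rw [Module.length_pi_of_fintype]
  simp [Module.length_eq_one]

lemma rk_spec (hδ : Cyc.IsDimFun X δ) {G : X.Modules} (hG : Cyc.CohLe δ (k + 1) G) (ξ : TopPt δ k) :
    (rk G ξ.1 : ℕ∞) = Module.length (X.presheaf.stalk ξ.1) (G.presheaf.stalk ξ.1) :=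
  ENat.coe_toNat (length_ne_top hδ hG ξ.2)

lemma nonempty_frame (hδ : Cyc.IsDimFun X δ) {G : X.Modules} (hG : TopRed δ k G) : Nonempty (Frame δ k G) := by
  refine ⟨fun ξ => (nonempty_equiv_of_length (hG.2 ξ.1 ξ.2) (fun a ha v => funext fun i => ?_)
    (length_ne_top hδ hG.1 ξ.2) ?_ ?_).some⟩
  · rw [Pi.smul_apply, kap_smul, show rd ξ.1 a = 0 from (IsLocalRing.residue_eq_zero_iff a).2 ha, zero_mul,
      Pi.zero_apply]
  · rw [length_kap_pi]; exact ENat.coe_ne_top _
  · rw [length_kap_pi, ENat.toNat_coe]; rfl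

lemma finite_branches (hδ : Cyc.IsDimFun X δ) {G : X.Modules} (hG : Cyc.CohLe δ (k + 1) G) (x : X) :
    {ξ : {ξ : TopPt δ k // ξ.1 ⤳ x} | rk G ξ.1.1 ≠ 0}.Finite := by
  haveI := hG.1.1
  obtain ⟨U, hU, hxU, -⟩ := exists_isAffineOpen_mem_and_subset (x := x) (U := (⊤ : X.Opens)) trivial
  have hinj : Function.Injective (fun ξ : {ξ : TopPt δ k // ξ.1 ⤳ x} => ξ.1.1) :=
    Subtype.val_injective.comp Subtype.val_injective
  refine Set.Finite.subset ((finite_top hδ (QC.isClosed_support hG.1.2)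
    (fun y hy => hG.2 y (not_subsingleton_iff_nontrivial.1 hy)) hU).preimage hinj.injOn) fun ξ hξ => ?_
  refine ⟨ξ.2.mem_open U.2 hxU, fun hs => hξ ?_, ξ.1.2⟩
  rw [rk, (Module.length_eq_zero_iff (R := X.presheaf.stalk ξ.1.1)).2 hs]
  rfl

lemma finite_cmp (hδ : Cyc.IsDimFun X δ) {G : X.Modules} (hG : Cyc.CohLe δ (k + 1) G) (x : X) :
    Finite (Cmp δ k G x) := by
  haveI : Finite {ξ : {ξ : TopPt δ k // ξ.1 ⤳ x} // rk G ξ.1.1 ≠ 0} := (finite_branches hδ hG x).to_subtype
  exact Finite.of_surjective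
    (fun p : Σ ξ : {ξ : {ξ : TopPt δ k // ξ.1 ⤳ x} // rk G ξ.1.1 ≠ 0}, Fin (rk G ξ.1.1.1) =>
      (⟨p.1.1, p.2⟩ : Cmp δ k G x))
    fun j => ⟨⟨⟨j.1, fun h => (h ▸ j.2 : Fin 0).elim0⟩, j.2⟩, rfl⟩

/-- Common denominators. -/
lemma exists_den (hδ : Cyc.IsDimFun X δ) {x : X} {L P : Type u} [Finite L] [Finite P]
    (ξ : L → {ξ : TopPt δ k // ξ.1 ⤳ x}) (c : ∀ l, Kap (ξ l).1.1) (p : P → {ξ : TopPt δ k // ξ.1 ⤳ x}) :
    ∃ s : X.presheaf.stalk x, (∀ i, s ∉ genPrime (p i).2) ∧
      ∀ l, ∃ z, toKap (ξ l).2 z = rd (ξ l).1.1 (spz (ξ l).2 s) * c l := by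
  classical
  cases nonempty_fintype L
  cases nonempty_fintype P
  let I : L → Ideal (X.presheaf.stalk x) := fun l =>
    { carrier := {s | ∃ z, toKap (ξ l).2 z = rd (ξ l).1.1 (spz (ξ l).2 s) * c l}
      zero_mem' := ⟨0, by rw [map_zero, map_zero, map_zero, zero_mul]⟩
      add_mem' := fun {a b} ⟨z, hz⟩ ⟨w, hw⟩ => ⟨z + w, by rw [map_add, hz, hw, map_add, map_add, add_mul]⟩
      smul_mem' := fun a b ⟨z, hz⟩ => ⟨a • z, by rw [toKap_smul, hz, smul_eq_mul, map_mul, map_mul, mul_assoc]⟩ }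
  have key : ∀ (i : P) (l : L), ¬ I l ≤ genPrime (p i).2 := fun i l hle => by
    by_cases he : ξ l = p i
    · obtain ⟨w, hw⟩ := IsLocalRing.residue_surjective (R := X.presheaf.stalk (ξ l).1.1) (c l)
      letI := (spz (ξ l).2).toAlgebra
      haveI := CycDim.isLocalization_genPrime (ξ l).2
      obtain ⟨⟨a, b⟩, hab⟩ := IsLocalization.surj (genPrime (ξ l).2).primeCompl w
      have hb : b.1 ∈ I l := ⟨Ideal.Quotient.mk _ a, by
        rw [toKap_mk, show c l = rd (ξ l).1.1 w from hw.symm, ← map_mul, mul_comm]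
        exact congrArg (rd (ξ l).1.1) hab.symm⟩
      have hb2 : b.1 ∉ genPrime (ξ l).2 := b.2
      rw [← he] at hle
      exact hb2 (hle hb)
    · obtain ⟨t, ht, ht'⟩ := not_genPrime_le hδ (p i).2 (ξ l).2 (by rw [(ξ l).1.2, (p i).1.2])
        fun h => he (Subtype.ext (Subtype.ext h)).symm
      exact ht' (hle ⟨0, by rw [map_zero, (rd_eq_zero_iff _ t).2 ht, zero_mul]⟩)
  rcases isEmpty_or_nonempty P with hP | ⟨⟨i₀⟩⟩
  · exact ⟨0, fun i => isEmptyElim i, fun l => (I l).zero_mem⟩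
  by_contra hne
  have hsub : ((Finset.univ.inf I : Ideal _) : Set (X.presheaf.stalk x)) ⊆
      ⋃ i ∈ ((Finset.univ : Finset P) : Set P), (genPrime (p i).2 : Set _) := fun s hs => by
    by_contra hns
    simp only [Set.mem_iUnion, Finset.coe_univ, Set.mem_univ, not_exists] at hns
    exact hne ⟨s, fun i => hns i trivial, fun l => (Finset.inf_le (Finset.mem_univ l) : _ ≤ I l) hs⟩
  obtain ⟨i, -, hi⟩ := (Ideal.subset_union_prime (f := fun i => genPrime (p i).2) i₀ i₀
    fun _ _ _ _ => inferInstance).1 hsub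
  obtain ⟨l, -, hl⟩ := (Ideal.IsPrime.inf_le' (inferInstance : (genPrime (p i).2).IsPrime)).1 hi
  exact key i l hl

theorem exists_adm (hδ : Cyc.IsDimFun X δ) {G : X.Modules} (hG : TopRed δ k G) (β : Frame δ k G) (x : X)
    {L : Type u} [Finite L] (ξ : L → {ξ : TopPt δ k // ξ.1 ⤳ x}) (c : ∀ l, Kap (ξ l).1.1)
    {P : Type u} [Finite P] (p : P → {ξ : TopPt δ k // ξ.1 ⤳ x}) :
    ∃ s φ, Adm β x s φ ∧ (∀ i, s ∉ genPrime (p i).2) ∧
      ∀ l, ∃ z, toKap (ξ l).2 z = rd (ξ l).1.1 (spz (ξ l).2 s) * c l := by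
  classical
  haveI := hG.1.1.1
  haveI := SupportLib.finite_stalk G hG.1.1.2 x
  haveI := finite_cmp hδ hG.1 x
  obtain ⟨n, gen, hgen⟩ := Module.Finite.exists_fin (R := X.presheaf.stalk x) (M := G.presheaf.stalk x)
  obtain ⟨s, hs, hsc⟩ := exists_den hδ (x := x) (L := L ⊕ (Fin n × Cmp δ k G x))
    (P := P ⊕ Cmp δ k G x) (Sum.elim ξ fun q => q.2.1)
    (fun q => match q with | .inl l => c l | .inr q => co β q.2 (gen q.1)) (Sum.elim p fun j => j.1)
  have hint : ∀ m j, ∃ z, toKap j.1.2 z = rd j.1.1.1 (spz j.1.2 s) * co β j m := by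
    intro m j
    have hm : m ∈ Submodule.span (X.presheaf.stalk x) (Set.range gen) := hgen ▸ trivial
    induction hm using Submodule.span_induction with
    | mem m hm => obtain ⟨i, rfl⟩ := hm; exact hsc (.inr (i, j))
    | zero => exact ⟨0, by rw [map_zero, co_zero, mul_zero]⟩
    | add a b _ _ ha hb =>
      obtain ⟨z, hz⟩ := ha
      obtain ⟨w, hw⟩ := hb
      exact ⟨z + w, by rw [map_add, hz, hw, co_add, mul_add]⟩
    | smul r a _ ha =>
      obtain ⟨z, hz⟩ := ha
      exact ⟨r • z, by rw [toKap_smul, hz, co_smul]; ring⟩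
  choose z hz using hint
  let φ : G.presheaf.stalk x →ₗ[X.presheaf.stalk x] Lat δ k G x :=
    { toFun := z
      map_add' := fun a b => funext fun j => toKap_injective j.1.2 (by
        rw [hz, co_add, mul_add, ← hz, ← hz, ← map_add]; rfl)
      map_smul' := fun r a => funext fun j => toKap_injective j.1.2 (by
        rw [hz, co_smul, RingHom.id_apply, Pi.smul_apply, toKap_smul, hz]; ring) }
  exact ⟨s, φ, ⟨fun j => hs (.inr j), fun m j => hz m j⟩, fun i => hs (.inl i), fun l => hsc (.inl l)⟩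

lemma iFin_mulLat (hδ : Cyc.IsDimFun X δ) {G : X.Modules} (hG : Cyc.CohLe δ (k + 1) G) {x : X} (hx : δ x = k)
    {s : X.presheaf.stalk x} (hs : ∀ j : Cmp δ k G x, s ∉ genPrime j.1.2) : IFin (mulLat δ k G x s) := by
  classical
  haveI := finite_cmp hδ hG x
  cases nonempty_fintype (Cmp δ k G x)
  haveI : Subsingleton (LinearMap.ker (mulLat δ k G x s)) := by
    rw [LinearMap.ker_eq_bot.2 (mulLat_injective hs)]; infer_instance
  rw [iFin_iff, Module.length_eq_zero]
  refine ⟨ENat.top_pos, ?_⟩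
  let l : Lat δ k G x →ₗ[X.presheaf.stalk x]
      ((j : Cmp δ k G x) → X.presheaf.stalk x ⧸ (genPrime j.1.2 ⊔ Ideal.span {s})) :=
    LinearMap.pi fun j => (Submodule.factor (le_sup_left (b := Ideal.span {s}))).comp (LinearMap.proj j)
  have hker : LinearMap.range (mulLat δ k G x s) = LinearMap.ker l := by
    ext v
    rw [LinearMap.mem_range, LinearMap.mem_ker]
    constructor
    · rintro ⟨w, rfl⟩
      refine funext fun j => ?_
      obtain ⟨b, hb⟩ := Ideal.Quotient.mk_surjective (w j)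
      show Submodule.factor (le_sup_left (a := genPrime j.1.2) (b := Ideal.span {s})) (s • w j) = 0
      rw [← hb]
      exact (Submodule.Quotient.mk_eq_zero _).2
        (Ideal.mem_sup_right (Ideal.mul_mem_right b _ (Ideal.mem_span_singleton_self s)))
    · intro hv
      have : ∀ j, ∃ w : X.presheaf.stalk x ⧸ genPrime j.1.2, s • w = v j := fun j => by
        obtain ⟨b, hb⟩ := Ideal.Quotient.mk_surjective (v j)
        have h0 : Submodule.factor (le_sup_left (b := Ideal.span {s})) (v j) = 0 := congrFun hv j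
        rw [← hb] at h0
        obtain ⟨q, hq, r, hr, hqr⟩ := Submodule.mem_sup.1 ((Submodule.Quotient.mk_eq_zero _).1 h0)
        obtain ⟨e, rfl⟩ := Ideal.mem_span_singleton'.1 hr
        refine ⟨Ideal.Quotient.mk _ e, ?_⟩
        rw [← hb]
        exact ((Ideal.Quotient.mk_eq_mk_iff_sub_mem _ _).2 (by
          rw [show b = q + e * s from hqr.symm]
          show s * e - (q + e * s) ∈ genPrime j.1.2
          rw [show s * e - (q + e * s) = -q by ring]; exact neg_mem hq))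
      choose w hw using this
      exact ⟨w, funext hw⟩
  have hsur : Function.Surjective l := fun w =>
    ⟨fun j => Ideal.Quotient.mk _ (Ideal.Quotient.mk_surjective (w j)).choose,
      funext fun j => (Ideal.Quotient.mk_surjective (w j)).choose_spec⟩
  rw [((Submodule.quotEquivOfEq _ _ hker).trans (LinearMap.quotKerEquivOfSurjective l hsur)).length_eq,
    Module.length_pi_of_fintype]
  exact (WithTop.sum_lt_top).2 fun j _ => CycPull.length_sup_lt_top hδ j.1.2 (by rw [j.1.1.2, hx]) (hs j)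

/-- The scaled coordinate map has finite kernel and cokernel. -/
theorem iFin_adm (hδ : Cyc.IsDimFun X δ) {G : X.Modules} (hG : TopRed δ k G) {β : Frame δ k G} {x : X} (hx : δ x = k)
    {s : X.presheaf.stalk x} {φ : G.presheaf.stalk x →ₗ[X.presheaf.stalk x] Lat δ k G x} (h : Adm β x s φ) :
    IFin φ := by
  classical
  haveI := hG.1.1.1
  haveI := SupportLib.finite_stalk G hG.1.1.2 x
  haveI := finite_cmp hδ hG.1 x
  cases nonempty_fintype (Cmp δ k G x)
  haveI : Module.Finite (X.presheaf.stalk x) (Lat δ k G x) := Module.Finite.pi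
  have small : ∀ q : Ideal (X.presheaf.stalk x), q.IsPrime → ¬ q.IsMaximal →
      ∃ (z : X) (hz : z ⤳ x), genPrime hz = q ∧ k < δ z := fun q hq hm => by
    obtain ⟨z, hz, hzq⟩ := exists_genPrime_eq x q
    refine ⟨z, hz, hzq, ?_⟩
    by_contra hle
    obtain rfl := CycDim.eq_of_delta_le hδ hz (by omega)
    exact hm (hzq ▸ (CycDim.genPrime_rfl z).symm ▸ IsLocalRing.maximalIdeal.isMaximal _)
  rw [iFin_iff]
  refine ⟨CycDim.isFiniteLength_of_annihilator fun q hq hann => ?_,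
    CycDim.isFiniteLength_of_annihilator fun q hq hann => ?_⟩
  · by_contra hm
    obtain ⟨z, hz, rfl, hkz⟩ := small q hq hm
    have hsupp : (⟨genPrime hz, hq⟩ : PrimeSpectrum _) ∈
        Module.support (X.presheaf.stalk x) (LinearMap.ker φ) := Module.mem_support_iff_of_finite.2 hann
    refine Module.mem_support_iff'.not.2 ?_ hsupp
    push_neg
    intro m
    have h0 : msp G hz m.1 = 0 := by
      by_cases hd : δ z = k + 1
      · refine (β ⟨z, hd⟩).injective (Eq.trans (funext fun i => ?_) (map_zero _).symm)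
        have h1 := h.2 m.1 ⟨⟨⟨z, hd⟩, hz⟩, i⟩
        rw [show φ m.1 = 0 from m.2] at h1
        exact (mul_eq_zero.1 ((h1.symm.trans (map_zero (toKap hz))))).resolve_left fun h2 =>
          h.1 ⟨⟨⟨z, hd⟩, hz⟩, i⟩ ((rd_eq_zero_iff hz s).1 h2)
      · haveI := ModuleCat.subsingleton_of_isZero (((cohLe_iff δ (k + 1)).1 hG.1).2 z (by omega))
        exact Subsingleton.elim (α := (St z).obj G) _ _
    obtain ⟨c, hc, hcm⟩ := exists_smul_eq_zero hG.1.1.1 hz h0
    exact ⟨c, hc, Subtype.ext hcm⟩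
  · by_contra hm
    obtain ⟨z, hz, rfl, hkz⟩ := small q hq hm
    have hsupp : (⟨genPrime hz, hq⟩ : PrimeSpectrum _) ∈
        Module.support (X.presheaf.stalk x) (Lat δ k G x ⧸ LinearMap.range φ) :=
      Module.mem_support_iff_of_finite.2 hann
    refine Module.mem_support_iff'.not.2 ?_ hsupp
    push_neg
    intro v
    obtain ⟨v, rfl⟩ := Submodule.mkQ_surjective _ v
    suffices H : ∀ j (c : X.presheaf.stalk x ⧸ genPrime j.1.2),
        ∃ t, t ∉ genPrime hz ∧ t • Pi.single j c ∈ LinearMap.range φ by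
      choose t ht hmem using H
      refine ⟨∏ j, t j (v j), fun hp => ?_, ?_⟩
      · obtain ⟨j, -, hj⟩ := (Ideal.IsPrime.prod_mem_iff).1 hp
        exact ht j _ hj
      · rw [← map_smul, Submodule.mkQ_apply, Submodule.Quotient.mk_eq_zero]
        generalize hP : ∏ j, t j (v j) = T
        rw [← Finset.univ_sum_single v, Finset.smul_sum, ← hP]
        refine sum_mem fun j _ => ?_
        rw [← Finset.prod_erase_mul _ _ (Finset.mem_univ j), mul_smul]
        exact Submodule.smul_mem _ _ (hmem j (v j))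
    intro j c
    by_cases he : j.1.1.1 = z
    swap
    · obtain ⟨t, ht, ht'⟩ : ∃ t, t ∈ genPrime j.1.2 ∧ t ∉ genPrime hz := by
        refine Set.not_subset.1 fun hle => he ?_
        have h1 : j.1.1.1 ⤳ z := specializes_of_le j.1.2 hz hle
        by_contra hne
        have := (hδ _ _ h1 hne).1
        have := j.1.1.2
        omega
      refine ⟨t, ht', ?_⟩
      have h0 : t • c = 0 := by
        obtain ⟨b, rfl⟩ := Ideal.Quotient.mk_surjective c
        exact Ideal.Quotient.eq_zero_iff_mem.2 (Ideal.mul_mem_right b _ ht)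
      rw [← Pi.single_smul, h0, Pi.single_zero]
      exact zero_mem _
    obtain ⟨⟨⟨ξ, hξ⟩, hsp⟩, i⟩ := j
    obtain rfl : ξ = z := he
    obtain ⟨a, m, ha, hm'⟩ :=
      exists_msp_eq hG.1.1.1 hz ((β ⟨ξ, hξ⟩).symm (Pi.single i (toKap hz c)))
    let T : Finset (Cmp δ k G x) := Finset.univ.filter fun j => j.1.1.1 ≠ ξ
    have hu : ∀ j ∈ T, ∃ t, t ∈ genPrime j.1.2 ∧ t ∉ genPrime hz := fun j hj =>
      not_genPrime_le hδ hz j.1.2 (by rw [j.1.1.2, hξ]) (Ne.symm (Finset.mem_filter.1 hj).2)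
    choose u hu1 hu2 using hu
    let w := ∏ j : T, u j.1 j.2
    have hw : w ∉ genPrime hz := fun hp => by
      obtain ⟨j, -, hj⟩ := (Ideal.IsPrime.prod_mem_iff).1 hp
      exact hu2 _ _ hj
    refine ⟨w * s * a, fun hp => ?_, ⟨w • m, funext fun j => toKap_injective j.1.2 ?_⟩⟩
    · rcases hq.mem_or_mem hp with hp | hp
      · rcases hq.mem_or_mem hp with hp | hp
        · exact hw hp
        · exact h.1 ⟨⟨⟨ξ, hξ⟩, hz⟩, i⟩ hp
      · exact ha hp
    rw [h.2, co_smul, Pi.smul_apply, toKap_smul]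
    by_cases hj : j.1.1.1 = ξ
    · obtain ⟨⟨⟨η, hη⟩, hη'⟩, i'⟩ := j
      obtain rfl : η = ξ := hj
      have hco : co β ⟨⟨⟨η, hη⟩, hη'⟩, i'⟩ m = rd η (spz hz a) * Pi.single (M := fun _ => Kap η) i (toKap hz c) i' := by
        show β ⟨η, hη⟩ (msp G hz m) i' = _
        rw [hm', map_smul, LinearEquiv.apply_symm_apply]
        exact kap_smul _ _
      rw [hco]
      by_cases hi : i' = i
      · subst hi
        rw [Pi.single_eq_same, Pi.single_eq_same, map_mul, map_mul, map_mul, map_mul]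
        ring
      · rw [Pi.single_eq_of_ne hi, Pi.single_eq_of_ne (fun e => hi (by cases e; rfl)), map_zero, mul_zero, mul_zero,
          mul_zero, mul_zero]
    · have h0 : rd j.1.1.1 (spz j.1.2 w) = 0 := by
        refine (rd_eq_zero_iff _ w).2 ?_
        have hjT : j ∈ T := Finset.mem_filter.2 ⟨Finset.mem_univ _, hj⟩
        exact Ideal.mem_of_dvd _ (Finset.dvd_prod_of_mem (fun j : T => u j.1 j.2) (Finset.mem_univ ⟨j, hjT⟩))
          (hu1 j hjT)
      rw [Pi.single_eq_of_ne (fun e => hj (by rw [e])), map_zero, mul_zero, h0, zero_mul, mul_zero]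

/-- The local index of a frame. -/
def idxAt {G : X.Modules} (β : Frame δ k G) (x : X) : ℤ := by
  classical
  exact if h : δ x = k ∧ ∃ s φ, Adm β x s φ then
    idxMap h.2.choose_spec.choose - idxMap (mulLat δ k G x h.2.choose) else 0

lemma mulLat_comp_eq {G : X.Modules} {β : Frame δ k G} {x : X} {s s' : X.presheaf.stalk x}
    {φ φ' : G.presheaf.stalk x →ₗ[X.presheaf.stalk x] Lat δ k G x} (h : Adm β x s φ) (h' : Adm β x s' φ') :
    mulLat δ k G x s' ∘ₗ φ = mulLat δ k G x s ∘ₗ φ' :=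
  LinearMap.ext fun m => funext fun j => toKap_injective j.1.2 (by
    show toKap j.1.2 (s' • φ m j) = toKap j.1.2 (s • φ' m j)
    rw [toKap_smul, toKap_smul, h.2, h'.2]; ring)

theorem idxAt_eq (hδ : Cyc.IsDimFun X δ) {G : X.Modules} (hG : TopRed δ k G) {β : Frame δ k G} {x : X} (hx : δ x = k)
    {s : X.presheaf.stalk x} {φ : G.presheaf.stalk x →ₗ[X.presheaf.stalk x] Lat δ k G x} (h : Adm β x s φ) :
    idxAt β x = idxMap φ - idxMap (mulLat δ k G x s) := by
  have he : δ x = k ∧ ∃ s φ, Adm β x s φ := ⟨hx, s, φ, h⟩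
  rw [idxAt, dif_pos he]
  have hs' := he.2.choose_spec.choose_spec
  have e1 := (idx_comp φ _ (Or.inl ⟨iFin_adm hδ hG hx h, iFin_mulLat hδ hG.1 hx hs'.1⟩)).2.2.2
  have e2 := (idx_comp _ _ (Or.inl ⟨iFin_adm hδ hG hx hs', iFin_mulLat hδ hG.1 hx h.1⟩)).2.2.2
  rw [mulLat_comp_eq h hs', e2] at e1
  omega

lemma idxAt_of_ne {G : X.Modules} (β : Frame δ k G) {x : X} (hx : δ x ≠ k) : idxAt β x = 0 := by
  rw [idxAt, dif_neg fun h => hx h.1]

end Groth.Agent.CycK0
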