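import Groth.Agent.CycK0.Twist
import Groth.Agent.CycK0.Lattice

/-!
`[F ⊗ L] - [F]` is the first Chern class.
-/

set_option autoImplicit false
set_option linter.unusedSectionVars false
set_option linter.style.haveILetI false
set_option backward.isDefEq.respectTransparency false
set_option backward.isDefEq.respectTransparency.types false

universe u

open CategoryTheory CategoryTheory.Limits AlgebraicGeometry TopologicalSpace Opposite
open Groth.Agent.K0Dev (St)
open Groth.Agent.CDivNormal (genPrime)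
open Groth.Agent.KFlat (pgerm exists_pgerm pstMap_germ)
open Groth.Agent.RefStalk (msp msp_smul msp_germ)
open Groth.Agent.WeakAssLib (mgerm)
open Groth.Agent.CycDim (spz)

noncomputable section

attribute [local instance] Abelian.hasFiniteBiproducts

namespace Groth.Agent.CycK0

variable {X : Scheme.{u}}

/-- Evaluation of a germ of a rational function. -/
def evR {ξ x : X} (h : ξ ⤳ x) (z : (ratSheaf ξ).presheaf.stalk x) : Kap ξ :=
  KFlat.skyEvalₗ ξ (kap ξ) (msp (ratSheaf ξ) h z)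

lemma evR_zero {ξ x : X} (h : ξ ⤳ x) : evR h (0 : (ratSheaf ξ).presheaf.stalk x) = 0 := by
  show KFlat.skyEvalₗ ξ (kap ξ) (msp (ratSheaf ξ) h 0) = 0
  rw [map_zero, map_zero]

lemma evR_smul {ξ x : X} (h : ξ ⤳ x) (a : X.presheaf.stalk x) (z : (ratSheaf ξ).presheaf.stalk x) :
    evR h (a • z) = rd ξ (spz h a) * evR h z := by
  show KFlat.skyEvalₗ ξ (kap ξ) (msp (ratSheaf ξ) h (a • z)) = _
  rw [msp_smul]
  exact ((KFlat.skyEvalₗ ξ (kap ξ)).map_smul (spz h a) _).trans (kap_smul _ _)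

lemma evR_injective {ξ x : X} (h : ξ ⤳ x) : Function.Injective (evR h) := by
  intro z z' hz
  have h0 : evR h (z - z') = 0 := by
    show KFlat.skyEvalₗ ξ (kap ξ) (msp (ratSheaf ξ) h (z - z')) = 0
    rw [map_sub, map_sub]
    exact sub_eq_zero.2 hz
  refine sub_eq_zero.1 ?_
  generalize z - z' = w at h0 ⊢
  obtain ⟨U, hU, s, rfl⟩ := exists_pgerm (DCoh.toP.obj (ratSheaf ξ)) x w
  have h1 : (show KFlat.SkySec ξ (kap ξ) U from s) ⟨h.mem_open U.2 hU⟩ = 0 :=
    ((KFlat.skyEval_germ ξ (kap ξ) U (h.mem_open U.2 hU) s).symm.trans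
      (congrArg (KFlat.skyEvalₗ ξ (kap ξ)) (msp_germ (ratSheaf ξ) h hU s).symm)).trans h0
  have h2 : (show KFlat.SkySec ξ (kap ξ) U from s) = 0 := funext fun hh => h1
  exact (congrArg _ h2).trans (map_zero (pgerm (DCoh.toP.obj (ratSheaf ξ)) x U hU))

lemma evR_toSky {ξ x : X} (h : ξ ⤳ x) {F : X.Modules} (φ : (St ξ).obj F ⟶ kap ξ) (z : F.presheaf.stalk x) :
    evR h (((St x).map (KFlat.toSky ξ φ)).hom z) = φ.hom (msp F h z) := by
  show KFlat.skyEvalₗ ξ (kap ξ) (msp (ratSheaf ξ) h (((St x).map (KFlat.toSky ξ φ)).hom z)) = _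
  refine (congrArg (KFlat.skyEvalₗ ξ (kap ξ)) (msp_natural _ h z)).trans ?_
  obtain ⟨U, hU, t, ht⟩ := exists_pgerm (DCoh.toP.obj F) ξ (msp F h z)
  rw [← ht]
  refine (congrArg (KFlat.skyEvalₗ ξ (kap ξ)) (pstMap_germ (DCoh.toP.map (KFlat.toSky ξ φ)) ξ hU t)).trans ?_
  exact KFlat.skyEval_germ ξ (kap ξ) U hU _

/-- The order of a ratio as a difference of lengths of cokernels. -/
theorem ord_eq_length_diff [IsLocallyNoetherian X] {δ : X → ℤ} (hδ : Cyc.IsDimFun X δ) {ξ x : X} (h : ξ ⤳ x)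
    (hd : δ ξ ≤ δ x + 1) {N M : Type u} [AddCommGroup N] [Module (X.presheaf.stalk x) N] [AddCommGroup M]
    [Module (X.presheaf.stalk x) M]
    (e : (X.presheaf.stalk x ⧸ genPrime h) ≃ₗ[X.presheaf.stalk x] N) (u v : M →ₗ[X.presheaf.stalk x] N)
    {a b : X.presheaf.stalk x} (ha : a ∉ genPrime h) (hb : b ∉ genPrime h) (hab : ∀ m, a • u m = b • v m)
    (hu : Module.length (X.presheaf.stalk x) (N ⧸ LinearMap.range u) ≠ ⊤)
    (hv : Module.length (X.presheaf.stalk x) (N ⧸ LinearMap.range v) ≠ ⊤) :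
    Cyc.ordAt x ξ h (rd ξ (spz h a)) - Cyc.ordAt x ξ h (rd ξ (spz h b)) =
      ((Module.length (X.presheaf.stalk x) (N ⧸ LinearMap.range v)).toNat : ℤ) -
        (Module.length (X.presheaf.stalk x) (N ⧸ LinearMap.range u)).toNat := by
  rw [show Cyc.ordAt x ξ h (rd ξ (spz h a)) = _ from CycPull.ordAt_eq_length hδ h hd ha,
    show Cyc.ordAt x ξ h (rd ξ (spz h b)) = _ from CycPull.ordAt_eq_length hδ h hd hb]
  have hinj : ∀ c : X.presheaf.stalk x, c ∉ genPrime h →
      Function.Injective (LinearMap.lsmul (X.presheaf.stalk x) N c) := fun c hc => by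
    refine (injective_iff_map_eq_zero _).2 fun n hn => ?_
    obtain ⟨q, rfl⟩ := e.surjective n
    obtain ⟨r, rfl⟩ := Submodule.mkQ_surjective _ q
    rw [LinearMap.lsmul_apply, ← e.map_smul, e.map_eq_zero_iff] at hn
    rw [e.map_eq_zero_iff]
    exact (Submodule.Quotient.mk_eq_zero _).2
      ((inferInstance : (genPrime h).IsPrime).mem_or_mem ((Submodule.Quotient.mk_eq_zero _).1 hn) |>.resolve_left hc)
  have hlen : ∀ c : X.presheaf.stalk x,
      Module.length (X.presheaf.stalk x) (N ⧸ LinearMap.range (LinearMap.lsmul (X.presheaf.stalk x) N c)) =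
      Module.length (X.presheaf.stalk x) (X.presheaf.stalk x ⧸ (genPrime h ⊔ Ideal.span {c})) := by
    intro c
    refine LinearEquiv.length_eq (R := X.presheaf.stalk x) ?_
    let π : X.presheaf.stalk x →ₗ[X.presheaf.stalk x] N := e.toLinearMap.comp (Submodule.mkQ _)
    let l := (Submodule.mkQ (LinearMap.range (LinearMap.lsmul (X.presheaf.stalk x) N c))).comp π
    have hl : LinearMap.ker l = genPrime h ⊔ Ideal.span {c} := by
      rw [LinearMap.ker_comp, Submodule.ker_mkQ]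
      ext r
      rw [Submodule.mem_comap, LinearMap.mem_range, Submodule.mem_sup]
      constructor
      · rintro ⟨n, hn⟩
        obtain ⟨t, rfl⟩ : ∃ t, π t = n := (e.surjective.comp (Submodule.mkQ_surjective _)) n
        rw [LinearMap.lsmul_apply, ← map_smul] at hn
        exact ⟨r - c • t, (Submodule.Quotient.eq _).1 (e.injective hn).symm, c • t,
          Ideal.mem_span_singleton'.2 ⟨t, mul_comm t c⟩, sub_add_cancel r (c • t)⟩
      · rintro ⟨p, hp, q, hq, rfl⟩
        obtain ⟨t, rfl⟩ := Ideal.mem_span_singleton'.1 hq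
        refine ⟨π t, ?_⟩
        rw [LinearMap.lsmul_apply, ← map_smul, map_add, show π p = 0 from
          (congrArg e ((Submodule.Quotient.mk_eq_zero _).2 hp)).trans (map_zero e), zero_add, smul_eq_mul, mul_comm]
    exact ((Submodule.quotEquivOfEq _ _ hl.symm).trans (LinearMap.quotKerEquivOfSurjective l
      ((Submodule.mkQ_surjective _).comp (e.surjective.comp (Submodule.mkQ_surjective _))))).symm
  have hmap : (LinearMap.range u).map (LinearMap.lsmul (X.presheaf.stalk x) N a) =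
      (LinearMap.range v).map (LinearMap.lsmul (X.presheaf.stalk x) N b) := by
    rw [← LinearMap.range_comp, ← LinearMap.range_comp]
    exact congrArg LinearMap.range (LinearMap.ext hab)
  have key := congrArg (fun S : Submodule (X.presheaf.stalk x) N => Module.length (X.presheaf.stalk x) (N ⧸ S)) hmap
  simp only [length_coker_comp _ _ (hinj a ha), length_coker_comp _ _ (hinj b hb), hlen] at key
  have h3 := (CycPull.length_sup_lt_top hδ h hd ha).ne
  have h4 := (CycPull.length_sup_lt_top hδ h hd hb).ne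
  have := congrArg ENat.toNat key
  rw [ENat.toNat_add hu h3, ENat.toNat_add hv h4] at this
  omega

/-! ### The twist inside the rational functions -/

variable {L : X.Modules}

lemma isIso_incl_generic (ξ : X) : IsIso ((St ξ).map (incl ξ)) := by
  have hepi : Epi ((St ξ).map (toRat ξ)) := (ModuleCat.epi_iff_surjective _).2 fun z => by
    obtain ⟨w, hw⟩ := IsLocalRing.residue_surjective (KFlat.skyEvalₗ ξ (kap ξ) z)
    obtain ⟨U, hU, r, rfl⟩ := X.presheaf.exists_germ_eq (x := ξ) w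
    refine ⟨pgerm (DCoh.toP.obj (Coh.structureModule X)) ξ U hU r, (KFlat.skyEval_bijective ξ (kap ξ)).1 ?_⟩
    refine Eq.trans ?_ hw
    refine (congrArg (KFlat.skyEvalₗ ξ (kap ξ)) (pstMap_germ (DCoh.toP.map (toRat ξ)) ξ hU r)).trans ?_
    exact KFlat.skyEval_germ ξ (kap ξ) U hU _
  haveI : Epi ((St ξ).map (incl ξ)) := by
    haveI := hepi
    have e : (St ξ).map (Abelian.factorThruImage (toRat ξ)) ≫ (St ξ).map (incl ξ) = (St ξ).map (toRat ξ) := by
      rw [← Functor.map_comp, Abelian.image.fac]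
    exact epi_of_epi_fac e
  exact isIso_of_mono_of_epi _

/-- What the embedding of the twist satisfies. -/
def TwistEmb (L : X.Modules) (ξ : X) (s : Cyc.secFibre L ξ) (τ : (twist L).obj (integers ξ) ⟶ ratSheaf ξ) : Prop :=
  ∀ (x : X) (h : ξ ⤳ x) (A : X.Opens) (e : Γ(L, A)) (he : TMul.IsGen e) (hx : x ∈ A) (φ : X.presheaf.stalk ξ),
    s = φ • (Submodule.Quotient.mk (mgerm L (h.mem_open A.2 hx) e) : Cyc.secFibre L ξ) →
    ∀ n, rd ξ φ * evR h (((St x).map τ).hom (theta he hx (integers ξ) n)) = evR h (((St x).map (incl ξ)).hom n)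

theorem exists_twistEmb (hL : PicF.IsInvertible L) {ξ : X} {s : Cyc.secFibre L ξ} (hs : s ≠ 0) :
    ∃ τ, TwistEmb L ξ s τ := by
  obtain ⟨A₀, e₀, hξ₀, he₀⟩ := TMul.exists_isGen hL ξ
  obtain ⟨φ₀, hφ₀⟩ := C1Cap.exists_coeff he₀ hξ₀ s
  let ev : (St ξ).obj (ratSheaf ξ) ⟶ kap ξ := ModuleCat.ofHom (KFlat.skyEvalₗ ξ (kap ξ))
  let m : kap ξ ⟶ kap ξ := ModuleCat.ofHom (LinearMap.mulLeft (X.presheaf.stalk ξ) (rd ξ φ₀)⁻¹)
  let ψ : (St ξ).obj ((twist L).obj (integers ξ)) ⟶ kap ξ :=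
    (theta he₀ hξ₀ (integers ξ)).symm.toModuleIso.hom ≫ (St ξ).map (incl ξ) ≫ ev ≫ m
  refine ⟨KFlat.toSky ξ ψ, fun x h A e he hx φ hs' n => ?_⟩
  have hξ := h.mem_open A.2 hx
  obtain ⟨c, hc⟩ := (RefDiv.bijective_germ_of_isGen he₀ hξ₀).2 (mgerm L hξ e)
  have hc' : mgerm L hξ e = c • mgerm L hξ₀ e₀ := hc.symm
  have hφ : rd ξ φ₀ = rd ξ φ * rd ξ c := by
    rw [← map_mul]
    refine C1Cap.rdu_unique he₀ hξ₀ ?_
    rw [← hφ₀, hs', hc', Submodule.Quotient.mk_smul, smul_smul]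
  refine (congrArg (fun q => rd ξ φ * q) (evR_toSky h ψ (theta he hx (integers ξ) n))).trans ?_
  show rd ξ φ * ψ.hom (msp ((twist L).obj (integers ξ)) h (theta he hx (integers ξ) n)) = _
  rw [msp_theta, theta_change he hξ he₀ hξ₀ hc', map_smul]
  show rd ξ φ * (c • (((rd ξ φ₀)⁻¹ * KFlat.skyEvalₗ ξ (kap ξ) (((St ξ).map (incl ξ)).hom
    ((theta he₀ hξ₀ (integers ξ)).symm (theta he₀ hξ₀ (integers ξ) (msp (integers ξ) h n))))) : Kap ξ)) = _
  rw [LinearEquiv.symm_apply_apply, kap_smul, ← msp_natural]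
  have h0 : rd ξ φ₀ ≠ 0 := C1Cap.rdu_ne_zero he₀ hξ₀ hs hφ₀
  show rd ξ φ * (rd ξ c * ((rd ξ φ₀)⁻¹ * evR h (((St x).map (incl ξ)).hom n))) = _
  rw [← mul_assoc, ← hφ, ← mul_assoc, mul_inv_cancel₀ h0, one_mul]

lemma isIso_twistEmb_generic (hL : PicF.IsInvertible L) {ξ : X} {s : Cyc.secFibre L ξ} (hs : s ≠ 0)
    {τ : (twist L).obj (integers ξ) ⟶ ratSheaf ξ} (hτ : TwistEmb L ξ s τ) : IsIso ((St ξ).map τ) := by
  obtain ⟨A, e, hξ, he⟩ := TMul.exists_isGen hL ξ
  obtain ⟨φ, hφ⟩ := C1Cap.exists_coeff he hξ s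
  have h0 : rd ξ φ ≠ 0 := C1Cap.rdu_ne_zero he hξ hs hφ
  haveI := isIso_incl_generic ξ
  have hb := ConcreteCategory.bijective_of_isIso ((St ξ).map (incl ξ))
  obtain ⟨w, hw⟩ := IsLocalRing.residue_surjective (rd ξ φ)
  refine (ConcreteCategory.isIso_iff_bijective _).2 ⟨fun z z' hz => ?_, fun z => ?_⟩
  · obtain ⟨n, rfl⟩ := (theta he hξ (integers ξ)).surjective z
    obtain ⟨n', rfl⟩ := (theta he hξ (integers ξ)).surjective z'
    refine congrArg _ (hb.1 (evR_injective specializes_rfl ?_))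
    exact ((hτ ξ specializes_rfl A e he hξ φ hφ n).symm.trans
      (congrArg (fun z => rd ξ φ * evR specializes_rfl z) hz)).trans (hτ ξ specializes_rfl A e he hξ φ hφ n')
  · obtain ⟨n, hn⟩ := hb.2 (φ • z)
    refine ⟨theta he hξ (integers ξ) n, evR_injective specializes_rfl (mul_left_cancel₀ h0 ?_)⟩
    refine (hτ ξ specializes_rfl A e he hξ φ hφ n).trans ((congrArg (evR specializes_rfl) hn).trans ?_)
    rw [evR_smul]
    refine congrArg (fun c => rd ξ c * _) ?_
    show (X.presheaf.stalkSpecializes (specializes_refl ξ)).hom φ = φ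
    rw [TopCat.Presheaf.stalkSpecializes_refl]
    rfl

lemma mono_twistEmb (hL : PicF.IsInvertible L) {ξ : X} {s : Cyc.secFibre L ξ} (hs : s ≠ 0)
    {τ : (twist L).obj (integers ξ) ⟶ ratSheaf ξ} (hτ : TwistEmb L ξ s τ) : Mono τ := by
  refine Preadditive.mono_of_isZero_kernel _ ((K0Dev.isZero_iff_stalks _).2 fun x => ?_)
  haveI : Mono ((St x).map τ) := by
    by_cases h : ξ ⤳ x
    · obtain ⟨A, e, hx, he⟩ := TMul.exists_isGen hL x
      obtain ⟨φ, hφ⟩ := C1Cap.exists_coeff he (h.mem_open A.2 hx) s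
      refine (ModuleCat.mono_iff_injective _).2 fun z z' hz => ?_
      obtain ⟨n, rfl⟩ := (theta he hx (integers ξ)).surjective z
      obtain ⟨n', rfl⟩ := (theta he hx (integers ξ)).surjective z'
      refine congrArg _ ((ModuleCat.mono_iff_injective ((St x).map (incl ξ))).1 inferInstance (evR_injective h ?_))
      exact ((hτ x h A e he hx φ hφ n).symm.trans
        (congrArg (fun z => rd ξ φ * evR h z) hz)).trans (hτ x h A e he hx φ hφ n')
    · exact mono_of_source_iso_zero _ ((isZero_integers_st h).of_iso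
        ((exists_twistStIso hL x).some.app (integers ξ))).isoZero
  exact IsZero.of_mono_eq_zero ((St x).map (kernel.ι τ)) ((cancel_mono ((St x).map τ)).1
    (by rw [← Functor.map_comp, kernel.condition, Functor.map_zero, zero_comp]))

/-! ### The local pieces -/

variable {δ : X → ℤ} {k : ℤ} [IsLocallyNoetherian X]

/-- The two cokernels comparing `integers ξ` with its twist. -/
theorem exists_piece' (hX : Cyc.IsSetup X δ) (hL : PicF.IsInvertible L) {ξ : X} (hξ : δ ξ = k + 1)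
    {s : Cyc.secFibre L ξ} (hs : s ≠ 0) :
    ∃ (M : X.Modules) (u : M ⟶ integers ξ) (v : M ⟶ (twist L).obj (integers ξ)), Mono u ∧ Mono v ∧
      (Coh.IsCoh M ∧ ∀ x, ¬ ξ ⤳ x → IsZero ((St x).obj M)) ∧
      (Cyc.CohLe δ k (cokernel u) ∧ Cyc.CohLe δ k (cokernel v)) ∧
      (∃ τ, TwistEmb L ξ s τ ∧ u ≫ incl ξ = v ≫ τ) ∧
      ∀ x, Cyc.secDivFun δ L ξ s x = Cyc.sheafFun δ k (cokernel v) x - Cyc.sheafFun δ k (cokernel u) x := by
  have hδ := hX.2.2
  obtain ⟨τ, hτ⟩ := exists_twistEmb hL hs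
  haveI := mono_twistEmb hL hs hτ
  haveI := isIso_twistEmb_generic hL hs hτ
  haveI := isIso_incl_generic ξ
  let N' := (twist L).obj (integers ξ)
  have hN : Cyc.CohLe δ (k + 1) (integers ξ) := (cohLe_iff δ _).2 ⟨isCoh_integers ξ, fun x hx =>
    isZero_integers_st fun h => by
      by_cases he : ξ = x
      · rw [he] at hξ; omega
      · have := (hδ _ _ h he).1; omega⟩
  have hN' : Cyc.CohLe δ (k + 1) N' := cohLe_twist hL hN
  haveI := hN.1.1
  haveI := hN'.1.1
  let M := pullback (incl ξ) τ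
  let u : M ⟶ integers ξ := pullback.fst _ _
  let v : M ⟶ N' := pullback.snd _ _
  have hM : Coh.IsCoh M := by
    let κ : M ⟶ kernel (biprod.desc (incl ξ) (-τ)) :=
      kernel.lift _ (biprod.lift u v) (by
        rw [biprod.lift_desc, Preadditive.comp_neg, add_neg_eq_zero]; exact pullback.condition)
    haveI : IsIso κ := by
      let κ' : kernel (biprod.desc (incl ξ) (-τ)) ⟶ M :=
        pullback.lift (kernel.ι _ ≫ biprod.fst) (kernel.ι _ ≫ biprod.snd) (by
          have h := kernel.condition (biprod.desc (incl ξ) (-τ))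
          have hd : biprod.desc (incl ξ) (-τ) = biprod.fst ≫ incl ξ - biprod.snd ≫ τ := by
            rw [biprod.desc_eq, Preadditive.comp_neg, sub_eq_add_neg]
          replace h := (congrArg (fun φ => kernel.ι (biprod.desc (incl ξ) (-τ)) ≫ φ) hd).symm.trans h
          rw [Preadditive.comp_sub, sub_eq_zero] at h
          simpa only [Category.assoc] using h)
      refine ⟨κ', pullback.hom_ext (by simp [κ, κ', u, v]) (by simp [κ, κ', u, v]), ?_⟩
      refine (cancel_mono (kernel.ι _)).1 (biprod.hom_ext _ _ (by simp [κ, κ', u, v]) (by simp [κ, κ', u, v]))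
    exact K0Coh.isCoh_of_iso (asIso κ).symm
      (QC.isCoh_kernel (W7Exist.isCoh_biprod hN.1 hN'.1) (isQCoh_ratSheaf ξ) _)
  have hP : IsPullback ((St ξ).map u) ((St ξ).map v) ((St ξ).map (incl ξ)) ((St ξ).map τ) :=
    (IsPullback.of_hasPullback _ _).map (St ξ)
  haveI : IsIso ((St ξ).map u) := hP.isIso_fst_of_isIso
  haveI : IsIso ((St ξ).map v) := hP.isIso_snd_of_isIso
  have small : ∀ {B : X.Modules} (φ : M ⟶ B), Cyc.CohLe δ (k + 1) B → IsIso ((St ξ).map φ) →
      (∀ x, ¬ ξ ⤳ x → IsZero ((St x).obj B)) → Cyc.CohLe δ k (cokernel φ) := fun φ hB hi hz =>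
    (cohLe_iff δ k).2 ⟨QC.isCoh_cokernel hM.1 hB.1 _, fun x hx => by
      by_cases hsp : ξ ⤳ x
      · by_cases he : ξ = x
        · subst he
          exact IsZero.of_epi_eq_zero ((St ξ).map (cokernel.π φ)) ((cancel_epi ((St ξ).map φ)).1
            (by rw [← Functor.map_comp, cokernel.condition, Functor.map_zero, comp_zero]))
        · have := (hδ _ _ hsp he).1; omega
      · exact IsZero.of_epi ((St x).map (cokernel.π φ)) (hz x hsp)⟩
  have hzN' : ∀ x, ¬ ξ ⤳ x → IsZero ((St x).obj N') := fun x h =>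
    (isZero_integers_st h).of_iso ((exists_twistStIso hL x).some.app (integers ξ))
  have hcu := small u hN inferInstance fun x h => isZero_integers_st h
  have hcv := small v hN' inferInstance hzN'
  refine ⟨M, u, v, inferInstance, inferInstance,
    ⟨hM, fun x h => IsZero.of_mono ((St x).map u) (isZero_integers_st h)⟩, ⟨hcu, hcv⟩,
    ⟨τ, hτ, pullback.condition⟩, fun x => ?_⟩
  by_cases hx : δ x = k
  swap
  · simp only [Cyc.secDivFun, Cyc.sheafFun, if_neg hx, sub_self]
    exact dif_neg fun h => hx (by omega)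
  simp only [Cyc.sheafFun, if_pos hx]
  by_cases h : ξ ⤳ x
  swap
  · haveI h1 : Subsingleton ((cokernel u).presheaf.stalk x) := ModuleCat.subsingleton_of_isZero
      (IsZero.of_epi ((St x).map (cokernel.π u)) (isZero_integers_st h))
    haveI h2 : Subsingleton ((cokernel v).presheaf.stalk x) := ModuleCat.subsingleton_of_isZero
      (IsZero.of_epi ((St x).map (cokernel.π v)) (hzN' x h))
    rw [Cyc.secDivFun, dif_neg fun hh => h hh.1, (Module.length_eq_zero_iff (R := X.presheaf.stalk x)).2 h1,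
      (Module.length_eq_zero_iff (R := X.presheaf.stalk x)).2 h2, sub_self]
  rw [Cyc.secDivFun, dif_pos ⟨h, by omega⟩]
  obtain ⟨A, e, hxA, he⟩ := TMul.exists_isGen hL x
  obtain ⟨φ, hφ⟩ := C1Cap.exists_coeff he (h.mem_open A.2 hxA) s
  rw [C1Cap.secOrdAt_eq he h hxA hφ]
  have hφ0 : rd ξ φ ≠ 0 := C1Cap.rdu_ne_zero he (h.mem_open A.2 hxA) hs hφ
  letI := (spz h).toAlgebra
  haveI := CycDim.isLocalization_genPrime h
  obtain ⟨⟨a, b⟩, hab⟩ := IsLocalization.surj (genPrime h).primeCompl φ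
  have hb : b.1 ∉ genPrime h := b.2
  have hab' : rd ξ φ * rd ξ (spz h b.1) = rd ξ (spz h a) := by
    rw [← map_mul]; exact congrArg (rd ξ) hab
  have hb0 : rd ξ (spz h b.1) ≠ 0 := fun h0 => hb ((rd_eq_zero_iff h b.1).1 h0)
  have ha : a ∉ genPrime h := fun ha => by
    rw [(rd_eq_zero_iff h a).2 ha] at hab'
    exact (mul_ne_zero hφ0 hb0) hab'
  have hord : Cyc.ordAt x ξ h (C1Cap.rdu ξ φ) = Cyc.ordAt x ξ h (rd ξ (spz h a)) - Cyc.ordAt x ξ h (rd ξ (spz h b.1)) := by
    rw [← hab']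
    have := C1Cap.ordAt_mul h (f := rd ξ φ) (g := rd ξ (spz h b.1)) hφ0 hb0
    exact eq_sub_of_add_eq this.symm
  rw [hord]
  obtain ⟨q⟩ := exists_quot_equiv h
  let θ := theta he hxA (integers ξ)
  let ul : M.presheaf.stalk x →ₗ[X.presheaf.stalk x] (integers ξ).presheaf.stalk x := ((St x).map u).hom
  let vl : M.presheaf.stalk x →ₗ[X.presheaf.stalk x] N'.presheaf.stalk x := ((St x).map v).hom
  let w := θ.symm.toLinearMap ∘ₗ vl
  have key : ∀ m, a • ul m = b.1 • w m := fun m => by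
    refine (ModuleCat.mono_iff_injective ((St x).map (incl ξ))).1 inferInstance (evR_injective h ?_)
    rw [map_smul, map_smul, evR_smul, evR_smul]
    have h1 := hτ x h A e he hxA φ hφ (w m)
    rw [show theta he hxA (integers ξ) (w m) = vl m from θ.apply_symm_apply _] at h1
    have h2 : ((St x).map τ).hom (vl m) = ((St x).map (incl ξ)).hom (ul m) := by
      have hc : (St x).map v ≫ (St x).map τ = (St x).map u ≫ (St x).map (incl ξ) := by
        rw [← Functor.map_comp, ← Functor.map_comp]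
        exact congrArg (St x).map pullback.condition.symm
      exact LinearMap.congr_fun (congrArg ModuleCat.Hom.hom hc) m
    rw [h2] at h1
    rw [← h1, ← hab']
    ring
  have eu : Module.length (X.presheaf.stalk x) ((cokernel u).presheaf.stalk x) =
      Module.length (X.presheaf.stalk x) ((integers ξ).presheaf.stalk x ⧸ LinearMap.range ul) := length_coker_st u x
  have ev : Module.length (X.presheaf.stalk x) ((cokernel v).presheaf.stalk x) =
      Module.length (X.presheaf.stalk x) ((integers ξ).presheaf.stalk x ⧸ LinearMap.range w) := by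
    rw [length_coker_st]
    exact (Submodule.Quotient.equiv (LinearMap.range vl) (LinearMap.range w) θ.symm
      (by rw [LinearMap.range_comp])).length_eq
  rw [eu, ev]
  exact ord_eq_length_diff hδ h (by omega) q ul w ha hb key (eu ▸ length_ne_top hδ hcu hx)
    (ev ▸ length_ne_top hδ hcv hx)

/-- The two cokernels comparing `integers ξ` with its twist. -/
theorem exists_piece (hX : Cyc.IsSetup X δ) (hL : PicF.IsInvertible L) {ξ : X} (hξ : δ ξ = k + 1)
    {s : Cyc.secFibre L ξ} (hs : s ≠ 0) :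
    ∃ (M : X.Modules) (u : M ⟶ integers ξ) (v : M ⟶ (twist L).obj (integers ξ)), Mono u ∧ Mono v ∧
      (Coh.IsCoh M ∧ ∀ x, ¬ ξ ⤳ x → IsZero ((St x).obj M)) ∧
      (Cyc.CohLe δ k (cokernel u) ∧ Cyc.CohLe δ k (cokernel v)) ∧
      ∀ x, Cyc.secDivFun δ L ξ s x = Cyc.sheafFun δ k (cokernel v) x - Cyc.sheafFun δ k (cokernel u) x := by
  obtain ⟨M, u, v, hu, hv, hM, hc, -, h⟩ := exists_piece' hX hL hξ hs
  exact ⟨M, u, v, hu, hv, hM, hc, h⟩

/-! ### The class -/

lemma q_twist_of_le (hX : Cyc.IsSetup X δ) (hL : PicF.IsInvertible L) {G : X.Modules} (hG : Cyc.CohLe δ k G) :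
    Cyc.toK0CohQuot δ (k + 1) (k - 1) ((twist L).obj G) = Cyc.toK0CohQuot δ (k + 1) (k - 1) G := by
  refine q_raise (cohLe_twist hL hG) hG ?_
  rw [(q_eq_cycle hX (cohLe_twist hL hG)).1, (q_eq_cycle hX hG).1, sheafFun_twist hL]

/-- The twist difference only depends on the class modulo `≤ k`. -/
theorem twist_diff_congr (hX : Cyc.IsSetup X δ) (hL : PicF.IsInvertible L) {F G : X.Modules}
    (hF : Cyc.CohLe δ (k + 1) F) (hG : Cyc.CohLe δ (k + 1) G)
    (h : Cyc.toK0CohQuot δ (k + 1) k F = Cyc.toK0CohQuot δ (k + 1) k G) :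
    Cyc.toK0CohQuot δ (k + 1) (k - 1) ((twist L).obj F) - Cyc.toK0CohQuot δ (k + 1) (k - 1) F =
      Cyc.toK0CohQuot δ (k + 1) (k - 1) ((twist L).obj G) - Cyc.toK0CohQuot δ (k + 1) (k - 1) G := by
  let D : X.Modules → Cyc.K0CohQuot δ (k + 1) (k - 1) := fun F =>
    Cyc.toK0CohQuot δ (k + 1) (k - 1) ((twist L).obj F) - Cyc.toK0CohQuot δ (k + 1) (k - 1) F
  let g : KZero.K0sub (Cyc.CohLe δ (k + 1)) →+ Cyc.K0CohQuot δ (k + 1) (k - 1) := QuotientAddGroup.lift _
    (FreeAbelianGroup.lift fun G : Subtype (Cyc.CohLe δ (k + 1)) => D G.1) ((AddSubgroup.closure_le _).2 (by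
      rintro _ ⟨S, h₁, h₂, h₃, hS, rfl⟩
      rw [SetLike.mem_coe, AddMonoidHom.mem_ker, map_sub, map_sub, FreeAbelianGroup.lift_apply_of,
        FreeAbelianGroup.lift_apply_of, FreeAbelianGroup.lift_apply_of]
      simp only [D]
      rw [show Cyc.toK0CohQuot δ (k + 1) (k - 1) ((twist L).obj S.X₂) = _ from
        q_add (twist_shortExact hL hS) (cohLe_twist hL h₁) (cohLe_twist hL h₂) (cohLe_twist hL h₃) (k - 1),
        q_add hS h₁ h₂ h₃ (k - 1)]
      simp only [ShortComplex.map_X₁, ShortComplex.map_X₃]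
      abel))
  have hg : ∀ G, Cyc.CohLe δ (k + 1) G → g (KZero.clSub (Cyc.CohLe δ (k + 1)) G) = D G := fun G hG => by
    rw [KZero.clSub, dif_pos hG]
    exact FreeAbelianGroup.lift_apply_of _ _
  let g' : Cyc.K0CohQuot δ (k + 1) k →+ Cyc.K0CohQuot δ (k + 1) (k - 1) := QuotientAddGroup.lift _ g
    ((AddSubgroup.closure_le _).2 (by
      rintro _ ⟨F, hF, rfl⟩
      rw [SetLike.mem_coe, AddMonoidHom.mem_ker, hg F (cohLe_succ hF)]
      exact sub_eq_zero.2 (q_twist_of_le hX hL hF)))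
  exact ((hg F hF).symm.trans (congrArg g' h : g (KZero.clSub (Cyc.CohLe δ (k + 1)) F) = g (KZero.clSub (Cyc.CohLe δ (k + 1)) G))).trans (hg G hG)

lemma sheafFun_integers {ξ : X} (hξ : δ ξ = k + 1) : Cyc.sheafFun δ (k + 1) (integers ξ) ξ = 1 := by
  obtain ⟨e⟩ := exists_quot_equiv (specializes_refl ξ)
  haveI : IsSimpleModule (X.presheaf.stalk ξ) (X.presheaf.stalk ξ ⧸ genPrime (specializes_refl ξ)) := by
    rw [CycDim.genPrime_rfl]
    exact isSimpleModule_iff_isCoatom.2 (IsLocalRing.maximalIdeal.isMaximal _).out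
  rw [Cyc.sheafFun, if_pos hξ, ← e.length_eq, Module.length_eq_one]
  rfl

set_option maxHeartbeats 1000000 in
/-- `[F ⊗ L] - [F] = c₁(L) ∩ [F]`. -/
theorem q_twist_sub (hX : Cyc.IsSetup X δ) (hL : PicF.IsInvertible L) {F : X.Modules}
    (hF : Cyc.CohLe δ (k + 1) F) (s : (ξ : X) → Cyc.secFibre L ξ) (hs : ∀ ξ, s ξ ≠ 0)
    (γ : AlgebraicCycle X ℤ) (hγk : γ ∈ Cyc.Zk X δ k)
    (hγ : ⇑γ = Cyc.c1CapFun δ L (Cyc.sheafFun δ (k + 1) F) s) :
    Cyc.toK0CohQuot δ (k + 1) (k - 1) ((twist L).obj F) - Cyc.toK0CohQuot δ (k + 1) (k - 1) F =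
      Cyc.toK0CohQuot δ (k + 1) (k - 1) (Cyc.cycleSheafPos ⇑γ) -
        Cyc.toK0CohQuot δ (k + 1) (k - 1) (Cyc.cycleSheafNeg ⇑γ) := by
  classical
  have hδ := hX.2.2
  let α := Cyc.sheafFun δ (k + 1) F
  let ι := Idx α
  let ξ : ι → X := fun a => a.1.1
  have hξ : ∀ a, δ (ξ a) = k + 1 := fun a => by
    by_contra h
    exact (ne_of_gt a.1.2) (if_neg h)
  have hα0 : ∀ x, 0 ≤ α x := fun x => by
    show 0 ≤ Cyc.sheafFun δ (k + 1) F x
    unfold Cyc.sheafFun
    split
    · exact Int.natCast_nonneg _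
    · exact le_rfl
  have hfinU : ∀ {U : X.Opens}, IsAffineOpen U → {x : X | x ∈ U ∧ α x ≠ 0}.Finite := fun hU =>
    finite_sheafFun hδ hF hU
  have hpt : ∀ x : X, {a : ι | ξ a ⤳ x}.Finite := fun x => by
    obtain ⟨U, hU, hxU, -⟩ := exists_isAffineOpen_mem_and_subset (x := x) (U := (⊤ : X.Opens)) trivial
    exact (finite_idx (hfinU hU)).subset fun a ha => ha.mem_open U.2 hxU
  have coh : ∀ (d : ℤ) (C : ι → X.Modules), (∀ i, Coh.IsCoh (C i)) → (∀ i x, ¬ ξ i ⤳ x → IsZero ((St x).obj (C i))) →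
      (∀ i x, d < δ x → IsZero ((St x).obj (C i))) → Cyc.CohLe δ d (∐ C) := fun d C hC hz hd => by
    refine (cohLe_iff δ d).2 ⟨isCoh_sigma C hC fun V => ⟨(finite_idx (hfinU V.2)).toFinset, fun i hi x hx => hz i x fun hsp =>
      hi ((finite_idx (hfinU V.2)).mem_toFinset.2 (hsp.mem_open V.1.2 hx))⟩,
      fun x hx => isZero_st_sigma C x fun i => hd i x hx⟩
  have hd1 : ∀ i x, k + 1 < δ x → ¬ ξ i ⤳ x := fun i x hx hsp => by
    by_cases he : ξ i = x
    · have := hξ i; rw [he] at this; omega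
    · have := (hδ _ _ hsp he).1; have := hξ i; omega
  choose M u v hu hv hM hc hdiv using fun a : ι => exists_piece hX hL (hξ a) (hs (ξ a))
  let N := fun a : ι => integers (ξ a)
  let N' := fun a : ι => (twist L).obj (integers (ξ a))
  have hzN' : ∀ a x, ¬ ξ a ⤳ x → IsZero ((St x).obj (N' a)) := fun a x h =>
    (isZero_integers_st h).of_iso ((exists_twistStIso hL x).some.app (integers (ξ a)))
  have hNa : ∀ a, Cyc.CohLe δ (k + 1) (N a) := fun a => (cohLe_iff δ _).2
    ⟨isCoh_integers _, fun x hx => isZero_integers_st (hd1 a x hx)⟩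
  have hSM : Cyc.CohLe δ (k + 1) (∐ M) := coh _ M (fun a => (hM a).1) (fun a => (hM a).2)
    fun a x hx => (hM a).2 x (hd1 a x hx)
  have hSN : Cyc.CohLe δ (k + 1) (∐ N) := coh _ N (fun a => (hNa a).1) (fun a x => isZero_integers_st)
    fun a x hx => isZero_integers_st (hd1 a x hx)
  have hSN' : Cyc.CohLe δ (k + 1) (∐ N') := coh _ N' (fun a => (cohLe_twist hL (hNa a)).1) hzN'
    fun a x hx => hzN' a x (hd1 a x hx)
  have hzu : ∀ a x, ¬ ξ a ⤳ x → IsZero ((St x).obj (cokernel (u a))) := fun a x h =>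
    IsZero.of_epi ((St x).map (cokernel.π (u a))) (isZero_integers_st h)
  have hzv : ∀ a x, ¬ ξ a ⤳ x → IsZero ((St x).obj (cokernel (v a))) := fun a x h =>
    IsZero.of_epi ((St x).map (cokernel.π (v a))) (hzN' a x h)
  have hU : Cyc.CohLe δ k (∐ fun a => cokernel (u a)) := coh _ _ (fun a => (hc a).1.1) hzu
    fun a x hx => ((cohLe_iff δ k).1 (hc a).1).2 x hx
  have hV : Cyc.CohLe δ k (∐ fun a => cokernel (v a)) := coh _ _ (fun a => (hc a).2.1) hzv
    fun a x hx => ((cohLe_iff δ k).1 (hc a).2).2 x hx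
  -- the generators
  have hgen : Cyc.sheafFun δ (k + 1) (∐ N) = α := funext fun x => by
    by_cases hx : δ x = k + 1
    swap
    · simp [α, Cyc.sheafFun, hx]
    have hf : {a : ι | ξ a = x}.Finite := (hpt x).subset fun a (ha : ξ a = x) => ha ▸ specializes_rfl
    have hz : ∀ a, a ∉ hf.toFinset → IsZero ((St x).obj (N a)) := fun a ha => isZero_integers_st fun hsp =>
      ha (hf.mem_toFinset.2 (CycDim.eq_of_delta_le hδ hsp (by rw [hξ a, hx])))
    rw [sheafFun_sigma hδ N hNa x hf.toFinset hz, Finset.sum_congr rfl fun a ha => show _ = (1 : ℤ) by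
      obtain rfl : ξ a = x := hf.mem_toFinset.1 ha
      exact sheafFun_integers (hξ a)]
    simp only [Finset.sum_const, nsmul_one]
    by_cases hα : 0 < α x
    · have hcard : hf.toFinset = (Finset.univ : Finset (Fin (α x).toNat)).image fun n => (⟨⟨x, hα⟩, n⟩ : ι) := by
        ext a
        rw [Set.Finite.mem_toFinset, Finset.mem_image]
        constructor
        · intro h
          obtain ⟨⟨ζ, hζ⟩, n⟩ := a
          obtain rfl : ζ = x := h
          exact ⟨n, Finset.mem_univ _, rfl⟩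
        · rintro ⟨n, -, rfl⟩; rfl
      rw [hcard, Finset.card_image_of_injective _ fun n n' h => eq_of_heq (Sigma.mk.inj h).2, Finset.card_univ, Fintype.card_fin]
      exact Int.toNat_of_nonneg hα.le
    · have hcard : hf.toFinset = ∅ := Finset.eq_empty_of_forall_notMem fun a ha => by
        have := a.1.2
        rw [show (a.1.1 : X) = x from hf.mem_toFinset.1 ha] at this
        exact hα this
      rw [hcard, Finset.card_empty]
      have := hα0 x
      omega
  have hclass : Cyc.toK0CohQuot δ (k + 1) k F = Cyc.toK0CohQuot δ (k + 1) k (∐ N) := by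
    have h1 := (q_eq_cycle (k := k + 1) hX hF).1
    have h2 := (q_eq_cycle (k := k + 1) hX hSN).1
    rw [add_sub_cancel_right] at h1 h2
    rw [h1, h2, hgen]
  rw [twist_diff_congr hX hL hF hSN hclass]
  obtain ⟨σ⟩ := nonempty_twist_sigma hL N
  rw [show Cyc.toK0CohQuot δ (k + 1) (k - 1) ((twist L).obj (∐ N)) = Cyc.toK0CohQuot δ (k + 1) (k - 1) (∐ N') from
    congrArg QuotientAddGroup.mk (K0Dev.cl_iso (fun _ _ e h => cohLe_of_iso e h) (fun _ h => cohLe_of_isZero h) σ).symm,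
    q_sigma v hv (k - 1) hSM hSN' (cohLe_succ hV), q_sigma u hu (k - 1) hSM hSN (cohLe_succ hU)]
  -- the cycle
  have hcyc : ∀ x, γ x = Cyc.sheafFun δ k (∐ fun a => cokernel (v a)) x -
      Cyc.sheafFun δ k (∐ fun a => cokernel (u a)) x := fun x => by
    have hz : ∀ i, i ∉ (hpt x).toFinset → ¬ ξ i ⤳ x := fun i hi h => hi ((hpt x).mem_toFinset.2 h)
    rw [sheafFun_sigma hδ _ (fun a => (hc a).2) x (hpt x).toFinset fun a ha => hzv a x (hz a ha),
      sheafFun_sigma hδ _ (fun a => (hc a).1) x (hpt x).toFinset fun a ha => hzu a x (hz a ha),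
      ← Finset.sum_sub_distrib, Finset.sum_congr rfl fun a _ => (hdiv a x).symm, hγ]
    show (∑ᶠ η : X, α η * Cyc.secDivFun δ L η (s η) x) = _
    rw [← Finset.sum_fiberwise_of_maps_to (g := ξ) (t := (hpt x).toFinset.image ξ) fun a ha => Finset.mem_image_of_mem _ ha,
      finsum_eq_sum_of_support_subset _ (s := (hpt x).toFinset.image ξ) fun η hη => ?_]
    · refine Finset.sum_congr rfl fun η hη => ?_
      obtain ⟨a₀, ha₀, rfl⟩ := Finset.mem_image.1 hη
      rw [Finset.sum_congr rfl fun a ha => show Cyc.secDivFun δ L (ξ a) (s (ξ a)) x =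
        Cyc.secDivFun δ L (ξ a₀) (s (ξ a₀)) x by rw [(Finset.mem_filter.1 ha).2], Finset.sum_const, nsmul_eq_mul]
      refine congrArg (· * _) ?_
      have hcard : (hpt x).toFinset.filter (fun a => ξ a = ξ a₀) =
          (Finset.univ : Finset (Fin (α (ξ a₀)).toNat)).image fun n => (⟨⟨ξ a₀, a₀.1.2⟩, n⟩ : ι) := by
        ext a
        rw [Finset.mem_filter, Finset.mem_image]
        constructor
        · rintro ⟨-, h⟩
          obtain ⟨⟨ζ, hζ⟩, n⟩ := a
          obtain rfl : ζ = ξ a₀ := h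
          exact ⟨n, Finset.mem_univ _, rfl⟩
        · rintro ⟨n, -, rfl⟩
          exact ⟨(hpt x).mem_toFinset.2 ((hpt x).mem_toFinset.1 ha₀ : ξ a₀ ⤳ x), rfl⟩
      rw [hcard, Finset.card_image_of_injective _ fun n n' h => eq_of_heq (Sigma.mk.inj h).2, Finset.card_univ, Fintype.card_fin]
      exact (Int.toNat_of_nonneg (hα0 _)).symm
    · have hη1 : 0 < α η := lt_of_le_of_ne (hα0 η) fun e => hη (by simp [← e])
      have hη2 : ξ (⟨⟨η, hη1⟩, ⟨0, show 0 < (α η).toNat by omega⟩⟩ : ι) ⤳ x := by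
        by_contra hne
        refine hη ?_
        show α η * Cyc.secDivFun δ L η (s η) x = 0
        rw [Cyc.secDivFun, dif_neg fun h : η ⤳ x ∧ _ => hne h.1, mul_zero]
      exact Finset.mem_coe.2 (Finset.mem_image.2 ⟨_, (hpt x).mem_toFinset.2 hη2, rfl⟩)
  have hne : ∀ x, γ x ≠ 0 → δ x = k := fun x hx => by_contra fun h => hx (hγk x h)
  have hne' : ∀ x, (-⇑γ) x ≠ 0 → δ x = k := fun x hx => hne x fun h => hx (by simp [h])
  have hfin : ∀ {U : X.Opens}, IsAffineOpen U → {x : X | x ∈ U ∧ γ x ≠ 0}.Finite := fun hUa =>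
    ((finite_sheafFun hδ hV hUa).union (finite_sheafFun hδ hU hUa)).subset fun x hx => by
      by_cases h : Cyc.sheafFun δ k (∐ fun a => cokernel (v a)) x = 0
      · exact Or.inr ⟨hx.1, fun h' => hx.2 (by rw [hcyc, h, h', sub_zero])⟩
      · exact Or.inl ⟨hx.1, h⟩
  have hP := cohLe_cycleSheafPos (k := k) hδ hfin fun x hx => (hne x hx).le
  have hQ : Cyc.CohLe δ k (Cyc.cycleSheafPos (-⇑γ)) := cohLe_cycleSheafPos hδ
    (fun hUa => (hfin hUa).subset fun x hx => ⟨hx.1, fun h => hx.2 (by simp [h])⟩) fun x hx => (hne' x hx).le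
  have heq : Cyc.sheafFun δ k (Cyc.cycleSheafPos ⇑γ ⊞ ∐ fun a => cokernel (u a)) =
      Cyc.sheafFun δ k (Cyc.cycleSheafPos (-⇑γ) ⊞ ∐ fun a => cokernel (v a)) := by
    rw [sheafFun_biprod hX hP hU, sheafFun_biprod hX hQ hV]
    funext x
    rw [Pi.add_apply, Pi.add_apply, sheafFun_cycleSheafPos hδ hne, sheafFun_cycleSheafPos hδ hne', Pi.neg_apply]
    have := hcyc x
    omega
  have hq := q_raise (cohLe_biprod hP hU) (cohLe_biprod hQ hV) (by
    rw [(q_eq_cycle hX (cohLe_biprod hP hU)).1, (q_eq_cycle hX (cohLe_biprod hQ hV)).1, heq])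
  rw [q_biprod (cohLe_succ hP) (cohLe_succ hU), q_biprod (cohLe_succ hQ) (cohLe_succ hV)] at hq
  rw [add_sub_add_left_eq_sub, Cyc.cycleSheafNeg, sub_eq_sub_iff_add_eq_add, hq]
  exact add_comm _ _

end Groth.Agent.CycK0
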