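import Groth.Agent.CycK0.Lattice

/-!
Change of frame: the index changes by a sum of principal divisors.
-/

set_option autoImplicit false
set_option linter.unusedSectionVars false
set_option linter.style.haveILetI false
set_option backward.isDefEq.respectTransparency false

universe u

open CategoryTheory CategoryTheory.Limits AlgebraicGeometry TopologicalSpace
open Groth.Agent.K0Dev (St)
open Groth.Agent.CDivNormal (genPrime)
open Groth.Agent.RefStalk (msp)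
open Groth.Agent.CycDim (spz)

noncomputable section

namespace Groth.Agent.CycK0

variable {X : Scheme.{u}} {δ : X → ℤ} {k : ℤ}

/-- The order of an element of the residue field at a specialisation. -/
abbrev ordK {ξ x : X} (h : ξ ⤳ x) (f : Kap ξ) : ℤ := Cyc.ordAt x ξ h f

lemma ordK_mul {ξ x : X} (h : ξ ⤳ x) {f g : Kap ξ} (hf : f ≠ 0) (hg : g ≠ 0) :
    ordK h (f * g) = ordK h f + ordK h g := C1Cap.ordAt_mul h hf hg

lemma ordK_one {ξ x : X} (h : ξ ⤳ x) : ordK h (1 : Kap ξ) = 0 := C1Cap.ordAt_one h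

variable [IsLocallyNoetherian X]

lemma ordK_toKap (hδ : Cyc.IsDimFun X δ) {ξ x : X} (h : ξ ⤳ x) (hd : δ ξ ≤ δ x + 1) {a : X.presheaf.stalk x}
    (ha : a ∉ genPrime h) : ordK h (toKap h (Ideal.Quotient.mk _ a)) =
      ((Module.length (X.presheaf.stalk x) (X.presheaf.stalk x ⧸ (genPrime h ⊔ Ideal.span {a}))).toNat : ℤ) :=
  CycPull.ordAt_eq_length hδ h hd ha

lemma krullDimLE_quot (hδ : Cyc.IsDimFun X δ) {ξ x : X} (h : ξ ⤳ x) (hd : δ ξ ≤ δ x + 1) :
    Ring.KrullDimLE 1 (X.presheaf.stalk x ⧸ genPrime h) := by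
  have hker : RingHom.ker (Cyc.specMap x ξ h) = genPrime h :=
    Ideal.ext fun b => (CycDim.mem_genPrime_iff h b).symm
  haveI := CycPull.krullDimLE_locQuot hδ h hd
  refine Ring.krullDimLE_iff.2 ?_
  rw [ringKrullDim_eq_of_ringEquiv (Ideal.quotEquivOfEq hker.symm)]
  exact Ring.krullDimLE_iff.1 inferInstance

/-- The length of the cokernel of a matrix on a branch. -/
lemma length_coker_branch (hδ : Cyc.IsDimFun X δ) {ξ x : X} (h : ξ ⤳ x) (hd : δ ξ ≤ δ x + 1) {n : ℕ}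
    (P : Matrix (Fin n) (Fin n) (X.presheaf.stalk x ⧸ genPrime h)) (hP : P.det ≠ 0) :
    Module.length (X.presheaf.stalk x)
        ((Fin n → X.presheaf.stalk x ⧸ genPrime h) ⧸ LinearMap.range P.mulVecLin) < ⊤ ∧
      ((Module.length (X.presheaf.stalk x)
        ((Fin n → X.presheaf.stalk x ⧸ genPrime h) ⧸ LinearMap.range P.mulVecLin)).toNat : ℤ) =
        ordK h (toKap h P.det) := by
  haveI := krullDimLE_quot hδ h hd
  obtain ⟨a, ha⟩ := Ideal.Quotient.mk_surjective P.det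
  have ha' : a ∉ genPrime h := fun h0 => hP (ha ▸ Ideal.Quotient.eq_zero_iff_mem.2 h0)
  have hlen : Module.length (X.presheaf.stalk x)
      ((Fin n → X.presheaf.stalk x ⧸ genPrime h) ⧸ LinearMap.range P.mulVecLin) =
      Module.length (X.presheaf.stalk x) (X.presheaf.stalk x ⧸ (genPrime h ⊔ Ideal.span {a})) := by
    rw [Module.length_eq_of_surjective (R := X.presheaf.stalk x ⧸ genPrime h)
      (M := (Fin n → X.presheaf.stalk x ⧸ genPrime h) ⧸ LinearMap.range P.mulVecLin) (S := X.presheaf.stalk x)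
      Ideal.Quotient.mk_surjective, CycNorm.length_coker_eq_ord_det hP, Ring.ord,
      ← Module.length_eq_of_surjective (R := X.presheaf.stalk x ⧸ genPrime h)
      (M := (X.presheaf.stalk x ⧸ genPrime h) ⧸ Ideal.span {P.det}) (S := X.presheaf.stalk x)
      Ideal.Quotient.mk_surjective]
    have hmap : Ideal.span {P.det} = (Ideal.span {a}).map (Ideal.Quotient.mk (genPrime h)) := by
      rw [Ideal.map_span, Set.image_singleton, ha]
    rw [hmap]
    exact (DoubleQuot.quotQuotEquivQuotSupₐ (X.presheaf.stalk x) (genPrime h) (Ideal.span {a})).toLinearEquiv.length_eq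
  rw [hlen]
  refine ⟨CycPull.length_sup_lt_top hδ h hd ha', ?_⟩
  rw [← ha, ordK_toKap hδ h hd ha']

variable {G : X.Modules} {x : X}

/-- Matrices on all branches. -/
abbrev Blocks (δ : X → ℤ) (k : ℤ) (G : X.Modules) (x : X) : Type u :=
  ∀ ξ : {ξ : TopPt δ k // ξ.1 ⤳ x},
    Matrix (Fin (rk G ξ.1.1)) (Fin (rk G ξ.1.1)) (X.presheaf.stalk x ⧸ genPrime ξ.2)

/-- The coordinates on one branch. -/
def prB (ξ : {ξ : TopPt δ k // ξ.1 ⤳ x}) :
    Lat δ k G x →ₗ[X.presheaf.stalk x] (Fin (rk G ξ.1.1) → X.presheaf.stalk x ⧸ genPrime ξ.2) :=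
  LinearMap.pi fun l => LinearMap.proj (⟨ξ, l⟩ : Cmp δ k G x)

/-- The block diagonal endomorphism of the standard lattice. -/
def blk (P : Blocks δ k G x) : Lat δ k G x →ₗ[X.presheaf.stalk x] Lat δ k G x :=
  LinearMap.pi fun j => (LinearMap.proj j.2).comp (((P j.1).mulVecLin.restrictScalars (X.presheaf.stalk x)).comp (prB j.1))

lemma blk_apply (P : Blocks δ k G x) (v : Lat δ k G x) (ξ : {ξ : TopPt δ k // ξ.1 ⤳ x}) (i : Fin (rk G ξ.1.1)) :
    blk P v ⟨ξ, i⟩ = ∑ l, P ξ i l * v ⟨ξ, l⟩ := rfl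

/-- The branches through a point. -/
def branches (hδ : Cyc.IsDimFun X δ) (hG : Cyc.CohLe δ (k + 1) G) (x : X) : Finset {ξ : TopPt δ k // ξ.1 ⤳ x} :=
  (finite_branches hδ hG x).toFinset

lemma mem_branches (hδ : Cyc.IsDimFun X δ) (hG : Cyc.CohLe δ (k + 1) G) (ξ : {ξ : TopPt δ k // ξ.1 ⤳ x}) :
    ξ ∈ branches hδ hG x ↔ rk G ξ.1.1 ≠ 0 := Set.Finite.mem_toFinset _

theorem idx_blk (hδ : Cyc.IsDimFun X δ) (hG : Cyc.CohLe δ (k + 1) G) (hx : δ x = k) (P : Blocks δ k G x)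
    (hP : ∀ ξ, (P ξ).det ≠ 0) : IFin (blk P) ∧
      idxMap (blk P) = -∑ ξ ∈ branches hδ hG x, ordK ξ.2 (toKap ξ.2 (P ξ).det) := by
  classical
  have hinj : Function.Injective (blk P) := (injective_iff_map_eq_zero _).2 fun v hv => funext fun j => by
    have h0 : (P j.1).mulVec (prB j.1 v) = 0 := funext fun i => congrFun hv ⟨j.1, i⟩
    exact congrFun (Matrix.eq_zero_of_mulVec_eq_zero (hP j.1) h0) j.2
  let T := branches hδ hG x
  let Q : T → Type u := fun ξ =>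
    (Fin (rk G ξ.1.1.1) → X.presheaf.stalk x ⧸ genPrime ξ.1.2) ⧸ LinearMap.range (P ξ.1).mulVecLin
  let L : Lat δ k G x →ₗ[X.presheaf.stalk x] ((ξ : T) → Q ξ) :=
    LinearMap.pi fun ξ => ((Submodule.mkQ (LinearMap.range (P ξ.1).mulVecLin)).restrictScalars (X.presheaf.stalk x)).comp (prB ξ.1)
  have hj : ∀ j : Cmp δ k G x, j.1 ∈ T := fun j =>
    (mem_branches hδ hG j.1).2 fun h0 => (h0 ▸ j.2 : Fin 0).elim0
  have hker : LinearMap.range (blk P) = LinearMap.ker L := by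
    ext v
    rw [LinearMap.mem_range, LinearMap.mem_ker]
    constructor
    · rintro ⟨w, rfl⟩
      exact funext fun ξ => (Submodule.Quotient.mk_eq_zero _).2 ⟨prB ξ.1 w, rfl⟩
    · intro hv
      have : ∀ ξ : T, ∃ w, (P ξ.1).mulVecLin w = prB ξ.1 v := fun ξ => by
        have := congrFun hv ξ
        exact (Submodule.Quotient.mk_eq_zero _).1 this
      choose w hw using this
      refine ⟨fun j => w ⟨j.1, hj j⟩ j.2, funext fun j => ?_⟩
      exact congrFun (hw ⟨j.1, hj j⟩) j.2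
  have hsur : Function.Surjective L := fun z => by
    choose w hw using fun ξ : T => Submodule.mkQ_surjective (LinearMap.range (P ξ.1).mulVecLin) (z ξ)
    exact ⟨fun j => w ⟨j.1, hj j⟩ j.2, funext fun ξ => hw ξ⟩
  have hb := fun ξ : T => length_coker_branch hδ ξ.1.2 (by rw [ξ.1.1.2, hx]) (P ξ.1) (hP ξ.1)
  have hlen : Module.length (X.presheaf.stalk x) (Lat δ k G x ⧸ LinearMap.range (blk P)) =
      ∑ ξ : T, Module.length (X.presheaf.stalk x) (Q ξ) := by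
    rw [((Submodule.quotEquivOfEq _ _ hker).trans (LinearMap.quotKerEquivOfSurjective L hsur)).length_eq,
      Module.length_pi_of_fintype]
  haveI : Subsingleton (LinearMap.ker (blk P)) := by rw [LinearMap.ker_eq_bot.2 hinj]; infer_instance
  refine ⟨(iFin_iff _).2 ⟨Module.length_eq_zero.trans_lt ENat.top_pos, ?_⟩, ?_⟩
  · rw [hlen]; exact WithTop.sum_lt_top.2 fun ξ _ => (hb ξ).1
  · rw [idxMap_of_injective hinj, hlen, ENat.toNat_sum fun ξ _ => (hb ξ).1.ne, Nat.cast_sum, neg_inj,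
      Finset.sum_congr rfl fun ξ _ => (hb ξ).2]
    exact Finset.sum_coe_sort T (fun ξ => ordK ξ.2 (toKap ξ.2 (P ξ).det))

/-- The transition isomorphisms of two frames. -/
def transE (β β' : Frame δ k G) (ξ : TopPt δ k) :
    (Fin (rk G ξ.1) → Kap ξ.1) ≃ₗ[Kap ξ.1] (Fin (rk G ξ.1) → Kap ξ.1) :=
  LinearEquiv.extendScalarsOfSurjective (R := X.presheaf.stalk ξ.1) IsLocalRing.residue_surjective
    ((β ξ).symm.trans (β' ξ))

/-- The transition matrices of two frames. -/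
def transM (β β' : Frame δ k G) (ξ : TopPt δ k) : Matrix (Fin (rk G ξ.1)) (Fin (rk G ξ.1)) (Kap ξ.1) :=
  LinearMap.toMatrix' (transE β β' ξ).toLinearMap

/-- The determinant of the transition. -/
def transDet (β β' : Frame δ k G) (ξ : TopPt δ k) : Kap ξ.1 := (transM β β' ξ).det

lemma transDet_ne_zero (β β' : Frame δ k G) (ξ : TopPt δ k) : transDet β β' ξ ≠ 0 := by
  rw [transDet, transM, LinearMap.det_toMatrix']
  exact (LinearEquiv.isUnit_det' (transE β β' ξ)).ne_zero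

lemma co_trans (β β' : Frame δ k G) (ξ : {ξ : TopPt δ k // ξ.1 ⤳ x}) (i : Fin (rk G ξ.1.1))
    (m : G.presheaf.stalk x) : co β' ⟨ξ, i⟩ m = ∑ l, transM β β' ξ.1 i l * co β ⟨ξ, l⟩ m := by
  have h := congrFun (LinearMap.toMatrix'_mulVec (transE β β' ξ.1).toLinearMap (β ξ.1 (msp G ξ.2 m))) i
  refine Eq.trans ?_ h.symm
  show β' ξ.1 (msp G ξ.2 m) i = β' ξ.1 ((β ξ.1).symm (β ξ.1 (msp G ξ.2 m))) i
  rw [LinearEquiv.symm_apply_apply]

/-- The change of the index under a change of frame. -/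
theorem idxAt_change (hδ : Cyc.IsDimFun X δ) (hG : TopRed δ k G) (β β' : Frame δ k G) (hx : δ x = k) :
    idxAt β' x = idxAt β x - ∑ ξ ∈ branches hδ hG.1 x, ordK ξ.2 (transDet β β' ξ.1) := by
  classical
  let T := branches hδ hG.1 x
  let L : Type u := Σ ξ : T, Fin (rk G ξ.1.1.1) × Fin (rk G ξ.1.1.1)
  haveI : Finite L := inferInstance
  obtain ⟨s, φ, hφ, -, hc⟩ := exists_adm hδ hG β x (L := L) (fun q => q.1.1)
    (fun q => transM β β' q.1.1.1 q.2.1 q.2.2) (P := PEmpty) PEmpty.elim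
  have hPex : ∀ (ξ : {ξ : TopPt δ k // ξ.1 ⤳ x}) (i l : Fin (rk G ξ.1.1)),
      ∃ z, toKap ξ.2 z = rd ξ.1.1 (spz ξ.2 s) * transM β β' ξ.1 i l := fun ξ i l =>
    hc ⟨⟨ξ, (mem_branches hδ hG.1 ξ).2 fun h0 => (h0 ▸ i : Fin 0).elim0⟩, i, l⟩
  choose P hP using hPex
  let S : Blocks δ k G x := fun ξ => Matrix.scalar _ (Ideal.Quotient.mk _ s)
  have hsξ : ∀ ξ : {ξ : TopPt δ k // ξ.1 ⤳ x}, rk G ξ.1.1 ≠ 0 → rd ξ.1.1 (spz ξ.2 s) ≠ 0 := fun ξ h0 he =>
    hφ.1 ⟨ξ, ⟨0, Nat.pos_of_ne_zero h0⟩⟩ ((rd_eq_zero_iff _ s).1 he)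
  have hdetP : ∀ ξ, toKap ξ.2 (Matrix.of (P ξ)).det =
      rd ξ.1.1 (spz ξ.2 s) ^ rk G ξ.1.1 * transDet β β' ξ.1 := fun ξ => by
    rw [RingHom.map_det, transDet]
    have : (toKap ξ.2).mapMatrix (Matrix.of (P ξ)) = rd ξ.1.1 (spz ξ.2 s) • transM β β' ξ.1 :=
      Matrix.ext fun i l => hP ξ i l
    rw [this, Matrix.det_smul, Fintype.card_fin]
  have hdetS : ∀ ξ, toKap ξ.2 (S ξ).det = rd ξ.1.1 (spz ξ.2 s) ^ rk G ξ.1.1 := fun ξ => by
    simp only [S, Matrix.scalar_apply, Matrix.det_diagonal, Finset.prod_const, Finset.card_univ, Fintype.card_fin,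
      map_pow, toKap_mk]
  have hpow : ∀ ξ : {ξ : TopPt δ k // ξ.1 ⤳ x}, rd ξ.1.1 (spz ξ.2 s) ^ rk G ξ.1.1 ≠ 0 := fun ξ => by
    by_cases h0 : rk G ξ.1.1 = 0
    · rw [h0, pow_zero]; exact one_ne_zero
    · exact pow_ne_zero _ (hsξ ξ h0)
  have ndP : ∀ ξ, (Matrix.of (P ξ)).det ≠ 0 := fun ξ h0 => by
    have := hdetP ξ
    rw [h0, map_zero] at this
    exact mul_ne_zero (hpow ξ) (transDet_ne_zero β β' ξ.1) this.symm
  have ndS : ∀ ξ, (S ξ).det ≠ 0 := fun ξ h0 => by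
    have := hdetS ξ
    rw [h0, map_zero] at this
    exact hpow ξ this.symm
  have hS : blk S = mulLat δ k G x s := LinearMap.ext fun v => funext fun j => by
    obtain ⟨ξ, i⟩ := j
    rw [blk_apply, Finset.sum_eq_single i (fun l _ hl => by simp [S, Matrix.diagonal_apply_ne _ (Ne.symm hl)])
      (fun h0 => absurd (Finset.mem_univ i) h0)]
    simp only [S, Matrix.scalar_apply, Matrix.diagonal_apply_eq]
    exact (Algebra.smul_def s (v ⟨ξ, i⟩)).symm
  have hA : Adm β' x (s * s) (blk (fun ξ => Matrix.of (P ξ)) ∘ₗ φ) := by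
    refine ⟨fun j hj => ((inferInstance : (genPrime j.1.2).IsPrime).mem_or_mem hj).elim (hφ.1 j) (hφ.1 j), fun m j => ?_⟩
    obtain ⟨ξ, i⟩ := j
    rw [LinearMap.comp_apply, blk_apply, map_sum, co_trans β β' ξ i m, Finset.mul_sum, map_mul, map_mul]
    refine Finset.sum_congr rfl fun l _ => ?_
    rw [map_mul, Matrix.of_apply, hP]
    refine (congrArg (fun c => _ * c) (hφ.2 m ⟨ξ, l⟩)).trans ?_
    ring
  have hb := idx_blk hδ hG.1 hx (fun ξ => Matrix.of (P ξ)) ndP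
  have hs := idx_blk hδ hG.1 hx S ndS
  rw [hS] at hs
  rw [idxAt_eq hδ hG hx hA, idxAt_eq hδ hG hx hφ,
    show mulLat δ k G x (s * s) = mulLat δ k G x s ∘ₗ mulLat δ k G x s from LinearMap.ext fun v => mul_smul s s v,
    (idx_comp _ _ (Or.inl ⟨iFin_adm hδ hG hx hφ, hb.1⟩)).2.2.2, (idx_comp _ _ (Or.inl ⟨hs.1, hs.1⟩)).2.2.2,
    hb.2, hs.2]
  have hsum : ∑ ξ ∈ T, ordK ξ.2 (toKap ξ.2 (Matrix.of (P ξ)).det) =
      ∑ ξ ∈ T, ordK ξ.2 (toKap ξ.2 (S ξ).det) + ∑ ξ ∈ T, ordK ξ.2 (transDet β β' ξ.1) := by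
    rw [← Finset.sum_add_distrib]
    refine Finset.sum_congr rfl fun ξ _ => ?_
    rw [hdetP, hdetS, ordK_mul _ (hpow ξ) (transDet_ne_zero β β' ξ.1)]
  simp only [T] at hsum
  omega

end Groth.Agent.CycK0
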