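import Groth.Agent.CycK0.Comm
import Groth.Agent.CycDim.PullSec
import Groth.Agent.CycDim.PushVanish
import Groth.Agent.CycDim.PushDiv
import Groth.Agent.Catenary.Space
import Groth.Agent.S1918

/-!
Cycles and first Chern classes on a closed subscheme versus the ambient scheme.
-/

set_option autoImplicit false
set_option linter.unusedSectionVars false
set_option linter.style.haveILetI false
set_option backward.isDefEq.respectTransparency false
set_option backward.isDefEq.respectTransparency.types false

universe u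

open CategoryTheory CategoryTheory.Limits AlgebraicGeometry TopologicalSpace Opposite

noncomputable section

namespace Groth.Agent.CycK0

variable {X D : Scheme.{u}} (i : D ⟶ X) [IsClosedImmersion i] {δ : X → ℤ}

/-- A closed subscheme of a setup. -/
theorem isSetup_closed (hX : Cyc.IsSetup X δ) : Cyc.IsSetup D fun d => δ (i d) := by
  haveI := hX.1
  refine ⟨LocallyOfFiniteType.isLocallyNoetherian i, fun d => ?_, CycPush.isDimFun_closedImmersion i hX.2.2⟩
  letI := (i.stalkMap d).hom.toAlgebra
  haveI : Algebra.FiniteType (X.presheaf.stalk (i d)) (D.presheaf.stalk d) :=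
    Algebra.FiniteType.of_surjective (Algebra.ofId _ _) (i.stalkMap_surjective d)
  exact Catenary.isUniversallyCatenary_of_finiteType (hX.2.1 (i d))

/-- The divisor of a restricted section. -/
theorem secDivFun_closed [IsLocallyNoetherian X] (hδ : Cyc.IsDimFun X δ) {L : X.Modules} (hL : PicF.IsInvertible L)
    (ξ : D) {s : Cyc.secFibre L (i ξ)} (hs : s ≠ 0) (d : D) :
    Cyc.secDivFun (fun d => δ (i d)) ((Scheme.Modules.pullback i).obj L) ξ (CycSec.secPull i ξ s) d =
      Cyc.secDivFun δ L (i ξ) s (i d) := by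
  haveI : IsLocallyNoetherian D := LocallyOfFiniteType.isLocallyNoetherian i
  have h := CycSec.push_secPull i (CycPush.isDimFun_closedImmersion i hδ) hδ
    (CycPush.deltaCompat_preimmersion i δ) hL ξ hs (i d)
  rwa [show (i ⁻¹' {i d} : Set D) = {d} from Set.ext fun x =>
      ⟨fun h => i.isClosedEmbedding.injective h, fun h => congrArg i h⟩, finsum_mem_singleton,
    S1918.mapCoeff_closed, S1918.mapCoeff_closed, mul_one, one_mul] at h

/-- The cap of a cycle supported on a closed subscheme, computed there. -/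
theorem c1Cap_closed [IsLocallyNoetherian X] (hδ : Cyc.IsDimFun X δ) {L : X.Modules} (hL : PicF.IsInvertible L)
    (α : X → ℤ) (hsupp : ∀ x, α x ≠ 0 → x ∈ Set.range i) (v : (ξ : X) → Cyc.secFibre L ξ)
    (hv : ∀ ξ, α ξ ≠ 0 → v ξ ≠ 0) (d : D) :
    Cyc.c1CapFun δ L α v (i d) =
      Cyc.c1CapFun (fun d => δ (i d)) ((Scheme.Modules.pullback i).obj L) (fun d => α (i d))
        (fun ξ => CycSec.secPull i ξ (v (i ξ))) d := by
  simp only [Cyc.c1CapFun]
  have h1 : ∀ ξ : D, α (i ξ) * Cyc.secDivFun (fun d => δ (i d)) ((Scheme.Modules.pullback i).obj L) ξ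
      (CycSec.secPull i ξ (v (i ξ))) d = α (i ξ) * Cyc.secDivFun δ L (i ξ) (v (i ξ)) (i d) := fun ξ => by
    by_cases h : α (i ξ) = 0
    · rw [h, zero_mul, zero_mul]
    · rw [secDivFun_closed i hδ hL ξ (hv _ h) d]
  rw [finsum_congr h1]
  refine Eq.trans ?_ (finsum_mem_range (g := i) i.isClosedEmbedding.injective
    (f := fun x => α x * Cyc.secDivFun δ L x (v x) (i d)))
  rw [← finsum_mem_univ fun x => α x * Cyc.secDivFun δ L x (v x) (i d),
    ← finsum_mem_inter_support _ Set.univ, ← finsum_mem_inter_support _ (Set.range i)]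
  refine finsum_mem_congr (Set.ext fun x => ?_) fun x _ => rfl
  exact ⟨fun h => ⟨hsupp x (left_ne_zero_of_mul h.2), h.2⟩, fun h => ⟨trivial, h.2⟩⟩

end Groth.Agent.CycK0
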