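import Groth.Agent.CycK0.C1Rat

/-!
Lattices in the rational functions of families of closures of points, their indices in `K₀`, and twists.
-/

set_option autoImplicit false
set_option linter.unusedSectionVars false
set_option linter.style.haveILetI false
set_option backward.isDefEq.respectTransparency false
set_option backward.isDefEq.respectTransparency.types false

universe u

open CategoryTheory CategoryTheory.Limits AlgebraicGeometry TopologicalSpace Opposite
open Groth.Agent.K0Dev (St)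
open Groth.Agent.KFlat (pgerm exists_pgerm pstMap_germ)
open Groth.Agent.RefStalk (msp msp_smul)
open Groth.Agent.WeakAssLib (mgerm)
open Groth.Agent.CycDim (spz)

noncomputable section

attribute [local instance] Abelian.hasFiniteBiproducts

namespace Groth.Agent.CycK0

variable {X : Scheme.{u}} {L : X.Modules}

/-! ### Twisted embeddings -/

/-- What the embedding of the twist of an embedded module satisfies. -/
def TwistExt (L : X.Modules) {ξ : X} (s : Cyc.secFibre L ξ) {F : X.Modules} (j : F ⟶ ratSheaf ξ)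
    (τ : (twist L).obj F ⟶ ratSheaf ξ) : Prop :=
  ∀ (x : X) (h : ξ ⤳ x) (A : X.Opens) (e : Γ(L, A)) (he : TMul.IsGen e) (hx : x ∈ A) (φ : X.presheaf.stalk ξ),
    s = φ • (Submodule.Quotient.mk (mgerm L (h.mem_open A.2 hx) e) : Cyc.secFibre L ξ) →
    ∀ n, rd ξ φ * evR h (((St x).map τ).hom (theta he hx F n)) = evR h (((St x).map j).hom n)

theorem exists_twistExt (hL : PicF.IsInvertible L) {ξ : X} {s : Cyc.secFibre L ξ} (hs : s ≠ 0) {F : X.Modules}
    (j : F ⟶ ratSheaf ξ) : ∃ τ, TwistExt L s j τ := by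
  obtain ⟨A₀, e₀, hξ₀, he₀⟩ := TMul.exists_isGen hL ξ
  obtain ⟨φ₀, hφ₀⟩ := C1Cap.exists_coeff he₀ hξ₀ s
  let ev : (St ξ).obj (ratSheaf ξ) ⟶ kap ξ := ModuleCat.ofHom (KFlat.skyEvalₗ ξ (kap ξ))
  let m : kap ξ ⟶ kap ξ := ModuleCat.ofHom (LinearMap.mulLeft (X.presheaf.stalk ξ) (rd ξ φ₀)⁻¹)
  let ψ : (St ξ).obj ((twist L).obj F) ⟶ kap ξ :=
    (theta he₀ hξ₀ F).symm.toModuleIso.hom ≫ (St ξ).map j ≫ ev ≫ m
  refine ⟨KFlat.toSky ξ ψ, fun x h A e he hx φ hs' n => ?_⟩
  have hξ := h.mem_open A.2 hx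
  obtain ⟨c, hc⟩ := (RefDiv.bijective_germ_of_isGen he₀ hξ₀).2 (mgerm L hξ e)
  have hc' : mgerm L hξ e = c • mgerm L hξ₀ e₀ := hc.symm
  have hφ : rd ξ φ₀ = rd ξ φ * rd ξ c := by
    rw [← map_mul]
    refine C1Cap.rdu_unique he₀ hξ₀ ?_
    rw [← hφ₀, hs', hc', Submodule.Quotient.mk_smul, smul_smul]
  refine (congrArg (fun q => rd ξ φ * q) (evR_toSky h ψ (theta he hx F n))).trans ?_
  show rd ξ φ * ψ.hom (msp ((twist L).obj F) h (theta he hx F n)) = _
  rw [msp_theta, theta_change he hξ he₀ hξ₀ hc', map_smul]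
  show rd ξ φ * (c • (((rd ξ φ₀)⁻¹ * KFlat.skyEvalₗ ξ (kap ξ) (((St ξ).map j).hom
    ((theta he₀ hξ₀ F).symm (theta he₀ hξ₀ F (msp F h n))))) : Kap ξ)) = _
  rw [LinearEquiv.symm_apply_apply, kap_smul, ← msp_natural]
  have h0 : rd ξ φ₀ ≠ 0 := C1Cap.rdu_ne_zero he₀ hξ₀ hs hφ₀
  show rd ξ φ * (rd ξ c * ((rd ξ φ₀)⁻¹ * evR h (((St x).map j).hom n))) = _
  rw [← mul_assoc, ← hφ, ← mul_assoc, mul_inv_cancel₀ h0, one_mul]

lemma isIso_twistExt (hL : PicF.IsInvertible L) {ξ : X} {s : Cyc.secFibre L ξ} (hs : s ≠ 0) {F : X.Modules}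
    {j : F ⟶ ratSheaf ξ} [IsIso ((St ξ).map j)] {τ : (twist L).obj F ⟶ ratSheaf ξ} (hτ : TwistExt L s j τ) :
    IsIso ((St ξ).map τ) := by
  obtain ⟨A, e, hξ, he⟩ := TMul.exists_isGen hL ξ
  obtain ⟨φ, hφ⟩ := C1Cap.exists_coeff he hξ s
  have h0 : rd ξ φ ≠ 0 := C1Cap.rdu_ne_zero he hξ hs hφ
  have hb := ConcreteCategory.bijective_of_isIso ((St ξ).map j)
  refine (ConcreteCategory.isIso_iff_bijective _).2 ⟨fun z z' hz => ?_, fun z => ?_⟩
  · obtain ⟨n, rfl⟩ := (theta he hξ F).surjective z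
    obtain ⟨n', rfl⟩ := (theta he hξ F).surjective z'
    refine congrArg _ (hb.1 (evR_injective specializes_rfl ?_))
    exact ((hτ ξ specializes_rfl A e he hξ φ hφ n).symm.trans
      (congrArg (fun z => rd ξ φ * evR specializes_rfl z) hz)).trans (hτ ξ specializes_rfl A e he hξ φ hφ n')
  · obtain ⟨n, hn⟩ := hb.2 (φ • z)
    refine ⟨theta he hξ F n, evR_injective specializes_rfl (mul_left_cancel₀ h0 ?_)⟩
    refine (hτ ξ specializes_rfl A e he hξ φ hφ n).trans ((congrArg (evR specializes_rfl) hn).trans ?_)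
    rw [evR_smul]
    refine congrArg (fun c => rd ξ c * _) ?_
    show (X.presheaf.stalkSpecializes (specializes_refl ξ)).hom φ = φ
    rw [TopCat.Presheaf.stalkSpecializes_refl]
    rfl

lemma mono_twistExt (hL : PicF.IsInvertible L) {ξ : X} {s : Cyc.secFibre L ξ} (hs : s ≠ 0) {F : X.Modules}
    {j : F ⟶ ratSheaf ξ} [Mono j] {τ : (twist L).obj F ⟶ ratSheaf ξ} (hτ : TwistExt L s j τ) : Mono τ := by
  refine Preadditive.mono_of_isZero_kernel _ ((K0Dev.isZero_iff_stalks _).2 fun x => ?_)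
  haveI : Mono ((St x).map τ) := by
    by_cases h : ξ ⤳ x
    · obtain ⟨A, e, hx, he⟩ := TMul.exists_isGen hL x
      obtain ⟨φ, hφ⟩ := C1Cap.exists_coeff he (h.mem_open A.2 hx) s
      refine (ModuleCat.mono_iff_injective _).2 fun z z' hz => ?_
      obtain ⟨n, rfl⟩ := (theta he hx F).surjective z
      obtain ⟨n', rfl⟩ := (theta he hx F).surjective z'
      refine congrArg _ ((ModuleCat.mono_iff_injective ((St x).map j)).1 inferInstance (evR_injective h ?_))
      exact ((hτ x h A e he hx φ hφ n).symm.trans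
        (congrArg (fun z => rd ξ φ * evR h z) hz)).trans (hτ x h A e he hx φ hφ n')
    · exact mono_of_source_iso_zero _ ((isZero_st_of_mono j h).of_iso
        ((exists_twistStIso hL x).some.app F)).isoZero
  exact IsZero.of_mono_eq_zero ((St x).map (kernel.ι τ)) ((cancel_mono ((St x).map τ)).1
    (by rw [← Functor.map_comp, kernel.condition, Functor.map_zero, zero_comp]))

/-- Twisting preserves commuting with the embeddings. -/
lemma twist_map_ext (hL : PicF.IsInvertible L) {ξ : X} {s : Cyc.secFibre L ξ} (hs : s ≠ 0)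
    {F G W : X.Modules} {j : F ⟶ ratSheaf ξ} {j' : G ⟶ ratSheaf ξ} {τ : (twist L).obj F ⟶ ratSheaf ξ}
    {τ' : (twist L).obj G ⟶ ratSheaf ξ} (hτ : TwistExt L s j τ) (hτ' : TwistExt L s j' τ')
    (a : W ⟶ F) (b : W ⟶ G) (h : a ≫ j = b ≫ j') : (twist L).map a ≫ τ = (twist L).map b ≫ τ' := by
  refine hom_ext_rat (ModuleCat.hom_ext (LinearMap.ext fun z => evR_injective specializes_rfl ?_))
  obtain ⟨U, e, hξ, he⟩ := TMul.exists_isGen hL ξ
  obtain ⟨φ, hφ⟩ := C1Cap.exists_coeff he hξ s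
  have h0 : rd ξ φ ≠ 0 := C1Cap.rdu_ne_zero he hξ hs hφ
  obtain ⟨w, rfl⟩ := (theta he hξ W).surjective z
  refine mul_left_cancel₀ h0 ?_
  simp only [Functor.map_comp, ModuleCat.hom_comp, LinearMap.coe_comp, Function.comp_apply]
  rw [theta_natural, theta_natural, hτ ξ specializes_rfl U e he hξ φ hφ, hτ' ξ specializes_rfl U e he hξ φ hφ]
  refine congrArg (evR specializes_rfl) ?_
  have := LinearMap.congr_fun (congrArg (fun g => ((St ξ).map g).hom) h) w
  simpa only [Functor.map_comp, ModuleCat.hom_comp, LinearMap.coe_comp, Function.comp_apply] using this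

lemma twistExt_unique (hL : PicF.IsInvertible L) {ξ : X} {s : Cyc.secFibre L ξ} (hs : s ≠ 0)
    {F : X.Modules} {j : F ⟶ ratSheaf ξ} {τ τ' : (twist L).obj F ⟶ ratSheaf ξ} (hτ : TwistExt L s j τ)
    (hτ' : TwistExt L s j τ') : τ = τ' := by
  simpa using twist_map_ext hL hs hτ hτ' (𝟙 F) (𝟙 F) rfl

/-! ### Exchanging two twists -/

/-- `(F ⊗ L) ⊗ N ⟶ (F ⊗ N) ⊗ L`. -/
def swapTwist (L N F : X.Modules) : (twist N).obj ((twist L).obj F) ⟶ (twist L).obj ((twist N).obj F) :=
  (TMul.commIso (CohB1.tensorMod F L) N).hom ≫ (TMul.assocIso N F L).inv ≫ (twist L).map (TMul.commIso N F).hom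

instance isIso_swapTwist (L N F : X.Modules) : IsIso (swapTwist L N F) :=
  inferInstanceAs (IsIso ((TMul.commIso (CohB1.tensorMod F L) N).hom ≫ (TMul.assocIso N F L).inv ≫
    (twist L).map (TMul.commIso N F).hom))

lemma swapTwist_theta {N : X.Modules} {A A' : X.Opens} {e : Γ(L, A)} (he : TMul.IsGen e) {e' : Γ(N, A')}
    (he' : TMul.IsGen e') {x : X} (hx : x ∈ A) (hx' : x ∈ A') (F : X.Modules) (m : F.presheaf.stalk x) :
    ((St x).map (swapTwist L N F)).hom (theta he' hx' ((twist L).obj F) (theta he hx F m)) =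
      theta he hx ((twist N).obj F) (theta he' hx' F m) := by
  obtain ⟨U, hU, s, rfl⟩ := exists_pgerm (DCoh.toP.obj F) x m
  let W : X.Opens := U ⊓ A ⊓ A'
  have hW : x ∈ W := ⟨⟨hU, hx⟩, hx'⟩
  have hWU : W ≤ U := inf_le_left.trans inf_le_left
  have hWA : W ≤ A := inf_le_left.trans inf_le_right
  have hWA' : W ≤ A' := inf_le_right
  show ((St x).map _).hom (theta he' hx' _ (theta he hx F (mgerm F hU s))) = theta he hx _ (theta he' hx' F (mgerm F hU s))
  rw [← WeakAssLib.mgerm_res F hWU hW s, theta_germ he hx F hW hWA, theta_germ he' hx' F hW hWA']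
  erw [theta_germ he' hx' ((twist L).obj F) hW hWA', theta_germ he hx ((twist N).obj F) hW hWA]
  rw [swapTwist, Functor.map_comp, Functor.map_comp, ModuleCat.hom_comp, ModuleCat.hom_comp, LinearMap.comp_apply,
    LinearMap.comp_apply]
  have g1 : ∀ {P Q : X.Modules} (f : P ⟶ Q) (p : Γ(P, W)),
      ((St x).map f).hom (mgerm P hW p) = mgerm Q hW (f.app W p) :=
    fun f p => pstMap_germ (DCoh.toP.map f) x hW p
  erw [g1, g1]
  erw [show (TMul.commIso (CohB1.tensorMod F L) N).hom.app W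
      (TMul.tm (TMul.tm (QC.res F hWU s) (QC.res L hWA e)) (QC.res N hWA' e')) =
    TMul.tm (QC.res N hWA' e') (TMul.tm (QC.res F hWU s) (QC.res L hWA e)) from TMul.commHom_tm _ _]
  erw [show (TMul.assocIso N F L).inv.app W
      (TMul.tm (QC.res N hWA' e') (TMul.tm (QC.res F hWU s) (QC.res L hWA e))) =
    TMul.tm (TMul.tm (QC.res N hWA' e') (QC.res F hWU s)) (QC.res L hWA e) from TMul.assocInv_tm _ _ _]
  erw [← theta_germ he hx (CohB1.tensorMod N F) hW hWA]
  refine (theta_natural he hx (TMul.commIso N F).hom _).trans ?_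
  erw [g1]
  erw [show (TMul.commIso N F).hom.app W (TMul.tm (QC.res N hWA' e') (QC.res F hWU s)) =
    TMul.tm (QC.res F hWU s) (QC.res N hWA' e') from TMul.commHom_tm _ _]
  exact theta_germ he hx _ hW hWA _

/-- The two double twists agree in the rational functions. -/
lemma swapTwist_ext {N : X.Modules} (hL : PicF.IsInvertible L) (hN : PicF.IsInvertible N) {ξ : X}
    {s : Cyc.secFibre L ξ} (hs : s ≠ 0) {t : Cyc.secFibre N ξ} (ht : t ≠ 0) {F : X.Modules} {j : F ⟶ ratSheaf ξ}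
    {τL : (twist L).obj F ⟶ ratSheaf ξ} {τN : (twist N).obj F ⟶ ratSheaf ξ}
    {σ : (twist L).obj ((twist N).obj F) ⟶ ratSheaf ξ} {σ' : (twist N).obj ((twist L).obj F) ⟶ ratSheaf ξ}
    (hτL : TwistExt L s j τL) (hτN : TwistExt N t j τN) (hσ : TwistExt L s τN σ) (hσ' : TwistExt N t τL σ') :
    swapTwist L N F ≫ σ = σ' := by
  refine hom_ext_rat (ModuleCat.hom_ext (LinearMap.ext fun z => evR_injective specializes_rfl ?_))
  obtain ⟨A, e, hx, he⟩ := TMul.exists_isGen hL ξ
  obtain ⟨A', e', hx', he'⟩ := TMul.exists_isGen hN ξ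
  obtain ⟨φ, hφ⟩ := C1Cap.exists_coeff he hx s
  obtain ⟨χ, hχ⟩ := C1Cap.exists_coeff he' hx' t
  obtain ⟨z, rfl⟩ := (theta he' hx' ((twist L).obj F)).surjective z
  obtain ⟨m, rfl⟩ := (theta he hx F).surjective z
  refine mul_left_cancel₀ (mul_ne_zero (a := rd ξ φ) (b := rd ξ χ) (C1Cap.rdu_ne_zero he hx hs hφ)
    (C1Cap.rdu_ne_zero he' hx' ht hχ)) ?_
  rw [Functor.map_comp, ModuleCat.hom_comp, LinearMap.comp_apply, swapTwist_theta he he' hx hx']
  calc _ = rd ξ χ * (rd ξ φ * evR specializes_rfl (((St ξ).map σ).hom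
        (theta he hx ((twist N).obj F) (theta he' hx' F m)))) := by ring
    _ = evR specializes_rfl (((St ξ).map j).hom m) := by
      rw [hσ ξ specializes_rfl A e he hx φ hφ, hτN ξ specializes_rfl A' e' he' hx' χ hχ]
    _ = rd ξ φ * (rd ξ χ * evR specializes_rfl (((St ξ).map σ').hom
        (theta he' hx' ((twist L).obj F) (theta he hx F m)))) := by
      rw [hσ' ξ specializes_rfl A' e' he' hx' χ hχ, hτL ξ specializes_rfl A e he hx φ hφ]
    _ = _ := by ring

/-! ### Lattices -/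

variable [IsLocallyNoetherian X] {δ : X → ℤ} {k : ℤ}

/-- A family of lattices in rational functions. -/
structure RLat {ι : Type u} (ξ : ι → X) where
  obj : ι → X.Modules
  emb : ∀ i, obj i ⟶ ratSheaf (ξ i)
  mono : ∀ i, Mono (emb i)
  gen : ∀ i, IsIso ((St (ξ i)).map (emb i))
  supp : ∀ i, Supp (ξ i) (obj i)

variable {ι : Type u} {ξ : ι → X}

/-- The integers. -/
def baseLat (ξ : ι → X) : RLat ξ where
  obj i := integers (ξ i)
  emb i := incl (ξ i)
  mono _ := inferInstance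
  gen i := isIso_incl_generic (ξ i)
  supp i := ⟨isCoh_integers _, fun _ h => isZero_integers_st h⟩

/-- The twist of a family of lattices by means of rational sections. -/
def twistLat (hL : PicF.IsInvertible L) (s : (x : X) → Cyc.secFibre L x) (hs : ∀ x, s x ≠ 0) (Y : RLat ξ) :
    RLat ξ where
  obj i := (twist L).obj (Y.obj i)
  emb i := (exists_twistExt hL (hs (ξ i)) (Y.emb i)).choose
  mono i := haveI := Y.mono i; mono_twistExt hL (hs _) (exists_twistExt hL (hs (ξ i)) (Y.emb i)).choose_spec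
  gen i := haveI := Y.gen i; isIso_twistExt hL (hs _) (exists_twistExt hL (hs (ξ i)) (Y.emb i)).choose_spec
  supp i := (Y.supp i).twist hL

lemma twistLat_spec (hL : PicF.IsInvertible L) (s : (x : X) → Cyc.secFibre L x) (hs : ∀ x, s x ≠ 0) (Y : RLat ξ)
    (i : ι) : TwistExt L (s (ξ i)) (Y.emb i) ((twistLat hL s hs Y).emb i) :=
  (exists_twistExt hL (hs (ξ i)) (Y.emb i)).choose_spec

/-- The class of the cokernel of a family of maps. -/
def qd (δ : X → ℤ) (k : ℤ) {W V : ι → X.Modules} (a : ∀ i, W i ⟶ V i) : Cyc.K0CohQuot δ (k + 1) (k - 1) :=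
  Cyc.toK0CohQuot δ (k + 1) (k - 1) (cokernel (Limits.Sigma.map a))

/-- The index of one family of lattices in another. -/
def rel (δ : X → ℤ) (k : ℤ) (Y Z : RLat ξ) : Cyc.K0CohQuot δ (k + 1) (k - 1) :=
  qd δ k (fun i => pullback.fst (Y.emb i) (Z.emb i)) - qd δ k (fun i => pullback.snd (Y.emb i) (Z.emb i))

/-- The standing hypotheses on a family. -/
structure Fam (δ : X → ℤ) (k : ℤ) (ξ : ι → X) : Prop where
  dimFun : Cyc.IsDimFun X δ
  delta : ∀ i, δ (ξ i) = k + 2
  cpt : ∀ V : X.affineOpens, {i | (closure {ξ i} ∩ (V.1 : Set X)).Nonempty}.Finite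

lemma cohLe_qd (hf : Fam δ k ξ) {W : ι → X.Modules} {Y : RLat ξ} (a : ∀ i, W i ⟶ Y.obj i)
    (hW : ∀ i, Coh.IsCoh (W i)) (ha : ∀ i, IsIso ((St (ξ i)).map (a i))) :
    Cyc.CohLe δ (k + 1) (cokernel (Limits.Sigma.map a)) := by
  have hc := fun i => cohLe_coker_gen hf.dimFun (show δ (ξ i) = (k + 1) + 1 by rw [hf.delta i]; ring) (a i) (hW i)
    (Y.supp i) (ha i)
  refine cohLe_of_iso (nonempty_coker_sigma a).some.symm ((cohLe_iff δ (k + 1)).2 ⟨isCoh_sigma _ (fun i => (hc i).1)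
    fun V => ⟨(hf.cpt V).toFinset, fun i hi x hx => IsZero.of_epi ((St x).map (cokernel.π (a i)))
      ((Y.supp i).2 x fun hsp => hi ((hf.cpt V).mem_toFinset.2 ⟨x, specializes_iff_mem_closure.1 hsp, hx⟩))⟩,
    fun x hx => isZero_st_sigma _ x fun i => ((cohLe_iff δ (k + 1)).1 (hc i)).2 x hx⟩)

/-- A span of lattices computes the index. -/
theorem rel_eq_span (hf : Fam δ k ξ) {Y Z : RLat ξ} {W : ι → X.Modules} (a : ∀ i, W i ⟶ Y.obj i)
    (b : ∀ i, W i ⟶ Z.obj i) (hW : ∀ i, Coh.IsCoh (W i)) (h : ∀ i, a i ≫ Y.emb i = b i ≫ Z.emb i)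
    (ha : ∀ i, IsIso ((St (ξ i)).map (a i))) : rel δ k Y Z = qd δ k a - qd δ k b := by
  haveI := Y.mono
  haveI := Z.mono
  haveI := Y.gen
  haveI := Z.gen
  let P := fun i => pullback (Y.emb i) (Z.emb i)
  let p : ∀ i, P i ⟶ Y.obj i := fun i => pullback.fst _ _
  let p' : ∀ i, P i ⟶ Z.obj i := fun i => pullback.snd _ _
  let w : ∀ i, W i ⟶ P i := fun i => pullback.lift (a i) (b i) (h i)
  have hP : ∀ i, IsPullback ((St (ξ i)).map (p i)) ((St (ξ i)).map (p' i)) ((St (ξ i)).map (Y.emb i))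
      ((St (ξ i)).map (Z.emb i)) := fun i => (IsPullback.of_hasPullback _ _).map (St (ξ i))
  haveI := fun i => (hP i).isIso_fst_of_isIso
  haveI := fun i => (hP i).isIso_snd_of_isIso
  have hPc : ∀ i, Coh.IsCoh (P i) := fun i => isCoh_pullback (Y.supp i).1 (Z.supp i).1 _ _
  have hb : ∀ i, IsIso ((St (ξ i)).map (b i)) := fun i => by
    haveI := ha i
    haveI : IsIso ((St (ξ i)).map (b i) ≫ (St (ξ i)).map (Z.emb i)) := by
      rw [← Functor.map_comp, ← h i, Functor.map_comp]; infer_instance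
    exact IsIso.of_isIso_comp_right _ ((St (ξ i)).map (Z.emb i))
  have hw : ∀ i, IsIso ((St (ξ i)).map (w i)) := fun i => by
    haveI := ha i
    haveI : IsIso ((St (ξ i)).map (w i) ≫ (St (ξ i)).map (p i)) := by
      rw [← Functor.map_comp, show w i ≫ p i = a i from pullback.lift_fst _ _ _]; infer_instance
    exact IsIso.of_isIso_comp_right _ ((St (ξ i)).map (p i))
  have hwc : Cyc.CohLe δ (k + 1) (cokernel (Limits.Sigma.map w)) := by
    let YP : RLat ξ :=
      { obj := P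
        emb := fun i => p i ≫ Y.emb i
        mono := fun i => inferInstance
        gen := fun i => by rw [Functor.map_comp]; infer_instance
        supp := fun i => ⟨hPc i, fun x hx => IsZero.of_mono ((St x).map (p i)) ((Y.supp i).2 x hx)⟩ }
    exact cohLe_qd hf (Y := YP) w hW hw
  haveI := mono_sigma_map p fun i => inferInstance
  haveI := mono_sigma_map p' fun i => inferInstance
  have ea : Limits.Sigma.map w ≫ Limits.Sigma.map p = Limits.Sigma.map a := Sigma.hom_ext _ _ fun i => by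
    rw [Sigma.ι_map_assoc, Sigma.ι_map, Sigma.ι_map, ← Category.assoc, show w i ≫ p i = a i from pullback.lift_fst _ _ _]
  have eb : Limits.Sigma.map w ≫ Limits.Sigma.map p' = Limits.Sigma.map b := Sigma.hom_ext _ _ fun i => by
    rw [Sigma.ι_map_assoc, Sigma.ι_map, Sigma.ι_map, ← Category.assoc, show w i ≫ p' i = b i from pullback.lift_snd _ _ _]
  have h1 := q_comp (b := k - 1) (Limits.Sigma.map w) (Limits.Sigma.map p) hwc (ea ▸ cohLe_qd hf a hW ha)
    (cohLe_qd hf p hPc fun i => inferInstance)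
  have h2 := q_comp (b := k - 1) (Limits.Sigma.map w) (Limits.Sigma.map p') hwc (eb ▸ cohLe_qd hf b hW hb)
    (cohLe_qd hf p' hPc fun i => inferInstance)
  show qd δ k p - qd δ k p' = _
  rw [show qd δ k a = _ from (q_iso (cokernelIsoOfEq ea.symm)).trans h1,
    show qd δ k b = _ from (q_iso (cokernelIsoOfEq eb.symm)).trans h2]
  simp only [qd]
  abel

/-- The index is a cocycle. -/
theorem rel_trans (hf : Fam δ k ξ) (U Y Z : RLat ξ) : rel δ k U Y + rel δ k Y Z = rel δ k U Z := by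
  haveI := U.mono
  haveI := Y.mono
  haveI := Z.mono
  haveI := U.gen
  haveI := Y.gen
  haveI := Z.gen
  let a : ∀ i, pullback (U.emb i) (Y.emb i) ⟶ Y.obj i := fun i => pullback.snd _ _
  let b : ∀ i, pullback (Y.emb i) (Z.emb i) ⟶ Y.obj i := fun i => pullback.fst _ _
  let W := fun i => pullback (a i ≫ Y.emb i) (b i ≫ Y.emb i)
  let wu : ∀ i, W i ⟶ U.obj i := fun i => pullback.fst _ _ ≫ pullback.fst _ _
  let wy : ∀ i, W i ⟶ Y.obj i := fun i => pullback.fst _ _ ≫ a i
  let wz : ∀ i, W i ⟶ Z.obj i := fun i => pullback.snd _ _ ≫ pullback.snd _ _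
  have huy : ∀ i, wu i ≫ U.emb i = wy i ≫ Y.emb i := fun i => by
    simp only [wu, wy, a, Category.assoc, pullback.condition]
  have hyz : ∀ i, wy i ≫ Y.emb i = wz i ≫ Z.emb i := fun i => by
    simp only [wy, wz, Category.assoc]
    rw [pullback.condition (f := a i ≫ Y.emb i) (g := b i ≫ Y.emb i)]
    simp only [b, pullback.condition]
  have hA : ∀ i, IsPullback ((St (ξ i)).map (pullback.fst (U.emb i) (Y.emb i))) ((St (ξ i)).map (a i))
      ((St (ξ i)).map (U.emb i)) ((St (ξ i)).map (Y.emb i)) := fun i => (IsPullback.of_hasPullback _ _).map (St (ξ i))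
  have hB : ∀ i, IsPullback ((St (ξ i)).map (b i)) ((St (ξ i)).map (pullback.snd (Y.emb i) (Z.emb i)))
      ((St (ξ i)).map (Y.emb i)) ((St (ξ i)).map (Z.emb i)) := fun i => (IsPullback.of_hasPullback _ _).map (St (ξ i))
  haveI := fun i => (hA i).isIso_snd_of_isIso
  haveI := fun i => (hA i).isIso_fst_of_isIso
  haveI := fun i => (hB i).isIso_fst_of_isIso
  haveI : ∀ i, IsIso ((St (ξ i)).map (a i ≫ Y.emb i)) := fun i => by rw [Functor.map_comp]; infer_instance
  haveI : ∀ i, IsIso ((St (ξ i)).map (b i ≫ Y.emb i)) := fun i => by rw [Functor.map_comp]; infer_instance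
  have hW : ∀ i, IsPullback ((St (ξ i)).map (pullback.fst (a i ≫ Y.emb i) (b i ≫ Y.emb i)))
      ((St (ξ i)).map (pullback.snd (a i ≫ Y.emb i) (b i ≫ Y.emb i))) ((St (ξ i)).map (a i ≫ Y.emb i))
      ((St (ξ i)).map (b i ≫ Y.emb i)) := fun i => (IsPullback.of_hasPullback _ _).map (St (ξ i))
  haveI := fun i => (hW i).isIso_fst_of_isIso
  have hu : ∀ i, IsIso ((St (ξ i)).map (wu i)) := fun i => by rw [Functor.map_comp]; infer_instance
  have hy : ∀ i, IsIso ((St (ξ i)).map (wy i)) := fun i => by rw [Functor.map_comp]; infer_instance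
  have hWc : ∀ i, Coh.IsCoh (W i) := fun i =>
    isCoh_pullback (isCoh_pullback (U.supp i).1 (Y.supp i).1 _ _) (isCoh_pullback (Y.supp i).1 (Z.supp i).1 _ _) _ _
  rw [rel_eq_span hf wu wy hWc huy hu, rel_eq_span hf wy wz hWc hyz hy,
    rel_eq_span hf wu wz hWc (fun i => (huy i).trans (hyz i)) hu]
  abel

/-- Isomorphic lattices have index zero. -/
theorem rel_eq_zero (hf : Fam δ k ξ) {Y Z : RLat ξ} (c : ∀ i, Y.obj i ⟶ Z.obj i) (hc : ∀ i, IsIso (c i))
    (h : ∀ i, c i ≫ Z.emb i = Y.emb i) : rel δ k Y Z = 0 := by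
  have hz : ∀ {W V : ι → X.Modules} (a : ∀ i, W i ⟶ V i), (∀ i, IsIso (a i)) → qd δ k a = 0 := by
    intro W V a ha
    refine q_small (b := k - 1) (cohLe_of_isZero ?_)
    haveI : Epi (Limits.Sigma.map a) := ⟨fun g g' hg => Sigma.hom_ext _ _ fun i => by
      haveI := ha i
      exact (cancel_epi (a i)).1 ((Sigma.ι_map_assoc a i g).symm.trans
        ((congrArg (fun q => Sigma.ι W i ≫ q) hg).trans (Sigma.ι_map_assoc a i g')))⟩
    exact isZero_cokernel_of_epi _
  rw [rel_eq_span hf (fun i => 𝟙 (Y.obj i)) c (fun i => (Y.supp i).1) (fun i => by rw [Category.id_comp, h i])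
    fun i => inferInstance, hz _ fun i => inferInstance, hz c hc, sub_zero]

/-- The twist of an index. -/
theorem rel_twist (hf : Fam δ k ξ) (hL : PicF.IsInvertible L) (s : (x : X) → Cyc.secFibre L x) (hs : ∀ x, s x ≠ 0)
    {Y Z : RLat ξ} {W : ι → X.Modules} (a : ∀ i, W i ⟶ Y.obj i) (b : ∀ i, W i ⟶ Z.obj i)
    (hW : ∀ i, Coh.IsCoh (W i)) (ma : ∀ i, Mono (a i)) (mb : ∀ i, Mono (b i))
    (h : ∀ i, a i ≫ Y.emb i = b i ≫ Z.emb i) (ha : ∀ i, IsIso ((St (ξ i)).map (a i))) :
    Cyc.toK0CohQuot δ (k + 1) (k - 1) ((twist L).obj (∐ fun i => cokernel (a i))) -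
        Cyc.toK0CohQuot δ (k + 1) (k - 1) ((twist L).obj (∐ fun i => cokernel (b i))) =
      rel δ k (twistLat hL s hs Y) (twistLat hL s hs Z) := by
  have et : ∀ {F G : ι → X.Modules} (φ : ∀ i, F i ⟶ G i), (∀ i, Mono (φ i)) →
      Cyc.toK0CohQuot δ (k + 1) (k - 1) ((twist L).obj (∐ fun i => cokernel (φ i))) =
        qd δ k fun i => (twist L).map (φ i) := by
    intro F G φ hφ
    obtain ⟨σ⟩ := nonempty_twist_sigma hL fun i => cokernel (φ i)
    exact q_iso (σ.symm ≪≫ Limits.Sigma.mapIso (fun i => (nonempty_twist_coker hL (φ i)).some) ≪≫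
      (nonempty_coker_sigma fun i => (twist L).map (φ i)).some.symm)
  rw [et a ma, et b mb]
  have hWt : ∀ i, Coh.IsCoh ((twist L).obj (W i)) := fun i => by
    haveI := (hW i).1
    exact ⟨TMul.isQCoh_tensor hL, TMul.isFT_tensor hL (hW i).2⟩
  exact (rel_eq_span hf (Y := twistLat hL s hs Y) (Z := twistLat hL s hs Z)
    (fun i => (twist L).map (a i)) (fun i => (twist L).map (b i)) hWt
    (fun i => twist_map_ext hL (hs (ξ i)) (twistLat_spec hL s hs Y i) (twistLat_spec hL s hs Z i) _ _ (h i))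
    fun i => (NatIso.isIso_map_iff (exists_twistStIso hL (ξ i)).some (a i)).2 (ha i)).symm

end Groth.Agent.CycK0
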