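import Groth.Agent.CycK0.GysRat
import Groth.Agent.CycK0.RLat

/-!
The Gysin map commutes with first Chern classes.
-/

set_option autoImplicit false
set_option linter.unusedSectionVars false
set_option linter.style.haveILetI false
set_option backward.isDefEq.respectTransparency false
set_option backward.isDefEq.respectTransparency.types false

universe u

open CategoryTheory CategoryTheory.Limits AlgebraicGeometry TopologicalSpace Opposite
open Groth.Agent.K0Dev (St)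
open Groth.Agent.CDivNormal (genPrime)
open Groth.Agent.WeakAssLib (mgerm)

noncomputable section

attribute [local instance] Abelian.hasFiniteBiproducts

namespace Groth.Agent.CycK0

variable {X D : Scheme.{u}} [IsLocallyNoetherian X] {δ : X → ℤ} {k : ℤ}

/-- Rationally equivalent cycles have the same class. -/
theorem qc_eq_of_ratEquiv (hX : Cyc.IsSetup X δ) {a b : AlgebraicCycle X ℤ} (ha : a ∈ Cyc.Zk X δ k)
    (hb : b ∈ Cyc.Zk X δ k) (h : Cyc.RatEquiv δ k a b) : qc δ k ⇑a = qc δ k ⇑b := by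
  have hd : a - b ∈ Cyc.Zk X δ k := fun x hx => by
    show a x - b x = 0
    rw [ha x hx, hb x hx, sub_zero]
  exact sub_eq_zero.1 ((qc_sub hX hd ha hb fun x => rfl).symm.trans (sub_eq_zero.2 (q_pos_eq_neg hX hd h)))

/-- Cycles with the same class are rationally equivalent. -/
theorem ratEquiv_of_qc (hX : Cyc.IsSetup X δ) {a b : AlgebraicCycle X ℤ} (ha : a ∈ Cyc.Zk X δ k)
    (hb : b ∈ Cyc.Zk X δ k) (h : qc δ k ⇑a = qc δ k ⇑b) : Cyc.RatEquiv δ k a b := by
  have hd : a - b ∈ Cyc.Zk X δ k := fun x hx => by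
    show a x - b x = 0
    rw [ha x hx, hb x hx, sub_zero]
  refine ratEquivZero_of_class hX hd (sub_eq_zero.1 ?_)
  show qc δ k ⇑(a - b) = 0
  rw [qc_sub hX hd ha hb fun x => rfl, h, sub_self]

omit [IsLocallyNoetherian X] in
/-- Cokernels only see images. -/
theorem nonempty_coker_of_range {A A' B : X.Modules} (a : A ⟶ B) (b : A' ⟶ B)
    (h : ∀ x, LinearMap.range ((St x).map a).hom = LinearMap.range ((St x).map b).hom) :
    Nonempty (cokernel a ≅ cokernel b) := by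
  have key : ∀ {A A' : X.Modules} (a : A ⟶ B) (b : A' ⟶ B),
      (∀ x, LinearMap.range ((St x).map a).hom ≤ LinearMap.range ((St x).map b).hom) → a ≫ cokernel.π b = 0 := by
    intro A A' a b h
    let φ := a ≫ cokernel.π b
    have hI : IsZero (Abelian.image φ) := (K0Dev.isZero_iff_stalks _).2 fun x => by
      have h0 : (St x).map φ = 0 := ModuleCat.hom_ext (LinearMap.ext fun z => by
        obtain ⟨z', hz'⟩ := h x ⟨z, rfl⟩
        have hc : (St x).map b ≫ (St x).map (cokernel.π b) = 0 := by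
          rw [← Functor.map_comp, cokernel.condition, Functor.map_zero]
        rw [Functor.map_comp, ModuleCat.hom_comp, LinearMap.comp_apply, ← hz']
        exact LinearMap.congr_fun (congrArg ModuleCat.Hom.hom hc) z')
      refine IsZero.of_epi_eq_zero ((St x).map (Abelian.factorThruImage φ))
        ((cancel_mono ((St x).map (Abelian.image.ι φ))).1 ?_)
      rw [← Functor.map_comp, Abelian.image.fac, h0, zero_comp]
    show φ = 0
    rw [← Abelian.image.fac φ, hI.eq_of_tgt (Abelian.factorThruImage φ) 0, zero_comp]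
  exact ⟨{ hom := cokernel.desc a (cokernel.π b) (key a b fun x => (h x).le)
           inv := cokernel.desc b (cokernel.π a) (key b a fun x => (h x).ge)
           hom_inv_id := coequalizer.hom_ext (by simp)
           inv_hom_id := coequalizer.hom_ext (by simp) }⟩

variable {L : X.Modules} {s : Γ(L, (⊤ : X.Opens))} {i : D ⟶ X} [IsClosedImmersion i]

/-- The cokernel of the section commutes with a twist. -/
theorem nonempty_gC_twist (hL : PicF.IsInvertible L) {N : X.Modules} (hN : PicF.IsInvertible N) (R : X.Modules) :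
    Nonempty (gC s ((twist N).obj R) ≅ cokernel ((twist N).map ((sigT s).app R))) := by
  haveI := isIso_swapTwist L N R
  obtain ⟨e⟩ := nonempty_coker_of_range ((sigT s).app ((twist N).obj R))
    ((twist N).map ((sigT s).app R) ≫ swapTwist L N R) fun x => by
    obtain ⟨A, e, hx, he, c, hc⟩ := exists_coefficient hL s x
    obtain ⟨A', e', hx', he'⟩ := TMul.exists_isGen hN x
    obtain ⟨g, hg⟩ := exists_sigT_frame he hx hc ((twist N).obj R)
    obtain ⟨g', hg'⟩ := exists_sigT_frame he hx hc R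
    have h2 : ∀ m, ((St x).map ((twist N).map ((sigT s).app R) ≫ swapTwist L N R)).hom (theta he' hx' R m) =
        c • theta he hx ((twist N).obj R) (theta he' hx' R (g' m)) := fun m => by
      rw [Functor.map_comp, ModuleCat.hom_comp, LinearMap.comp_apply]
      erw [theta_natural he' hx' ((sigT s).app R) m]
      rw [hg' m]
      erw [map_smul, map_smul]
      exact congrArg (c • ·) (swapTwist_theta he he' hx hx' R (g' m))
    ext z
    constructor
    · rintro ⟨w, rfl⟩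
      obtain ⟨m, hm⟩ := (theta he' hx' R).surjective (g w)
      exact ⟨theta he' hx' R (g'.symm m), (h2 _).trans (by rw [g'.apply_symm_apply, hm]; exact (hg w).symm)⟩
    · rintro ⟨w, rfl⟩
      obtain ⟨m, rfl⟩ := (theta he' hx' R).surjective w
      exact ⟨g.symm (theta he' hx' R (g' m)), (hg _).trans (by rw [g.apply_symm_apply]; exact (h2 m).symm)⟩
  exact ⟨e ≪≫ cokernelCompIsIso _ _⟩

set_option maxHeartbeats 2000000 in
/-- Families of integral closed subschemes outside the zero scheme. -/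
theorem gy_cap_family (hX : Cyc.IsSetup X δ) (hL : PicF.IsInvertible L) (hD : Cyc.IsZeroSchemeOf i L s)
    {N : X.Modules} (hN : PicF.IsInvertible N) (p : AlgebraicCycle X ℤ) (hp : p ∈ Cyc.Zk X δ (k + 2))
    (h0 : ∀ x, 0 ≤ p x) (hout : ∀ x, p x ≠ 0 → x ∉ Set.range i) (w : (ξ : X) → Cyc.secFibre L ξ)
    (hw : ∀ ξ, w ξ ≠ 0) (v : (ξ : X) → Cyc.secFibre N ξ) (hv : ∀ ξ, v ξ ≠ 0)
    (t : (d : D) → Cyc.secFibre ((Scheme.Modules.pullback i).obj N) d) (ht : ∀ d, t d ≠ 0)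
    (γ₁ γ₂ : AlgebraicCycle D ℤ)
    (h₁ : ∀ d, γ₁ d = Cyc.c1CapFun δ L (Cyc.c1CapFun δ N ⇑p v) (Cyc.gysinChoice L s w) (i d))
    (h₂ : ⇑γ₂ = Cyc.c1CapFun (fun d => δ (i d)) ((Scheme.Modules.pullback i).obj N)
      (fun d => Cyc.c1CapFun δ L ⇑p (Cyc.gysinChoice L s w) (i d)) t) :
    γ₁ ∈ Cyc.Zk D (fun d => δ (i d)) k ∧ γ₂ ∈ Cyc.Zk D (fun d => δ (i d)) k ∧
      qc (fun d => δ (i d)) k ⇑γ₁ = qc (fun d => δ (i d)) k ⇑γ₂ := by
  classical
  haveI : IsLocallyNoetherian D := LocallyOfFiniteType.isLocallyNoetherian i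
  have hδ := hX.2.2
  have hDs := isSetup_closed i hX
  let N' := (Scheme.Modules.pullback i).obj N
  have hN' : PicF.IsInvertible N' := PicLoc.isInvertible_pullback i hN
  let ι := Idx (⇑p)
  let ξ : ι → X := fun j => j.1.1
  have hξ : ∀ j, δ (ξ j) = (k + 1) + 1 := fun j => by
    have := by_contra fun h => (ne_of_gt j.1.2) (hp j.1.1 h)
    show δ j.1.1 = _
    omega
  have hξi : ∀ j, ξ j ∉ Set.range i := fun j => hout _ j.1.2.ne'
  have hcpt : ∀ V : X.affineOpens, {j | (closure {ξ j} ∩ (V.1 : Set X)).Nonempty}.Finite := fun V =>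
    (finite_idx (cycle_finite_affine p V.2)).subset fun j ⟨y, hy, hyV⟩ =>
      (specializes_iff_mem_closure.2 hy).mem_open V.1.2 hyV
  have hpt : ∀ x : X, {j | ξ j ⤳ x}.Finite := fun x => by
    obtain ⟨U, hU, hxU, -⟩ := exists_isAffineOpen_mem_and_subset (x := x) (U := (⊤ : X.Opens)) trivial
    exact (hcpt ⟨U, hU⟩).subset fun j hj => ⟨x, specializes_iff_mem_closure.1 hj, hxU⟩
  let Nj := fun j => integers (ξ j)
  let R := ∐ Nj
  obtain ⟨hR, hRa⟩ := sheafFun_sigma_idx (k := k + 1) hδ ⇑p h0 (fun hU => cycle_finite_affine p hU)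
    (fun x hx => by have := by_contra fun h => hx (hp x h); omega)
  -- regularity
  have hregR : ∀ (x : X) {A : X.Opens} {e : Γ(L, A)}, TMul.IsGen e → ∀ (hx : x ∈ A) (c : X.presheaf.stalk x),
      mgerm L (show x ∈ (⊤ : X.Opens) from trivial) s = c • mgerm L hx e →
        ∀ m : R.presheaf.stalk x, c • m = 0 → m = 0 := fun x A e he hx c hc m hm =>
    sigma_integers_reg ξ x (hpt x) c (fun j h hcm => hξi j ((mem_genPrime_iff_mem_range hD h he hx hc).1 hcm)) m hm
  have hregT : ∀ (x : X) {A : X.Opens} {e : Γ(L, A)}, TMul.IsGen e → ∀ (hx : x ∈ A) (c : X.presheaf.stalk x),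
      mgerm L (show x ∈ (⊤ : X.Opens) from trivial) s = c • mgerm L hx e →
        ∀ m : ((twist N).obj R).presheaf.stalk x, c • m = 0 → m = 0 := fun x A e he hx c hc m hm => by
    obtain ⟨A', e', hx', he'⟩ := TMul.exists_isGen hN x
    obtain ⟨m, rfl⟩ := (theta he' hx' R).surjective m
    rw [← map_smul, map_eq_zero_iff _ (theta he' hx' R).injective] at hm
    rw [hregR x he hx c hc m hm, map_zero]
  -- pieces
  choose M u v' hu hv' hM hc hτ hdiv using fun j : ι => exists_piece' (k := k + 1) hX hN (hξ j) (hv (ξ j))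
  let CU := fun j => cokernel (u j)
  let CV := fun j => cokernel (v' j)
  let Tj := fun j => (twist N).obj (Nj j)
  have hzN : ∀ j x, ¬ ξ j ⤳ x → IsZero ((St x).obj (Nj j)) := fun j x => isZero_integers_st
  have hzT : ∀ j x, ¬ ξ j ⤳ x → IsZero ((St x).obj (Tj j)) := fun j x h =>
    (isZero_integers_st h).of_iso ((exists_twistStIso hN x).some.app (integers (ξ j)))
  have hcohS : ∀ F : ι → X.Modules, (∀ j, Coh.IsCoh (F j)) → (∀ j x, ¬ ξ j ⤳ x → IsZero ((St x).obj (F j))) →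
      Coh.IsCoh (∐ F) := fun F hF hz =>
    isCoh_sigma F hF fun V => ⟨(hcpt V).toFinset, fun j hj x hx => hz j x fun hsp =>
      hj ((hcpt V).mem_toFinset.2 ⟨x, specializes_iff_mem_closure.1 hsp, hx⟩)⟩
  have hTc : ∀ j, Coh.IsCoh (Tj j) := fun j => by
    haveI := (isCoh_integers (ξ j)).1
    exact ⟨TMul.isQCoh_tensor hN, TMul.isFT_tensor hN (isCoh_integers (ξ j)).2⟩
  have hd : ∀ j y, y ∈ Set.range i → k + 1 < δ y → ¬ ξ j ⤳ y := fun j y hy hk h => by
    have hne : ξ j ≠ y := fun e => hξi j (e ▸ hy)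
    have := (hδ _ _ h hne).1
    have := hξ j
    omega
  have cB : ∀ (F : ι → X.Modules), Coh.IsCoh (∐ F) → (∀ j x, ¬ ξ j ⤳ x → IsZero ((St x).obj (F j))) →
      KillLe i δ k (gC s (∐ F)) := fun F hF hz => by
    haveI := hF.1
    have hT : Coh.IsCoh ((twist L).obj (∐ F)) := ⟨TMul.isQCoh_tensor hL, TMul.isFT_tensor hL hF.2⟩
    refine ⟨(killed_gK_gC hL hD _).2, (cohLe_iff δ _).2 ⟨QC.isCoh_cokernel hF.1 hT _, fun y hy => ?_⟩⟩
    by_cases hyi : y ∈ Set.range i
    · refine IsZero.of_epi ((St y).map (cokernel.π ((sigT s).app (∐ F)))) ?_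
      exact (isZero_st_sigma F y fun j => hz j y (hd j y hyi hy)).of_iso ((exists_twistStIso hL y).some.app (∐ F))
    · exact (killed_gK_gC hL hD (∐ F)).2.1 y hyi
  have kZ : ∀ {Q : X.Modules}, IsZero (gK s Q) → KillLe i δ k (gK s Q) := fun h =>
    ⟨⟨fun x _ => (St x).map_isZero h, fun d a _ m => by
      haveI := ModuleCat.subsingleton_of_isZero ((St (i d)).map_isZero h)
      exact @Subsingleton.elim _ ‹_› _ _⟩, cohLe_of_isZero h⟩
  obtain ⟨eT⟩ := nonempty_twist_sigma hN Nj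
  have hregS := regular_of_mono eT.hom hregT
  haveI := mono_sigma_map u hu
  haveI := mono_sigma_map v' hv'
  have kN := kZ (isZero_gK (s := s) hL hregR)
  have kT := kZ (isZero_gK (s := s) hL hregS)
  have kM := kZ (isZero_gK (s := s) hL (regular_of_mono (Limits.Sigma.map u) hregR))
  have cN := cB Nj (hcohS Nj (fun j => isCoh_integers _) hzN) hzN
  have cT := cB Tj (hcohS Tj hTc hzT) hzT
  have cM := cB M (hcohS M (fun j => (hM j).1) fun j => (hM j).2) fun j => (hM j).2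
  have hU : Cyc.CohLe δ (k + 1) (∐ CU) := (cohLe_iff δ _).2 ⟨hcohS CU (fun j => (hc j).1.1) fun j x h =>
    IsZero.of_epi ((St x).map (cokernel.π (u j))) (hzN j x h),
    fun x hx => isZero_st_sigma CU x fun j => ((cohLe_iff δ _).1 (hc j).1).2 x hx⟩
  have hV : Cyc.CohLe δ (k + 1) (∐ CV) := (cohLe_iff δ _).2 ⟨hcohS CV (fun j => (hc j).2.1) fun j x h =>
    IsZero.of_epi ((St x).map (cokernel.π (v' j))) (hzT j x h),
    fun x hx => isZero_st_sigma CV x fun j => ((cohLe_iff δ _).1 (hc j).2).2 x hx⟩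
  have one : ∀ {B : ι → X.Modules} (φ : ∀ j, M j ⟶ B j), Mono (Limits.Sigma.map φ) →
      KillLe i δ k (gK s (∐ B)) → KillLe i δ k (gC s (∐ B)) →
      Cyc.CohLe δ (k + 1) (∐ fun j => cokernel (φ j)) →
      gy s δ k i (∐ B) = gy s δ k i (∐ M) + gy s δ k i (∐ fun j => cokernel (φ j)) := fun φ hmono kB cB hQ => by
    haveI := hmono
    let S := ShortComplex.mk (Limits.Sigma.map φ) (cokernel.π (Limits.Sigma.map φ)) (cokernel.condition _)
    have hS : S.ShortExact := { exact := ShortComplex.exact_of_g_is_cokernel _ (cokernelIsCokernel _) }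
    have e := (nonempty_coker_sigma φ).some
    have hQ' : Cyc.CohLe δ (k + 1) (cokernel (Limits.Sigma.map φ)) := cohLe_of_iso e.symm hQ
    have h3 := killLe_gK_gC (δ := δ) (k := k) hL hD hQ'
    have h := gy_add' (S := S) hL hS kM kB h3.1 cM cB h3.2
    exact h.trans (congrArg (gy s δ k i (∐ M) + ·) (gy_congr hX hL hD hQ' hQ (q_iso e)))
  have eU := one u inferInstance kN cN hU
  have eV := one v' inferInstance kT cT hV
  have z0 : ∀ {Q : X.Modules}, IsZero (gK s Q) → gy s δ k i Q = qD δ k i (gC s Q) := fun h => by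
    rw [gy, show qD δ k i (gK s _) = 0 from q_small (cohLe_of_isZero ((Scheme.Modules.pullback i).map_isZero h)),
      sub_zero]
  rw [z0 (isZero_gK (s := s) hL hregR)] at eU
  rw [z0 (isZero_gK (s := s) hL hregS)] at eV
  -- the left side
  have hsum : ∀ x, Cyc.c1CapFun δ N ⇑p v x =
      Cyc.sheafFun δ (k + 1) (∐ CV) x - Cyc.sheafFun δ (k + 1) (∐ CU) x := fun x => by
    have hz : ∀ j, j ∉ (hpt x).toFinset → ¬ ξ j ⤳ x := fun j hj h => hj ((hpt x).mem_toFinset.2 h)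
    have h := finsum_idx (δ := δ) p v x
    rw [show (∑ᶠ η : X, max (p η) 0 * Cyc.secDivFun δ N η (v η) x) = Cyc.c1CapFun δ N ⇑p v x from
      finsum_congr fun η => by rw [max_eq_left (h0 η)]] at h
    rw [← h, finsum_eq_sum_of_support_subset _ (s := (hpt x).toFinset) fun j hj => ?_,
      sheafFun_sigma hδ CV (fun j => (hc j).2) x _ fun j hj =>
        IsZero.of_epi ((St x).map (cokernel.π (v' j))) (hzT j x (hz j hj)),
      sheafFun_sigma hδ CU (fun j => (hc j).1) x _ fun j hj =>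
        IsZero.of_epi ((St x).map (cokernel.π (u j))) (hzN j x (hz j hj)),
      ← Finset.sum_sub_distrib]
    · exact Finset.sum_congr rfl fun j _ => hdiv j x
    · exact (hpt x).mem_toFinset.2 (CycSec.secDivFun_support hj).1
  let vw := Cyc.gysinChoice L s w
  obtain ⟨cV', hcV⟩ := exists_capCycle hX hL hV vw (gysinChoice_ne_zero hw)
  obtain ⟨cU', hcU⟩ := exists_capCycle hX hL hU vw (gysinChoice_ne_zero hw)
  obtain ⟨γV, hγV⟩ := exists_comap (i := i) cV'
  obtain ⟨γU, hγU⟩ := exists_comap (i := i) cU'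
  obtain ⟨hVk, qV⟩ := gy_eq_qc (k := k) hX hL hD hV w hw γV fun d => by rw [hγV, hcV]
  obtain ⟨hUk, qU⟩ := gy_eq_qc (k := k) hX hL hD hU w hw γU fun d => by rw [hγU, hcU]
  have hlin : ∀ d, γ₁ d = γV d - γU d := fun d => by
    rw [h₁, hγV, hγU, hcV, hcU]
    exact c1CapFun_sub_apply hsum (finite_gen_sheafFun hδ hV (i d)) (finite_gen_sheafFun hδ hU (i d))
  have hk₁ : γ₁ ∈ Cyc.Zk D (fun d => δ (i d)) k := fun d hd => by rw [hlin, hVk d hd, hUk d hd, sub_zero]
  -- the right side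
  haveI := hR.1.1
  obtain ⟨μ, hμk, hμ, -, hμC⟩ := gy_of_regular (k := k + 1) hX hL hD hR ⇑p hRa hout
    (fun x c hc m hm => sigma_integers_reg ξ x (hpt x) c (fun j h => hc _ h j.1.2.ne') m hm) w
  let C' := (Scheme.Modules.pullback i).obj (gC s R)
  have hC' : Cyc.CohLe (fun d => δ (i d)) (k + 1) C' := cohLe_pullback i cN.2
  have h₂' : ⇑γ₂ = Cyc.c1CapFun (fun d => δ (i d)) N' (Cyc.sheafFun (fun d => δ (i d)) (k + 1) C') t := by
    rw [h₂, ← hμC]
    exact congrArg (fun a => Cyc.c1CapFun (fun d => δ (i d)) N' a t) (funext fun d => (hμ d).symm)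
  have hk₂ : γ₂ ∈ Cyc.Zk D (fun d => δ (i d)) k := capCycle_mem h₂'
  refine ⟨hk₁, hk₂, ?_⟩
  haveI : Mono ((sigT s).app R) := Preadditive.mono_of_isZero_kernel _ (isZero_gK (s := s) hL hregR)
  obtain ⟨f₁⟩ := nonempty_gC_twist (s := s) hL hN R
  obtain ⟨f₂⟩ := nonempty_twist_coker hN ((sigT s).app R)
  let f₀ : gC s (∐ Tj) ≅ gC s ((twist N).obj R) :=
    cokernel.mapIso _ _ eT ((twist L).mapIso eT) ((sigT s).naturality eT.hom).symm
  have hTC : qD δ k i (gC s (∐ Tj)) =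
      Cyc.toK0CohQuot (fun d => δ (i d)) (k + 1) (k - 1) ((twist N').obj C') :=
    (qD_iso (f₀ ≪≫ f₁ ≪≫ f₂.symm)).trans (q_iso (KFlat.pullTensorIso i (gC s R) N).symm)
  have qR := q_twist_sub hDs hN' hC' t ht γ₂ hk₂ h₂'
  rw [qc_sub hDs hk₁ hVk hUk hlin, qV, qU]
  refine Eq.trans ?_ qR
  rw [← hTC]
  show gy s δ k i (∐ CV) - gy s δ k i (∐ CU) = qD δ k i (gC s (∐ Tj)) - qD δ k i (gC s R)
  rw [show qD δ k i (gC s (∐ Tj)) = gy s δ k i (∐ M) + gy s δ k i (∐ CV) from eV,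
    show qD δ k i (gC s R) = gy s δ k i (∐ M) + gy s δ k i (∐ CU) from eU]
  abel

set_option maxHeartbeats 1000000 in
/-- The Gysin map commutes with first Chern classes. -/
theorem gysin_cap_comm (hX : Cyc.IsSetup X δ) (hL : PicF.IsInvertible L) (hD : Cyc.IsZeroSchemeOf i L s)
    {N : X.Modules} (hN : PicF.IsInvertible N) (α : AlgebraicCycle X ℤ) (hα : α ∈ Cyc.Zk X δ (k + 2))
    (w : (ξ : X) → Cyc.secFibre L ξ) (hw : ∀ ξ, w ξ ≠ 0) (v : (ξ : X) → Cyc.secFibre N ξ) (hv : ∀ ξ, v ξ ≠ 0)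
    (t : (d : D) → Cyc.secFibre ((Scheme.Modules.pullback i).obj N) d) (ht : ∀ d, t d ≠ 0)
    (γ₁ γ₂ : AlgebraicCycle D ℤ)
    (h₁ : ∀ d, γ₁ d = Cyc.c1CapFun δ L (Cyc.c1CapFun δ N ⇑α v) (Cyc.gysinChoice L s w) (i d))
    (h₂ : ⇑γ₂ = Cyc.c1CapFun (fun d => δ (i d)) ((Scheme.Modules.pullback i).obj N)
      (fun d => Cyc.c1CapFun δ L ⇑α (Cyc.gysinChoice L s w) (i d)) t) :
    Cyc.RatEquiv (fun d => δ (i d)) k γ₁ γ₂ := by
  classical
  haveI : IsLocallyNoetherian D := LocallyOfFiniteType.isLocallyNoetherian i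
  have hδ := hX.2.2
  have hDs := isSetup_closed i hX
  let L' := (Scheme.Modules.pullback i).obj L
  let N' := (Scheme.Modules.pullback i).obj N
  have hL' : PicF.IsInvertible L' := PicLoc.isInvertible_pullback i hL
  have hN' : PicF.IsInvertible N' := PicLoc.isInvertible_pullback i hN
  let vw := Cyc.gysinChoice L s w
  have hvw : ∀ x, vw x ≠ 0 := gysinChoice_ne_zero hw
  have hne : ∀ {a : AlgebraicCycle X ℤ}, a ∈ Cyc.Zk X δ (k + 2) → ∀ x, a x ≠ 0 → δ x = (k + 1) + 1 :=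
    fun {a} ha x hx => by
      have := by_contra fun h => hx (ha x h)
      omega
  -- the two sides
  have mk : ∀ a : AlgebraicCycle X ℤ, a ∈ Cyc.Zk X δ (k + 2) → ∃ (β : AlgebraicCycle X ℤ) (μ : AlgebraicCycle D ℤ)
      (ζ₁ ζ₂ : AlgebraicCycle D ℤ), ⇑β = Cyc.c1CapFun δ N ⇑a v ∧ (∀ d, μ d = Cyc.c1CapFun δ L ⇑a vw (i d)) ∧
      (∀ d, ζ₁ d = Cyc.c1CapFun δ L ⇑β vw (i d)) ∧ ⇑ζ₂ = Cyc.c1CapFun (fun d => δ (i d)) N' ⇑μ t := fun a ha => by
    obtain ⟨β, hβ⟩ := secFin hX hN a v hv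
    obtain ⟨c, hc⟩ := secFin hX hL a vw hvw
    obtain ⟨μ, hμ⟩ := exists_comap (i := i) c
    obtain ⟨c', hc'⟩ := secFin hX hL β vw hvw
    obtain ⟨ζ₁, hζ₁⟩ := exists_comap (i := i) c'
    obtain ⟨ζ₂, hζ₂⟩ := secFin hDs hN' μ t ht
    exact ⟨β, μ, ζ₁, ζ₂, hβ, fun d => by rw [hμ, hc], fun d => by rw [hζ₁, hc'], hζ₂⟩
  let Good : AlgebraicCycle X ℤ → Prop := fun a => ∀ g₁ g₂ : AlgebraicCycle D ℤ,
    (∀ d, g₁ d = Cyc.c1CapFun δ L (Cyc.c1CapFun δ N ⇑a v) vw (i d)) →
    (⇑g₂ = Cyc.c1CapFun (fun d => δ (i d)) N' (fun d => Cyc.c1CapFun δ L ⇑a vw (i d)) t) →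
    g₁ ∈ Cyc.Zk D (fun d => δ (i d)) k ∧ g₂ ∈ Cyc.Zk D (fun d => δ (i d)) k ∧
      qc (fun d => δ (i d)) k ⇑g₁ = qc (fun d => δ (i d)) k ⇑g₂
  have sub : ∀ a b c : AlgebraicCycle X ℤ, a ∈ Cyc.Zk X δ (k + 2) → b ∈ Cyc.Zk X δ (k + 2) →
      c ∈ Cyc.Zk X δ (k + 2) → (∀ x, a x = b x - c x) → Good b → Good c → Good a := by
    intro a b c ha hb hc hab gb gc g₁ g₂ e₁ e₂
    obtain ⟨βb, μb, b₁, b₂, hβb, hμb, hb₁, hb₂⟩ := mk b hb
    obtain ⟨βc, μc, c₁, c₂, hβc, hμc, hc₁, hc₂⟩ := mk c hc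
    obtain ⟨kb₁, kb₂, qb⟩ := gb b₁ b₂ (fun d => by rw [hb₁, hβb]) (by rw [hb₂, funext hμb])
    obtain ⟨kc₁, kc₂, qc'⟩ := gc c₁ c₂ (fun d => by rw [hc₁, hβc]) (by rw [hc₂, funext hμc])
    have l₁ : ∀ d, g₁ d = b₁ d - c₁ d := fun d => by
      rw [e₁, hb₁, hc₁]
      exact c1CapFun_sub_apply (fun x => by
        rw [hβb, hβc]
        exact c1CapFun_sub_apply hab (C1Cap.finite_gen b x) (C1Cap.finite_gen c x))
        (C1Cap.finite_gen βb _) (C1Cap.finite_gen βc _)
    have l₂ : ∀ d, g₂ d = b₂ d - c₂ d := fun d => by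
      rw [e₂, hb₂, hc₂]
      exact c1CapFun_sub_apply (fun x => by
        rw [hμb, hμc]
        exact c1CapFun_sub_apply hab (C1Cap.finite_gen b (i x)) (C1Cap.finite_gen c (i x)))
        (C1Cap.finite_gen μb _) (C1Cap.finite_gen μc _)
    have k₁ : g₁ ∈ Cyc.Zk D (fun d => δ (i d)) k := fun d hd => by rw [l₁, kb₁ d hd, kc₁ d hd, sub_zero]
    have k₂ : g₂ ∈ Cyc.Zk D (fun d => δ (i d)) k := fun d hd => by rw [l₂, kb₂ d hd, kc₂ d hd, sub_zero]
    exact ⟨k₁, k₂, by rw [qc_sub hDs k₁ kb₁ kc₁ l₁, qc_sub hDs k₂ kb₂ kc₂ l₂, qb, qc']⟩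
  -- the three parts
  have part : ∀ a : X → ℤ, (∀ x, a x ≠ 0 → α x ≠ 0) → ∃ c : AlgebraicCycle X ℤ, ⇑c = a ∧ c ∈ Cyc.Zk X δ (k + 2) :=
    fun a ha => by
      obtain ⟨c, hc⟩ := exists_cycle_affine a fun hU =>
        (cycle_finite_affine α hU).subset fun x hx => ⟨hx.1, ha x hx.2⟩
      exact ⟨c, hc, fun x hx => by
        rw [hc]
        by_contra h
        exact ha x h (hα x hx)⟩
  obtain ⟨αi, hαi, ki⟩ := part (fun x => if x ∈ Set.range i then α x else 0) fun x hx h => hx (by simp [h])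
  obtain ⟨αp, hαp, kp⟩ := part (fun x => if x ∈ Set.range i then 0 else max (α x) 0) fun x hx h => hx (by simp [h])
  obtain ⟨αn, hαn, kn⟩ := part (fun x => if x ∈ Set.range i then 0 else max (-α x) 0) fun x hx h => hx (by simp [h])
  have outGood : ∀ a : AlgebraicCycle X ℤ, a ∈ Cyc.Zk X δ (k + 2) → (∀ x, 0 ≤ a x) →
      (∀ x, a x ≠ 0 → x ∉ Set.range i) → Good a := fun a ha h0 ho g₁ g₂ e₁ e₂ =>
    gy_cap_family hX hL hD hN a ha h0 ho w hw v hv t ht g₁ g₂ e₁ e₂
  have goodP : Good αp := outGood αp kp (fun x => by rw [hαp]; dsimp only; split <;> omega)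
    fun x hx hr => hx (by rw [hαp]; exact if_pos hr)
  have goodN : Good αn := outGood αn kn (fun x => by rw [hαn]; dsimp only; split <;> omega)
    fun x hx hr => hx (by rw [hαn]; exact if_pos hr)
  have goodI : Good αi := by
    intro g₁ g₂ e₁ e₂
    have hs : ∀ x, αi x ≠ 0 → x ∈ Set.range i := fun x hx => by_contra fun h => hx (by rw [hαi]; exact if_neg h)
    obtain ⟨a', ha'⟩ := exists_comap (i := i) αi
    have hka : a' ∈ Cyc.Zk D (fun d => δ (i d)) (k + 2) := fun d hd => by rw [ha']; exact ki _ hd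
    have hβs : ∀ x, Cyc.c1CapFun δ N ⇑αi v x ≠ 0 → x ∈ Set.range i := fun x hx => by
      obtain ⟨η, hη⟩ : ∃ η, αi η * Cyc.secDivFun δ N η (v η) x ≠ 0 := by
        by_contra! h
        exact hx (finsum_eq_zero_of_forall_eq_zero h)
      exact (CycSec.secDivFun_support (right_ne_zero_of_mul hη)).1.mem_closed i.isClosedEmbedding.isClosed_range
        (hs η (left_ne_zero_of_mul hη))
    let tN : (d : D) → Cyc.secFibre N' d := fun d => CycSec.secPull i d (v (i d))
    let tL : (d : D) → Cyc.secFibre L' d := fun d => CycSec.secPull i d (vw (i d))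
    have htN : ∀ d, tN d ≠ 0 := fun d => CycSec.secPull_ne_zero i hN d (hv (i d))
    have htL : ∀ d, tL d ≠ 0 := fun d => CycSec.secPull_ne_zero i hL d (hvw (i d))
    have f₁ : ⇑g₁ = Cyc.c1CapFun (fun d => δ (i d)) L' (Cyc.c1CapFun (fun d => δ (i d)) N' ⇑a' tN) tL :=
      funext fun d => by
        rw [e₁, c1Cap_closed i hδ hL _ hβs vw (fun x _ => hvw x) d]
        refine congrFun (congrArg (fun a => Cyc.c1CapFun (fun d => δ (i d)) L' a tL) (funext fun e => ?_)) d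
        rw [c1Cap_closed i hδ hN _ hs v (fun x _ => hv x) e]
        exact congrFun (congrArg (fun a => Cyc.c1CapFun (fun d => δ (i d)) N' a tN) (funext fun z => (ha' z).symm)) e
    have f₂ : ⇑g₂ = Cyc.c1CapFun (fun d => δ (i d)) N' (Cyc.c1CapFun (fun d => δ (i d)) L' ⇑a' tL) t := by
      rw [e₂]
      refine congrArg (fun a => Cyc.c1CapFun (fun d => δ (i d)) N' a t) (funext fun d => ?_)
      rw [c1Cap_closed i hδ hL _ hs vw (fun x _ => hvw x) d]
      exact congrFun (congrArg (fun a => Cyc.c1CapFun (fun d => δ (i d)) L' a tL) (funext fun z => (ha' z).symm)) d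
    have hr := c1Cap_comm hDs hL' hN' a' hka tL tL tN t htL htL htN ht g₁ g₂ f₁ f₂
    have hk' : ∀ {M₁ M₂ : D.Modules} {g : AlgebraicCycle D ℤ} {s₁ : (d : D) → Cyc.secFibre M₁ d}
        {s₂ : (d : D) → Cyc.secFibre M₂ d},
        ⇑g = Cyc.c1CapFun (fun d => δ (i d)) M₁ (Cyc.c1CapFun (fun d => δ (i d)) M₂ ⇑a' s₂) s₁ →
        g ∈ Cyc.Zk D (fun d => δ (i d)) k := fun {M₁ M₂ g s₁ s₂} hg => by
      refine cap_mem (fun d hd => ?_) hg
      obtain ⟨η, hη⟩ : ∃ η, a' η * Cyc.secDivFun (fun d => δ (i d)) M₂ η (s₂ η) d ≠ 0 := by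
        by_contra! h
        exact hd (finsum_eq_zero_of_forall_eq_zero h)
      have h1 := (CycSec.secDivFun_support (right_ne_zero_of_mul hη)).2
      have h2 := by_contra fun h => left_ne_zero_of_mul hη (hka η h)
      simp only at h1 h2 ⊢
      omega
    exact ⟨hk' f₁, hk' f₂, qc_eq_of_ratEquiv hDs (hk' f₁) (hk' f₂) hr⟩
  obtain ⟨αo, hαo, ko⟩ := part (fun x => if x ∈ Set.range i then 0 else -α x) fun x hx h => hx (by simp [h])
  have goodO : Good αo := sub αo αn αp ko kn kp (fun x => by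
    rw [hαo, hαn, hαp]; dsimp only; split <;> omega) goodN goodP
  obtain ⟨k₁, k₂, e⟩ := sub α αi αo hα ki ko (fun x => by
    rw [hαi, hαo]; dsimp only; split <;> omega) goodI goodO γ₁ γ₂ h₁ h₂
  exact ratEquiv_of_qc hDs k₁ k₂ e

end Groth.Agent.CycK0
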