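import Groth.Agent.CycK0.Gysin
import Groth.Agent.CycK0.Comm
import Groth.Agent.C1Cap.Gysin

/-!
The Gysin class of a module is the Gysin image of its cycle.
-/

set_option autoImplicit false
set_option linter.unusedSectionVars false
set_option linter.style.haveILetI false
set_option backward.isDefEq.respectTransparency false
set_option backward.isDefEq.respectTransparency.types false

universe u

open CategoryTheory CategoryTheory.Limits AlgebraicGeometry TopologicalSpace Opposite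
open Groth.Agent.K0Dev (St)
open Groth.Agent.CDivNormal (genPrime)
open Groth.Agent.WeakAssLib (mgerm)
open scoped Pointwise

noncomputable section

attribute [local instance] Abelian.hasFiniteBiproducts

namespace Groth.Agent.CycK0

variable {X D : Scheme.{u}} [IsLocallyNoetherian X] {δ : X → ℤ} {k : ℤ}

/-- The class of a module of dimension `≤ k` is that of its cycle. -/
theorem qc_sheafFun (hX : Cyc.IsSetup X δ) {G : X.Modules} (hG : Cyc.CohLe δ k G) :
    qc δ k (Cyc.sheafFun δ k G) = Cyc.toK0CohQuot δ (k + 1) (k - 1) G := by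
  have h0 : ∀ x, 0 ≤ Cyc.sheafFun δ k G x := fun x => by
    unfold Cyc.sheafFun
    split
    · exact Int.natCast_nonneg _
    · exact le_rfl
  have hne : ∀ x, Cyc.sheafFun δ k G x ≠ 0 → δ x = k := fun x hx => by_contra fun h => hx (if_neg h)
  have hP := cohLe_cycleSheafPos (k := k) hX.2.2 (fun hU => finite_sheafFun hX.2.2 hG hU) fun x hx => (hne x hx).le
  haveI : IsEmpty (Idx (-Cyc.sheafFun δ k G)) := ⟨fun a => by
    have := a.1.2
    simp only [Pi.neg_apply] at this
    have := h0 a.1.1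
    omega⟩
  have hz : IsZero (Cyc.cycleSheafNeg (Cyc.sheafFun δ k G)) :=
    (IsZero.iff_id_eq_zero _).2 (Sigma.hom_ext _ _ fun a : Idx (-Cyc.sheafFun δ k G) => isEmptyElim a)
  rw [qc, q_small (cohLe_of_isZero hz), sub_zero]
  exact q_raise hP hG (q_eq_cycle hX hG).1.symm

omit [IsLocallyNoetherian X] in
/-- Scalars outside all the primes are regular on sums of integral subschemes. -/
lemma sigma_integers_reg {ι : Type u} (ξ : ι → X) (x : X) (hfin : {j | ξ j ⤳ x}.Finite) (c : X.presheaf.stalk x)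
    (hc : ∀ j (h : ξ j ⤳ x), c ∉ genPrime h) (m : (∐ fun j => integers (ξ j)).presheaf.stalk x)
    (hm : c • m = 0) : m = 0 := by
  obtain ⟨e⟩ := nonempty_st_sigma (fun j => integers (ξ j)) x hfin.toFinset fun j hj =>
    isZero_integers_st fun h => hj (hfin.mem_toFinset.2 h)
  refine e.injective (funext fun j => ?_)
  obtain ⟨E⟩ := exists_quot_equiv (X := X) (hfin.mem_toFinset.1 j.2)
  refine E.symm.injective ?_
  rw [map_zero, Pi.zero_apply, map_zero]
  have h1 : c • E.symm (e m j) = 0 := by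
    rw [← map_smul E.symm]
    have := congrFun (congrArg e hm) j
    rw [map_smul, map_zero, Pi.smul_apply, Pi.zero_apply] at this
    rw [this, map_zero]
  obtain ⟨b, hb⟩ := Submodule.Quotient.mk_surjective _ (E.symm (e m j))
  rw [← hb, ← Submodule.Quotient.mk_smul, Submodule.Quotient.mk_eq_zero] at h1
  rw [← hb, Submodule.Quotient.mk_eq_zero]
  exact ((inferInstance : (genPrime (hfin.mem_toFinset.1 j.2)).IsPrime).mem_or_mem h1).resolve_left (hc _ _)

omit [IsLocallyNoetherian X] in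
/-- The cycle of a sum of integral subschemes. -/
theorem sheafFun_sigma_idx [IsLocallyNoetherian X] (hδ : Cyc.IsDimFun X δ) (a : X → ℤ) (h0 : ∀ x, 0 ≤ a x)
    (hfin : ∀ {U : X.Opens}, IsAffineOpen U → {x : X | x ∈ U ∧ a x ≠ 0}.Finite)
    (ha : ∀ x, a x ≠ 0 → δ x = k + 1) :
    Cyc.CohLe δ (k + 1) (∐ fun j : Idx a => integers (j.1.1 : X)) ∧
      Cyc.sheafFun δ (k + 1) (∐ fun j : Idx a => integers (j.1.1 : X)) = a := by
  classical
  let ξ : Idx a → X := fun j => j.1.1
  have hξ : ∀ j, δ (ξ j) = k + 1 := fun j => ha _ j.1.2.ne'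
  have hξa : ∀ j, a (ξ j) ≠ 0 := fun j => j.1.2.ne'
  let N := fun j => integers (ξ j)
  have hpt : ∀ x : X, {j | ξ j ⤳ x}.Finite := fun x => by
    obtain ⟨U, hU, hxU, -⟩ := exists_isAffineOpen_mem_and_subset (x := x) (U := (⊤ : X.Opens)) trivial
    exact (finite_idx (hfin hU)).subset fun j hj => hj.mem_open U.2 hxU
  have hd : ∀ j x, k + 1 < δ x → ¬ ξ j ⤳ x := fun j x hx h => by
    by_cases he : ξ j = x
    · have := hξ j; rw [he] at this; omega
    · have := (hδ _ _ h he).1; have := hξ j; omega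
  have hN : ∀ j, Cyc.CohLe δ (k + 1) (N j) := fun j => (cohLe_iff δ _).2
    ⟨isCoh_integers _, fun x hx => isZero_integers_st (hd j x hx)⟩
  have hQ : Cyc.CohLe δ (k + 1) (∐ N) := (cohLe_iff δ _).2
    ⟨isCoh_sigma N (fun j => (hN j).1) fun V => ⟨(finite_idx (hfin V.2)).toFinset, fun j hj x hx =>
      isZero_integers_st fun h => hj ((finite_idx (hfin V.2)).mem_toFinset.2 (h.mem_open V.1.2 hx))⟩,
      fun x hx => isZero_st_sigma N x fun j => isZero_integers_st (hd j x hx)⟩
  refine ⟨hQ, funext fun x => ?_⟩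
  by_cases hx : δ x = k + 1
  swap
  · rw [Cyc.sheafFun, if_neg hx]
    exact (by_contra fun h => hx (ha x (Ne.symm h)) : (0 : ℤ) = a x)
  have hf : {j | ξ j = x}.Finite := (hpt x).subset fun j (h : ξ j = x) => h ▸ specializes_rfl
  have hz : ∀ j, j ∉ hf.toFinset → IsZero ((St x).obj (N j)) := fun j hj => isZero_integers_st fun h =>
    hj (hf.mem_toFinset.2 (CycDim.eq_of_delta_le hδ h (by rw [hξ j, hx])))
  rw [sheafFun_sigma hδ N hN x hf.toFinset hz, Finset.sum_congr rfl fun j hj => show _ = (1 : ℤ) by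
    obtain rfl : ξ j = x := hf.mem_toFinset.1 hj
    exact sheafFun_integers (hξ j)]
  simp only [Finset.sum_const, nsmul_one]
  by_cases hp : 0 < a x
  · have hc : hf.toFinset = (Finset.univ : Finset (Fin (a x).toNat)).image fun n => (⟨⟨x, hp⟩, n⟩ : Idx a) := by
      ext j
      rw [hf.mem_toFinset, Finset.mem_image]
      constructor
      · intro h
        obtain ⟨⟨ζ, hζ⟩, n⟩ := j
        obtain rfl : ζ = x := h
        exact ⟨n, Finset.mem_univ _, rfl⟩
      · rintro ⟨n, -, rfl⟩; rfl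
    rw [hc, Finset.card_image_of_injective _ fun n n' h => by simpa using h, Finset.card_univ, Fintype.card_fin]
    exact Int.toNat_of_nonneg hp.le
  · have hc : hf.toFinset = ∅ := Finset.eq_empty_of_forall_notMem fun j hj =>
      hp ((hf.mem_toFinset.1 hj : ξ j = x) ▸ j.1.2)
    rw [hc, Finset.card_empty]
    have := h0 x
    omega

/-- Modules representing a cycle with no embedded structure. -/
theorem exists_intRep (hδ : Cyc.IsDimFun X δ) (a : X → ℤ) (h0 : ∀ x, 0 ≤ a x)
    (hfin : ∀ {U : X.Opens}, IsAffineOpen U → {x : X | x ∈ U ∧ a x ≠ 0}.Finite)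
    (ha : ∀ x, a x ≠ 0 → δ x = k + 1) :
    ∃ Q : X.Modules, Cyc.CohLe δ (k + 1) Q ∧ Cyc.sheafFun δ (k + 1) Q = a ∧
      (∀ (x : X) (c : X.presheaf.stalk x), (∀ ξ (h : ξ ⤳ x), a ξ ≠ 0 → c ∉ genPrime h) →
        ∀ m : Q.presheaf.stalk x, c • m = 0 → m = 0) ∧
      (∀ (x : X) (c : X.presheaf.stalk x), (∀ ξ (h : ξ ⤳ x), a ξ ≠ 0 → c ∈ genPrime h) →
        ∀ m : Q.presheaf.stalk x, c • m = 0) := by
  classical
  let ξ : Idx a → X := fun j => j.1.1
  have hξa : ∀ j, a (ξ j) ≠ 0 := fun j => j.1.2.ne'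
  let N := fun j => integers (ξ j)
  have hpt : ∀ x : X, {j | ξ j ⤳ x}.Finite := fun x => by
    obtain ⟨U, hU, hxU, -⟩ := exists_isAffineOpen_mem_and_subset (x := x) (U := (⊤ : X.Opens)) trivial
    exact (finite_idx (hfin hU)).subset fun j hj => hj.mem_open U.2 hxU
  obtain ⟨hQ, hQa⟩ := sheafFun_sigma_idx hδ a h0 hfin ha
  refine ⟨∐ N, hQ, hQa, fun x c hc m hm => ?_, fun x c hc m => ?_⟩
  · exact sigma_integers_reg ξ x (hpt x) c (fun j h => hc _ h (hξa j)) m hm
  · obtain ⟨e⟩ := nonempty_st_sigma N x (hpt x).toFinset fun j hj =>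
      isZero_integers_st fun h => hj ((hpt x).mem_toFinset.2 h)
    refine e.injective (funext fun j => ?_)
    obtain ⟨E⟩ := exists_quot_equiv (X := X) ((hpt x).mem_toFinset.1 j.2)
    refine E.symm.injective ?_
    rw [map_zero, Pi.zero_apply, map_zero, map_smul, Pi.smul_apply, map_smul]
    obtain ⟨b, hb⟩ := Submodule.Quotient.mk_surjective _ (E.symm (e m j))
    rw [← hb, ← Submodule.Quotient.mk_smul, Submodule.Quotient.mk_eq_zero]
    exact Ideal.mul_mem_right b _ (hc _ _ (hξa _))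

variable {L : X.Modules} {s : Γ(L, (⊤ : X.Opens))} {i : D ⟶ X} [IsClosedImmersion i]

omit [IsLocallyNoetherian X] in
lemma gysinChoice_ne_zero {w : (ξ : X) → Cyc.secFibre L ξ} (hw : ∀ ξ, w ξ ≠ 0) (ξ : X) :
    Cyc.gysinChoice L s w ξ ≠ 0 := by
  unfold Cyc.gysinChoice
  split
  · assumption
  · exact hw ξ

omit [IsLocallyNoetherian X] in
/-- The section is injective where its coefficient is. -/
lemma isZero_gK (hL : PicF.IsInvertible L) {Q : X.Modules}
    (hreg : ∀ (x : X) {A : X.Opens} {e : Γ(L, A)}, TMul.IsGen e → ∀ (hx : x ∈ A) (c : X.presheaf.stalk x),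
      mgerm L (show x ∈ (⊤ : X.Opens) from trivial) s = c • mgerm L hx e →
        ∀ m : Q.presheaf.stalk x, c • m = 0 → m = 0) : IsZero (gK s Q) :=
  (K0Dev.isZero_iff_stalks _).2 fun x => by
    obtain ⟨A, e, hx, he, c, hc⟩ := exists_coefficient hL s x
    obtain ⟨g, hg⟩ := exists_sigT_frame he hx hc Q
    haveI : Mono ((St x).map ((sigT s).app Q)) := (ModuleCat.mono_iff_injective _).2
      ((injective_iff_map_eq_zero _).2 fun z hz => g.injective (by
        rw [map_zero]
        refine hreg x he hx c hc (g z) ((theta he hx Q).injective ?_)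
        rw [map_smul, map_zero]
        exact (hg z).symm.trans hz))
    exact IsZero.of_mono_eq_zero ((St x).map (kernel.ι ((sigT s).app Q))) ((cancel_mono ((St x).map ((sigT s).app Q))).1
      (by rw [← Functor.map_comp, kernel.condition, Functor.map_zero, zero_comp]))

set_option maxHeartbeats 1000000 in
/-- Where the section is regular. -/
theorem gy_of_regular (hX : Cyc.IsSetup X δ) (hL : PicF.IsInvertible L) (hD : Cyc.IsZeroSchemeOf i L s)
    {Q : X.Modules} (hQ : Cyc.CohLe δ (k + 1) Q) (a : X → ℤ) (hQa : Cyc.sheafFun δ (k + 1) Q = a)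
    (hout : ∀ ξ, a ξ ≠ 0 → ξ ∉ Set.range i)
    (hinj : ∀ (x : X) (c : X.presheaf.stalk x), (∀ ξ (h : ξ ⤳ x), a ξ ≠ 0 → c ∉ genPrime h) →
      ∀ m : Q.presheaf.stalk x, c • m = 0 → m = 0)
    (w : (ξ : X) → Cyc.secFibre L ξ) :
    ∃ γ : AlgebraicCycle D ℤ, γ ∈ Cyc.Zk D (fun d => δ (i d)) k ∧
      (∀ d, γ d = Cyc.c1CapFun δ L a (Cyc.gysinChoice L s w) (i d)) ∧
      qc (fun d => δ (i d)) k ⇑γ = gy s δ k i Q ∧
      ⇑γ = Cyc.sheafFun (fun d => δ (i d)) k ((Scheme.Modules.pullback i).obj (gC s Q)) := by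
  haveI : IsLocallyNoetherian D := LocallyOfFiniteType.isLocallyNoetherian i
  haveI := hQ.1.1
  have hDs := isSetup_closed i hX
  have hreg : ∀ (x : X) {A : X.Opens} {e : Γ(L, A)}, TMul.IsGen e → ∀ (hx : x ∈ A) (c : X.presheaf.stalk x),
      mgerm L (show x ∈ (⊤ : X.Opens) from trivial) s = c • mgerm L hx e →
        ∀ m : Q.presheaf.stalk x, c • m = 0 → m = 0 := fun x A e he hx c hc m hm =>
    hinj x c (fun ξ h hξ hcm => hout ξ hξ ((mem_genPrime_iff_mem_range hD h he hx hc).1 hcm)) m hm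
  have hK : IsZero (gK s Q) := isZero_gK hL hreg
  obtain ⟨hkK, hkC⟩ := killLe_gK_gC (δ := δ) (k := k) hL hD hQ
  -- lengths at the points of the zero scheme
  have hfun : ∀ d, Cyc.c1CapFun δ L a (Cyc.gysinChoice L s w) (i d) =
      Cyc.sheafFun (fun d => δ (i d)) k ((Scheme.Modules.pullback i).obj (gC s Q)) d := fun d => by
    rw [← hQa, C1Cap.gysin_sheafFun hX.2.2 hL s i hD k Q hQ.1.2 hQ.2 ?_ w d, sheafFun_pullback i hkC.1]
    · simp only [Cyc.sheafFun]
      split
      · refine congrArg (fun n : ℕ∞ => ((n.toNat : ℕ) : ℤ)) ?_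
        obtain ⟨A, e, hx, he, c, hc⟩ := exists_coefficient hL s (i d)
        obtain ⟨g, hg⟩ := exists_sigT_frame he hx hc Q
        rw [C1Cap.length_pullback_closed i Q d (ker_eq_span hD d he hx hc), length_coker_st]
        refine (Submodule.Quotient.equiv _ _ (theta he hx Q) ?_).length_eq
        ext z
        simp only [Submodule.mem_map, Submodule.mem_smul_pointwise_iff_exists, Submodule.mem_top, true_and,
          LinearMap.mem_range]
        constructor
        · rintro ⟨_, ⟨b, rfl⟩, rfl⟩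
          exact ⟨g.symm b, (hg _).trans (by rw [g.apply_symm_apply]; exact (map_smul _ c b).symm)⟩
        · rintro ⟨b, rfl⟩
          exact ⟨c • g b, ⟨g b, rfl⟩, (map_smul _ c (g b)).trans (hg b).symm⟩
      · rfl
    · intro x t f ht hs a b hab
      obtain ⟨A, e, hx, he⟩ := TMul.exists_isGen hL x
      obtain ⟨r, hr⟩ := (RefDiv.bijective_germ_of_isGen he hx).2 t
      change r • mgerm L hx e = t at hr
      refine sub_eq_zero.1 (hreg x he hx (f * r) (hs.trans (by rw [← hr, smul_smul])) (a - b) ?_)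
      rw [mul_comm, mul_smul, smul_sub, show f • a = f • b from hab, sub_self, smul_zero]
  have hC : Cyc.CohLe (fun d => δ (i d)) k ((Scheme.Modules.pullback i).obj (gC s Q)) :=
    (cohLe_iff _ k).2 ⟨(cohLe_pullback i hkC.2).1, fun d hd => by
      by_cases h1 : k + 1 < δ (i d)
      · exact ((cohLe_iff _ _).1 (cohLe_pullback i hkC.2)).2 d h1
      have hd1 : δ (i d) = k + 1 := by omega
      refine isZero_pullback_st i _ d (IsZero.of_epi ((St (i d)).map (cokernel.π ((sigT s).app Q))) ?_)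
      refine ((((exists_twistStIso hL (i d)).some.app Q)).isZero_iff).2 ?_
      have : Subsingleton ((St (i d)).obj Q) := by
        have h0 : a (i d) = 0 := by_contra fun h => hout _ h ⟨d, rfl⟩
        rw [← hQa, Cyc.sheafFun, if_pos hd1, Int.natCast_eq_zero, ENat.toNat_eq_zero] at h0
        exact (Module.length_eq_zero_iff (R := X.presheaf.stalk (i d))).1
          (h0.resolve_right (length_ne_top hX.2.2 hQ hd1))
      exact ModuleCat.isZero_of_subsingleton _⟩
  obtain ⟨γ, hγ⟩ := exists_cycle_affine _ fun {U} hU => finite_sheafFun hDs.2.2 hC hU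
  refine ⟨γ, fun d hd => ?_, fun d => by rw [hγ, hfun], ?_, hγ⟩
  · rw [hγ]
    exact if_neg hd
  rw [hγ, qc_sheafFun hDs hC, gy,
    show qD δ k i (gK s Q) = 0 from q_small (cohLe_of_isZero ((Scheme.Modules.pullback i).map_isZero hK)), sub_zero]

set_option maxHeartbeats 1000000 in
/-- Where the section vanishes. -/
theorem gy_of_vanishing (hX : Cyc.IsSetup X δ) (hL : PicF.IsInvertible L) (hD : Cyc.IsZeroSchemeOf i L s)
    {Q : X.Modules} (hQ : Cyc.CohLe δ (k + 1) Q) (a : X → ℤ) (hQa : Cyc.sheafFun δ (k + 1) Q = a)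
    (hin : ∀ ξ, a ξ ≠ 0 → ξ ∈ Set.range i)
    (hz : ∀ (x : X) (c : X.presheaf.stalk x), (∀ ξ (h : ξ ⤳ x), a ξ ≠ 0 → c ∈ genPrime h) →
      ∀ m : Q.presheaf.stalk x, c • m = 0)
    (w : (ξ : X) → Cyc.secFibre L ξ) (hw : ∀ ξ, w ξ ≠ 0) :
    ∃ γ : AlgebraicCycle D ℤ, γ ∈ Cyc.Zk D (fun d => δ (i d)) k ∧
      (∀ d, γ d = Cyc.c1CapFun δ L a (Cyc.gysinChoice L s w) (i d)) ∧
      qc (fun d => δ (i d)) k ⇑γ = gy s δ k i Q := by
  haveI : IsLocallyNoetherian D := LocallyOfFiniteType.isLocallyNoetherian i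
  haveI := hQ.1.1
  have hDs := isSetup_closed i hX
  let L' := (Scheme.Modules.pullback i).obj L
  have hL' : PicF.IsInvertible L' := PicLoc.isInvertible_pullback i hL
  have hσ : (sigT s).app Q = 0 := by
    let σ := (sigT s).app Q
    have hI : IsZero (Abelian.image σ) := (K0Dev.isZero_iff_stalks _).2 fun x => by
      obtain ⟨A, e, hx, he, c, hc⟩ := exists_coefficient hL s x
      obtain ⟨g, hg⟩ := exists_sigT_frame he hx hc Q
      have h0 : (St x).map σ = 0 := ModuleCat.hom_ext (LinearMap.ext fun z => by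
        refine (hg z).trans ?_
        rw [← map_smul, hz x c (fun ξ h hξ => (mem_genPrime_iff_mem_range hD h he hx hc).2 (hin ξ hξ)) (g z)]
        exact map_zero (theta he hx Q))
      refine IsZero.of_epi_eq_zero ((St x).map (Abelian.factorThruImage σ))
        ((cancel_mono ((St x).map (Abelian.image.ι σ))).1 ?_)
      rw [← Functor.map_comp, Abelian.image.fac, h0, zero_comp]
    exact (Abelian.image.fac σ).symm.trans (by rw [hI.eq_of_tgt (Abelian.factorThruImage σ) 0, zero_comp])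
  haveI : IsIso (cokernel.π ((sigT s).app Q)) := by rw [hσ]; infer_instance
  haveI : IsIso (kernel.ι ((sigT s).app Q)) := by rw [hσ]; infer_instance
  obtain ⟨hkK, hkC⟩ := killLe_gK_gC (δ := δ) (k := k) hL hD hQ
  have hQk : Killed i Q := hkK.1.of_epi (kernel.ι ((sigT s).app Q))
  let F := (Scheme.Modules.pullback i).obj Q
  have hF : Cyc.CohLe (fun d => δ (i d)) (k + 1) F := cohLe_pullback i hQ
  let t : (d : D) → Cyc.secFibre L' d := fun d => CycSec.secPull i d (Cyc.gysinChoice L s w (i d))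
  have ht : ∀ d, t d ≠ 0 := fun d => CycSec.secPull_ne_zero i hL d (gysinChoice_ne_zero hw (i d))
  obtain ⟨γ, hγ⟩ := exists_capCycle hDs hL' hF t ht
  have hγk : γ ∈ Cyc.Zk D (fun d => δ (i d)) k := capCycle_mem hγ
  have hfun : Cyc.sheafFun (fun d => δ (i d)) (k + 1) F = fun d => a (i d) := funext fun d => by
    rw [sheafFun_pullback i hQk, hQa]
  refine ⟨γ, hγk, fun d => ?_, ?_⟩
  · rw [hγ, hfun, c1Cap_closed i hX.2.2 hL a hin (Cyc.gysinChoice L s w) (fun ξ _ => gysinChoice_ne_zero hw ξ) d]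
  · have e1 : qD δ k i (gK s Q) = Cyc.toK0CohQuot (fun d => δ (i d)) (k + 1) (k - 1) F :=
      qD_iso (asIso (kernel.ι ((sigT s).app Q)))
    have e2 : qD δ k i (gC s Q) = Cyc.toK0CohQuot (fun d => δ (i d)) (k + 1) (k - 1) ((twist L').obj F) :=
      (qD_iso (asIso (cokernel.π ((sigT s).app Q)))).symm.trans (q_iso (KFlat.pullTensorIso i Q L).symm)
    rw [gy, e1, e2, q_twist_sub hDs hL' hF t ht γ hγk hγ]
    rfl

set_option maxHeartbeats 1000000 in
/-- The Gysin class of a module is the Gysin image of its cycle. -/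
theorem gy_eq_qc (hX : Cyc.IsSetup X δ) (hL : PicF.IsInvertible L) (hD : Cyc.IsZeroSchemeOf i L s)
    {Q : X.Modules} (hQ : Cyc.CohLe δ (k + 1) Q) (w : (ξ : X) → Cyc.secFibre L ξ) (hw : ∀ ξ, w ξ ≠ 0)
    (γ : AlgebraicCycle D ℤ)
    (hγ : ∀ d, γ d = Cyc.c1CapFun δ L (Cyc.sheafFun δ (k + 1) Q) (Cyc.gysinChoice L s w) (i d)) :
    γ ∈ Cyc.Zk D (fun d => δ (i d)) k ∧ qc (fun d => δ (i d)) k ⇑γ = gy s δ k i Q := by
  classical
  haveI : IsLocallyNoetherian D := LocallyOfFiniteType.isLocallyNoetherian i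
  have hδ := hX.2.2
  have hDs := isSetup_closed i hX
  let a := Cyc.sheafFun δ (k + 1) Q
  let ao : X → ℤ := fun x => if x ∈ Set.range i then 0 else a x
  let ai : X → ℤ := fun x => if x ∈ Set.range i then a x else 0
  have ha0 : ∀ x, 0 ≤ a x := fun x => by
    simp only [a, Cyc.sheafFun]
    split
    · exact Int.natCast_nonneg _
    · exact le_rfl
  have hak : ∀ x, a x ≠ 0 → δ x = k + 1 := fun x hx => by_contra fun h => hx (if_neg h)
  have so : ∀ x, ao x ≠ 0 → a x ≠ 0 := fun x hx h => hx (by simp only [ao]; split <;> simp [h])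
  have si : ∀ x, ai x ≠ 0 → a x ≠ 0 := fun x hx h => hx (by simp only [ai]; split <;> simp [h])
  obtain ⟨Ro, hRo, hRoa, hRinj, -⟩ := exists_intRep (k := k) hδ ao (fun x => by
      simp only [ao]; split; exacts [le_rfl, ha0 x])
    (fun hU => (finite_sheafFun hδ hQ hU).subset fun x hx => ⟨hx.1, so x hx.2⟩) fun x hx => hak x (so x hx)
  obtain ⟨Ri, hRi, hRia, -, hRz⟩ := exists_intRep (k := k) hδ ai (fun x => by
      simp only [ai]; split; exacts [ha0 x, le_rfl])
    (fun hU => (finite_sheafFun hδ hQ hU).subset fun x hx => ⟨hx.1, si x hx.2⟩) fun x hx => hak x (si x hx)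
  obtain ⟨γo, hok, ho, hqo, -⟩ := gy_of_regular hX hL hD hRo ao hRoa
    (fun ξ h hr => h (by simp only [ao]; exact if_pos hr)) hRinj w
  obtain ⟨γi, hik, hi, hqi⟩ := gy_of_vanishing hX hL hD hRi ai hRia
    (fun ξ h => by_contra fun hr => h (by simp only [ai]; exact if_neg hr)) hRz w hw
  have hR : Cyc.CohLe δ (k + 1) (Ro ⊞ Ri) := cohLe_biprod hRo hRi
  have hcl : Cyc.toK0CohQuot δ (k + 1) k Q = Cyc.toK0CohQuot δ (k + 1) k (Ro ⊞ Ri) := by
    have h1 := (q_eq_cycle hX hQ).1
    have h2 := (q_eq_cycle hX hR).1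
    rw [add_sub_cancel_right] at h1 h2
    rw [h1, h2, sheafFun_biprod hX hRo hRi, hRoa, hRia]
    refine congrArg (fun z => Cyc.toK0CohQuot δ (k + 1) k (Cyc.cycleSheafPos z)) (funext fun x => ?_)
    show a x = ao x + ai x
    simp only [ao, ai]
    split <;> simp
  have hS : (ShortComplex.mk (biprod.inl : Ro ⟶ Ro ⊞ Ri) biprod.snd biprod.inl_snd).ShortExact :=
    (ShortComplex.Splitting.ofHasBinaryBiproduct Ro Ri).shortExact
  have hc := gy_congr (s := s) hX hL hD hQ hR hcl
  have hd : gy s δ k i (Ro ⊞ Ri) = gy s δ k i Ro + gy s δ k i Ri :=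
    gy_add (S := ShortComplex.mk (biprod.inl : Ro ⟶ Ro ⊞ Ri) biprod.snd biprod.inl_snd) hL hD hS hRo hR hRi
  have hgy : gy s δ k i Q = gy s δ k i Ro + gy s δ k i Ri := hc.trans hd
  have hsum : ∀ d, γi d = γ d - γo d := fun d => by
    rw [hi, hγ, ho]
    refine c1CapFun_sub_apply (fun x => ?_) (finite_gen_sheafFun hδ hQ (i d))
      ((finite_gen_sheafFun hδ hQ (i d)).subset fun x hx => ⟨hx.1, so x hx.2⟩)
    show ai x = a x - ao x
    simp only [ao, ai]
    split <;> simp
  have hγk : γ ∈ Cyc.Zk D (fun d => δ (i d)) k := fun d hd => by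
    have := hsum d
    rw [hik d hd, hok d hd, sub_zero] at this
    exact this.symm
  refine ⟨hγk, ?_⟩
  rw [hgy, ← hqo, ← hqi, qc_sub hDs hik hγk hok hsum]
  abel

end Groth.Agent.CycK0
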