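import Groth.Agent.CycK0.GysComm

/-!
Morphisms which are a multiple of an isomorphism at a stalk, and two sections acting on one module.
-/

set_option autoImplicit false
set_option linter.unusedSectionVars false
set_option linter.style.haveILetI false
set_option backward.isDefEq.respectTransparency false
set_option backward.isDefEq.respectTransparency.types false

universe u

open CategoryTheory CategoryTheory.Limits AlgebraicGeometry TopologicalSpace Opposite
open Groth.Agent.K0Dev (St)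
open Groth.Agent.WeakAssLib (mgerm)

noncomputable section

attribute [local instance] Abelian.hasFiniteBiproducts

namespace Groth.Agent.CycK0

variable {X D : Scheme.{u}}

/-- At the point the morphism is `c` times an isomorphism. -/
def MulAt (x : X) {A B : X.Modules} (φ : A ⟶ B) (c : X.presheaf.stalk x) : Prop :=
  ∃ g : A.presheaf.stalk x ≃ₗ[X.presheaf.stalk x] B.presheaf.stalk x, ∀ m, ((St x).map φ).hom m = c • g m

lemma mulAt_sigT {L : X.Modules} {s : Γ(L, (⊤ : X.Opens))} {A : X.Opens} {e : Γ(L, A)} (he : TMul.IsGen e) {x : X}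
    (hx : x ∈ A) {c : X.presheaf.stalk x}
    (hc : mgerm L (show x ∈ (⊤ : X.Opens) from trivial) s = c • mgerm L hx e) (F : X.Modules) :
    MulAt x ((sigT s).app F) c := by
  obtain ⟨g, hg⟩ := exists_sigT_frame he hx hc F
  exact ⟨g.trans (theta he hx F), fun m => (hg m).trans rfl⟩

lemma MulAt.twist_map {x : X} {F G : X.Modules} {φ : F ⟶ G} {c : X.presheaf.stalk x} (h : MulAt x φ c)
    {N : X.Modules} (hN : PicF.IsInvertible N) : MulAt x ((twist N).map φ) c := by
  obtain ⟨g, hg⟩ := h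
  obtain ⟨A, e, hx, he⟩ := TMul.exists_isGen hN x
  refine ⟨((theta he hx F).symm.trans g).trans (theta he hx G), fun m => ?_⟩
  obtain ⟨m, rfl⟩ := (theta he hx F).surjective m
  rw [theta_natural, hg, map_smul]
  show c • theta he hx G (g m) = c • theta he hx G (g ((theta he hx F).symm (theta he hx F m)))
  rw [LinearEquiv.symm_apply_apply]

/-- A morphism with vanishing stalks vanishes. -/
lemma eq_zero_of_st {A B : X.Modules} (φ : A ⟶ B) (h : ∀ x m, ((St x).map φ).hom m = 0) : φ = 0 := by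
  have hI : IsZero (Abelian.image φ) := (K0Dev.isZero_iff_stalks _).2 fun x => by
    have h0 : (St x).map φ = 0 := ModuleCat.hom_ext (LinearMap.ext fun z => h x z)
    refine IsZero.of_epi_eq_zero ((St x).map (Abelian.factorThruImage φ))
      ((cancel_mono ((St x).map (Abelian.image.ι φ))).1 ?_)
    rw [← Functor.map_comp, Abelian.image.fac, h0, zero_comp]
  rw [← Abelian.image.fac φ, hI.eq_of_tgt (Abelian.factorThruImage φ) 0, zero_comp]

/-- Multiples of isomorphisms by coefficients generating the same ideals. -/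
theorem nonempty_kerCoker_iso {A B B' : X.Modules} (φ : A ⟶ B) (ψ : A ⟶ B') (e : B ≅ B')
    (h : ∀ x, ∃ c c' : X.presheaf.stalk x, Ideal.span {c} = Ideal.span {c'} ∧ MulAt x φ c ∧ MulAt x ψ c') :
    Nonempty (kernel φ ≅ kernel ψ) ∧ Nonempty (cokernel φ ≅ cokernel ψ) := by
  have hker : ∀ x m, ((St x).map φ).hom m = 0 ↔ ((St x).map ψ).hom m = 0 := fun x m => by
    obtain ⟨c, c', hspan, ⟨g, hg⟩, g', hg'⟩ := h x
    obtain ⟨a, ha⟩ := Ideal.mem_span_singleton'.1 (hspan ▸ Ideal.mem_span_singleton_self c : c ∈ Ideal.span {c'})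
    obtain ⟨b, hb⟩ := Ideal.mem_span_singleton'.1 (hspan.symm ▸ Ideal.mem_span_singleton_self c' : c' ∈ Ideal.span {c})
    rw [hg, hg', ← map_smul, ← map_smul, g.map_eq_zero_iff, g'.map_eq_zero_iff]
    exact ⟨fun h0 => by rw [← hb, mul_smul, h0, smul_zero], fun h0 => by rw [← ha, mul_smul, h0, smul_zero]⟩
  have key : ∀ {B B' : X.Modules} (φ : A ⟶ B) (ψ : A ⟶ B'),
      (∀ x m, ((St x).map φ).hom m = 0 → ((St x).map ψ).hom m = 0) → kernel.ι φ ≫ ψ = 0 :=
    fun φ ψ h => eq_zero_of_st _ fun x m => by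
      rw [Functor.map_comp, ModuleCat.hom_comp, LinearMap.comp_apply]
      refine h x _ ?_
      have h0 : (St x).map (kernel.ι φ) ≫ (St x).map φ = 0 := by
        rw [← Functor.map_comp, kernel.condition, Functor.map_zero]
      exact LinearMap.congr_fun (congrArg ModuleCat.Hom.hom h0) m
  refine ⟨⟨{ hom := kernel.lift ψ (kernel.ι φ) (key φ ψ fun x m => (hker x m).1)
             inv := kernel.lift φ (kernel.ι ψ) (key ψ φ fun x m => (hker x m).2)
             hom_inv_id := equalizer.hom_ext (by simp)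
             inv_hom_id := equalizer.hom_ext (by simp) }⟩, ?_⟩
  obtain ⟨f⟩ := nonempty_coker_of_range φ (ψ ≫ e.inv) fun x => by
    obtain ⟨c, c', hspan, ⟨g, hg⟩, g', hg'⟩ := h x
    obtain ⟨a, ha⟩ := Ideal.mem_span_singleton'.1 (hspan ▸ Ideal.mem_span_singleton_self c : c ∈ Ideal.span {c'})
    obtain ⟨b, hb⟩ := Ideal.mem_span_singleton'.1 (hspan.symm ▸ Ideal.mem_span_singleton_self c' : c' ∈ Ideal.span {c})
    let E := g'.trans ((St x).mapIso e.symm).toLinearEquiv
    have hE : ∀ m, ((St x).map (ψ ≫ e.inv)).hom m = c' • E m := fun m => by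
      rw [Functor.map_comp, ModuleCat.hom_comp, LinearMap.comp_apply, hg', map_smul]
      rfl
    ext z
    constructor
    · rintro ⟨m, rfl⟩
      exact ⟨E.symm (a • g m), by rw [hE, E.apply_symm_apply, smul_smul, mul_comm, ha, ← hg]⟩
    · rintro ⟨m, rfl⟩
      exact ⟨g.symm (b • E m), by rw [hg, g.apply_symm_apply, smul_smul, mul_comm, hb, ← hE]⟩
  exact ⟨f ≪≫ cokernelCompIsIso ψ e.inv⟩

/-- Multiples of isomorphisms descend to quotients. -/
theorem MulAt.descend {A B A' B' C C' : X.Modules} {b : A ⟶ B} {b' : A' ⟶ B'} {p : B ⟶ C} {p' : B' ⟶ C'}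
    (w : b ≫ p = 0) (w' : b' ≫ p' = 0) (hex : (ShortComplex.mk b p w).Exact)
    (hex' : (ShortComplex.mk b' p' w').Exact) [Epi p] [Epi p'] {d : B ⟶ B'} {f : C ⟶ C'}
    (comm : p ≫ f = d ≫ p') {x : X} {c c' : X.presheaf.stalk x} (hb : MulAt x b c') (hb' : MulAt x b' c')
    (hd : MulAt x d c) : MulAt x f c := by
  obtain ⟨gb, hgb⟩ := hb
  obtain ⟨gb', hgb'⟩ := hb'
  obtain ⟨h, hh⟩ := hd
  let π := ((St x).map p).hom
  let π' := ((St x).map p').hom
  have hsurj : Function.Surjective π := (ModuleCat.epi_iff_surjective ((St x).map p)).1 inferInstance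
  have hsurj' : Function.Surjective π' := (ModuleCat.epi_iff_surjective ((St x).map p')).1 inferInstance
  have kb : LinearMap.ker π = LinearMap.range (c' • LinearMap.id (R := X.presheaf.stalk x) (M := B.presheaf.stalk x)) := by
    ext z
    have h0 := (ShortComplex.moduleCat_exact_iff _).1 (hex.map (St x))
    refine ⟨fun hz => ?_, ?_⟩
    · obtain ⟨m, hm⟩ := h0 z hz
      exact ⟨gb m, (hgb m).symm.trans hm⟩
    · rintro ⟨m, rfl⟩
      obtain ⟨n, rfl⟩ := gb.surjective m
      show π (c' • gb n) = 0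
      rw [← hgb]
      have hw : (St x).map b ≫ (St x).map p = 0 := by rw [← Functor.map_comp, w, Functor.map_zero]
      exact LinearMap.congr_fun (congrArg ModuleCat.Hom.hom hw) n
  have kb' : LinearMap.ker π' = LinearMap.range (c' • LinearMap.id (R := X.presheaf.stalk x) (M := B'.presheaf.stalk x)) := by
    ext z
    have h0 := (ShortComplex.moduleCat_exact_iff _).1 (hex'.map (St x))
    refine ⟨fun hz => ?_, ?_⟩
    · obtain ⟨m, hm⟩ := h0 z hz
      exact ⟨gb' m, (hgb' m).symm.trans hm⟩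
    · rintro ⟨m, rfl⟩
      obtain ⟨n, rfl⟩ := gb'.surjective m
      show π' (c' • gb' n) = 0
      rw [← hgb']
      have hw : (St x).map b' ≫ (St x).map p' = 0 := by rw [← Functor.map_comp, w', Functor.map_zero]
      exact LinearMap.congr_fun (congrArg ModuleCat.Hom.hom hw) n
  have hmap : (LinearMap.ker π).map (h : B.presheaf.stalk x →ₗ[X.presheaf.stalk x] B'.presheaf.stalk x) =
      LinearMap.ker π' := by
    rw [kb, kb']
    ext z
    constructor
    · rintro ⟨_, ⟨m, rfl⟩, rfl⟩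
      exact ⟨h m, (map_smul h c' m).symm⟩
    · rintro ⟨m, rfl⟩
      exact ⟨c' • h.symm m, ⟨h.symm m, rfl⟩, by
        show h (c' • h.symm m) = c' • m
        rw [map_smul, h.apply_symm_apply]⟩
  let e₁ := π.quotKerEquivOfSurjective hsurj
  let e₂ := π'.quotKerEquivOfSurjective hsurj'
  let q := Submodule.Quotient.equiv _ _ h hmap
  refine ⟨(e₁.symm.trans q).trans e₂, fun z => ?_⟩
  obtain ⟨m, rfl⟩ := hsurj z
  have h1 : e₁.symm (π m) = Submodule.Quotient.mk m := e₁.symm_apply_eq.2 rfl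
  have h2 : ((St x).map f).hom (π m) = π' (((St x).map d).hom m) :=
    LinearMap.congr_fun (congrArg ModuleCat.Hom.hom (((St x).map_comp p f).symm.trans
      ((congrArg (St x).map comm).trans ((St x).map_comp d p')))) m
  show _ = c • e₂ (q (e₁.symm (π m)))
  rw [h1, h2, hh, map_smul]
  rfl

variable [IsLocallyNoetherian X] {L L' : X.Modules} {s : Γ(L, (⊤ : X.Opens))} {s' : Γ(L', (⊤ : X.Opens))}

set_option maxHeartbeats 1000000 in
/-- The Koszul homology of two sections is symmetric. -/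
theorem nonempty_gK_gC_swap (hL : PicF.IsInvertible L) (hL' : PicF.IsInvertible L') {R : X.Modules}
    (ha : IsZero (gK s R))
    (hb : ∀ (x : X) {A : X.Opens} {e : Γ(L', A)}, TMul.IsGen e → ∀ (hx : x ∈ A) (c : X.presheaf.stalk x),
      mgerm L' (show x ∈ (⊤ : X.Opens) from trivial) s' = c • mgerm L' hx e →
        ∀ m : R.presheaf.stalk x, c • m = 0 → m = 0) :
    Nonempty (gK s' (gC s R) ≅ gK s (gC s' R)) ∧ Nonempty (gC s' (gC s R) ≅ gC s (gC s' R)) := by
  haveI : Mono ((sigT s).app R) := Preadditive.mono_of_isZero_kernel _ ha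
  let a := (sigT s).app R
  let S := ShortComplex.mk a (cokernel.π a) (cokernel.condition a)
  have hS : S.ShortExact := { exact := ShortComplex.exact_of_g_is_cokernel _ (cokernelIsCokernel _) }
  let v : S ⟶ S.map (twist L') :=
    { τ₁ := (sigT s').app S.X₁, τ₂ := (sigT s').app S.X₂, τ₃ := (sigT s').app S.X₃,
      comm₁₂ := ((sigT s').naturality S.f).symm, comm₂₃ := ((sigT s').naturality S.g).symm }
  have hT := twist_shortExact hL' hS
  let I : ShortComplex.SnakeInput X.Modules :=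
    { L₀ := kernel v, L₁ := S, L₂ := S.map (twist L'), L₃ := cokernel v
      v₀₁ := kernel.ι v, v₁₂ := v, v₂₃ := cokernel.π v
      w₀₂ := kernel.condition v, w₁₃ := cokernel.condition v
      h₀ := kernelIsKernel v, h₃ := cokernelIsCokernel v
      L₁_exact := hS.exact, epi_L₁_g := hS.epi_g, L₂_exact := hT.exact, mono_L₂_f := hT.mono_f }
  haveI : Epi I.L₂.g := hT.epi_g
  haveI : Epi I.L₃.g := @ShortComplex.SnakeInput.epi_L₃_g _ _ _ I hT.epi_g
  let a₂ : I.L₀.X₂ ≅ gK s' S.X₂ := I.h₀τ₂.conePointUniqueUpToIso (limit.isLimit _)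
  let a₃ : I.L₀.X₃ ≅ gK s' (gC s R) := I.h₀τ₃.conePointUniqueUpToIso (limit.isLimit _)
  let b₁ : I.L₃.X₁ ≅ gC s' R := I.h₃τ₁.coconePointUniqueUpToIso (colimit.isColimit _)
  let b₂ : I.L₃.X₂ ≅ gC s' ((twist L).obj R) := I.h₃τ₂.coconePointUniqueUpToIso (colimit.isColimit _)
  let b₃ : I.L₃.X₃ ≅ gC s' (gC s R) := I.h₃τ₃.coconePointUniqueUpToIso (colimit.isColimit _)
  have h2 : IsZero I.L₀.X₂ := (isZero_gK (s := s') hL' fun x A e he hx c hc m hm => by
    obtain ⟨A₀, e₀, hx₀, he₀⟩ := TMul.exists_isGen hL x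
    obtain ⟨m, rfl⟩ := (theta he₀ hx₀ R).surjective m
    rw [← map_smul, map_eq_zero_iff _ (theta he₀ hx₀ R).injective] at hm
    rw [hb x he hx c hc m hm, map_zero]).of_iso a₂
  haveI : Mono I.δ := I.L₁'_exact.mono_g (h2.eq_of_src _ _)
  haveI : Mono I.L₂'.f := ‹Mono I.δ›
  let k₀ : I.L₀.X₃ ≅ kernel I.L₃.f := I.L₂'_exact.fIsKernel.conePointUniqueUpToIso (limit.isLimit _)
  let c₀ : cokernel I.L₃.f ≅ I.L₃.X₃ :=
    (colimit.isColimit _).coconePointUniqueUpToIso I.L₃_exact.gIsCokernel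
  haveI : Mono ((sigT s').app R) := Preadditive.mono_of_isZero_kernel _ (isZero_gK (s := s') hL' hb)
  obtain ⟨f₁⟩ := nonempty_gC_twist (s := s') hL' hL R
  obtain ⟨f₂⟩ := nonempty_twist_coker hL ((sigT s').app R)
  let E : I.L₃.X₂ ≅ (twist L).obj I.L₃.X₁ := b₂ ≪≫ f₁ ≪≫ f₂.symm ≪≫ (twist L).mapIso b₁.symm
  haveI : Epi (cokernel.π v).τ₁ := Cofork.IsColimit.epi I.h₃τ₁
  haveI : Epi (cokernel.π v).τ₂ := Cofork.IsColimit.epi I.h₃τ₂
  have w₁ : (sigT s').app S.X₁ ≫ (cokernel.π v).τ₁ = 0 := congrArg ShortComplex.Hom.τ₁ (cokernel.condition v)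
  have w₂ : (sigT s').app S.X₂ ≫ (cokernel.π v).τ₂ = 0 := congrArg ShortComplex.Hom.τ₂ (cokernel.condition v)
  obtain ⟨⟨eK⟩, ⟨eC⟩⟩ := nonempty_kerCoker_iso I.L₃.f ((sigT s).app I.L₃.X₁) E fun x => by
    obtain ⟨A, e, hx, he, c, hc⟩ := exists_coefficient hL s x
    obtain ⟨A', e', hx', he', c', hc'⟩ := exists_coefficient hL' s' x
    refine ⟨c, c, rfl, ?_, mulAt_sigT he hx hc _⟩
    exact MulAt.descend (b := (sigT s').app S.X₁) (b' := (sigT s').app S.X₂) (p := (cokernel.π v).τ₁)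
      (p' := (cokernel.π v).τ₂) w₁ w₂ (ShortComplex.exact_of_g_is_cokernel (ShortComplex.mk _ _ w₁) I.h₃τ₁)
      (ShortComplex.exact_of_g_is_cokernel (ShortComplex.mk _ _ w₂) I.h₃τ₂) (cokernel.π v).comm₁₂
      (mulAt_sigT he' hx' hc' _) (mulAt_sigT he' hx' hc' _) ((mulAt_sigT he hx hc R).twist_map hL')
  let m₁ : kernel ((sigT s).app I.L₃.X₁) ≅ gK s (gC s' R) :=
    kernel.mapIso _ _ b₁ ((twist L).mapIso b₁) ((sigT s).naturality b₁.hom).symm
  let m₂ : cokernel ((sigT s).app I.L₃.X₁) ≅ gC s (gC s' R) :=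
    cokernel.mapIso _ _ b₁ ((twist L).mapIso b₁) ((sigT s).naturality b₁.hom).symm
  exact ⟨⟨a₃.symm ≪≫ k₀ ≪≫ eK ≪≫ m₁⟩, ⟨b₃.symm ≪≫ c₀.symm ≪≫ eC ≪≫ m₂⟩⟩

end Groth.Agent.CycK0
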