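import Groth.Agent.CycK0.Killed
import Groth.Agent.CycK0.GysBase
import Groth.Agent.CycK0.C1K
import Groth.Agent.DQCoh.TensorUnit

/-!
The Gysin map of the zero scheme of a section on classes of coherent modules.
-/

set_option autoImplicit false
set_option linter.unusedSectionVars false
set_option linter.style.haveILetI false
set_option backward.isDefEq.respectTransparency false
set_option backward.isDefEq.respectTransparency.types false

universe u

open CategoryTheory CategoryTheory.Limits AlgebraicGeometry TopologicalSpace Opposite MonoidalCategory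
open Groth.Agent.K0Dev (St)
open Groth.Agent.KFlat (schB stTensorIso)
open Groth.Agent.CDivNormal (genPrime)
open Groth.Agent.WeakAssLib (mgerm)
open Groth.Agent.RefStalk (msp msp_smul msp_germ)
open Groth.Agent.CycDim (spz)
open TMul (IsGen)
open scoped TensorProduct

noncomputable section

namespace Groth.Agent.CycK0

variable {X D : Scheme.{u}} {L : X.Modules} (s : Γ(L, (⊤ : X.Opens)))

/-- Multiplication by a section. -/
def sigT : 𝟭 X.Modules ⟶ twist L :=
  (DQCoh.tensUnitNat X).inv ≫ (schB X).flip.map (TMul.homOf s)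

/-- The kernel of multiplication by the section. -/
abbrev gK (F : X.Modules) : X.Modules := kernel ((sigT s).app F)

/-- The cokernel of multiplication by the section. -/
abbrev gC (F : X.Modules) : X.Modules := cokernel ((sigT s).app F)

variable {s}

/-- Multiplication by the section on a stalk, in a frame. -/
theorem exists_sigT_frame {A : X.Opens} {e : Γ(L, A)} (he : IsGen e) {x : X} (hx : x ∈ A)
    {c : X.presheaf.stalk x} (hc : mgerm L (show x ∈ (⊤ : X.Opens) from trivial) s = c • mgerm L hx e)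
    (F : X.Modules) :
    ∃ g : F.presheaf.stalk x ≃ₗ[X.presheaf.stalk x] F.presheaf.stalk x,
      ∀ z, ((St x).map ((sigT s).app F)).hom z = c • theta he hx F (g z) := by
  have hT : x ∈ (⊤ : X.Opens) := trivial
  let one : Γ(Coh.structureModule X, (⊤ : X.Opens)) := (1 : Γ(X, (⊤ : X.Opens)))
  have h1 : IsGen one := TMul.isGen_one ⊤
  let g := (((St x).mapIso ((DQCoh.tensUnitNat X).app F)).symm.toLinearEquiv).trans (theta h1 hT F).symm
  refine ⟨g, fun z => ?_⟩
  have hs : ((St x).map (TMul.homOf s)).hom (mgerm (Coh.structureModule X) hT one) = mgerm L hT s := by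
    refine (KFlat.pstMap_germ (DCoh.toP.map (TMul.homOf s)) x hT one).trans ?_
    exact congrArg (mgerm L hT) ((TMul.val_homOf s ⊤).trans (QC.res_self L le_rfl s))
  have hkey : ∀ m : F.presheaf.stalk x,
      ((St x).map (((schB X).flip.map (TMul.homOf s)).app F)).hom (theta h1 hT F m) = c • theta he hx F m := by
    intro m
    have h := LinearMap.congr_fun (congrArg ModuleCat.Hom.hom (KFlat.stTensorIso_natural (𝟙 F) (TMul.homOf s) x))
      (m ⊗ₜ mgerm (Coh.structureModule X) hT one)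
    rw [CategoryTheory.Functor.map_id, CategoryTheory.Functor.map_id, NatTrans.id_app, Category.id_comp] at h
    rw [theta_apply, theta_apply]
    refine h.symm.trans ?_
    show (stTensorIso F L x).hom.hom (m ⊗ₜ ((St x).map (TMul.homOf s)).hom (mgerm (Coh.structureModule X) hT one)) = _
    rw [hs, hc, TensorProduct.tmul_smul]
    exact (stTensorIso F L x).hom.hom.map_smul c _
  have hz : ((St x).map ((DQCoh.tensUnitNat X).inv.app F)).hom z = theta h1 hT F (g z) :=
    ((theta h1 hT F).apply_symm_apply _).symm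
  show ((St x).map ((DQCoh.tensUnitNat X).inv.app F ≫ ((schB X).flip.map (TMul.homOf s)).app F)).hom z = _
  rw [Functor.map_comp]
  show ((St x).map (((schB X).flip.map (TMul.homOf s)).app F)).hom
    (((St x).map ((DQCoh.tensUnitNat X).inv.app F)).hom z) = _
  rw [hz]
  exact hkey (g z)

/-- Coefficients of a section. -/
theorem exists_coefficient (hL : PicF.IsInvertible L) (s : Γ(L, (⊤ : X.Opens))) (x : X) :
    ∃ (A : X.Opens) (e : Γ(L, A)) (hx : x ∈ A) (_ : IsGen e) (c : X.presheaf.stalk x),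
      mgerm L (show x ∈ (⊤ : X.Opens) from trivial) s = c • mgerm L hx e := by
  obtain ⟨A, e, hx, he⟩ := TMul.exists_isGen hL x
  obtain ⟨c, hc⟩ := (RefDiv.bijective_germ_of_isGen he hx).2 (mgerm L (show x ∈ (⊤ : X.Opens) from trivial) s)
  exact ⟨A, e, hx, he, c, hc.symm⟩

variable {i : D ⟶ X}

/-- The coefficient of the section generates the ideal of its zero scheme. -/
theorem ker_eq_span (hD : Cyc.IsZeroSchemeOf i L s) (d : D) {A : X.Opens} {e : Γ(L, A)} (he : IsGen e)
    (hx : i d ∈ A) {c : X.presheaf.stalk (i d)}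
    (hc : mgerm L (show i d ∈ (⊤ : X.Opens) from trivial) s = c • mgerm L hx e) :
    RingHom.ker (i.stalkMap d).hom = Ideal.span {c} := by
  obtain ⟨t, f₀, ht, hs, hker⟩ := hD.2 d
  have hb := RefDiv.bijective_germ_of_isGen he hx
  obtain ⟨r, hr⟩ := hb.2 t
  change r • mgerm L hx e = t at hr
  obtain ⟨b, hbt⟩ := RefDiv.exists_smul_of_span ht (mgerm L hx e)
  have hru : IsUnit r := by
    refine IsUnit.of_mul_eq_one_right b (hb.1 ?_)
    show (b * r) • mgerm L hx e = (1 : X.presheaf.stalk (i d)) • mgerm L hx e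
    rw [mul_smul, hr, hbt, one_smul]
  have hcc : c = f₀ * r := hb.1 (hc.symm.trans (hs.trans (by rw [← hr, smul_smul])))
  rw [hker, hcc, Ideal.span_singleton_mul_right_unit hru]

/-- Off the zero scheme the coefficient is a unit. -/
theorem isUnit_of_notMem (hD : Cyc.IsZeroSchemeOf i L s) {x : X} (hxi : x ∉ Set.range i) {A : X.Opens}
    {e : Γ(L, A)} (hx : x ∈ A) {c : X.presheaf.stalk x}
    (hc : mgerm L (show x ∈ (⊤ : X.Opens) from trivial) s = c • mgerm L hx e) : IsUnit c := by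
  by_contra hu
  refine hxi ?_
  rw [hD.1]
  refine (Submodule.Quotient.mk_eq_zero _).2 ?_
  show mgerm L (show x ∈ (⊤ : X.Opens) from trivial) s ∈ _
  rw [hc]
  exact Submodule.smul_mem_smul ((IsLocalRing.mem_maximalIdeal _).2 hu) Submodule.mem_top

/-- The coefficient at a point vanishes on a closure in the zero scheme and only there. -/
theorem mem_genPrime_iff_mem_range (hD : Cyc.IsZeroSchemeOf i L s) {ξ x : X} (h : ξ ⤳ x) {A : X.Opens}
    {e : Γ(L, A)} (he : IsGen e) (hx : x ∈ A) {c : X.presheaf.stalk x}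
    (hc : mgerm L (show x ∈ (⊤ : X.Opens) from trivial) s = c • mgerm L hx e) :
    c ∈ genPrime h ↔ ξ ∈ Set.range i := by
  have hξA : ξ ∈ A := h.mem_open A.2 hx
  have hsξ : mgerm L (show ξ ∈ (⊤ : X.Opens) from trivial) s = spz h c • mgerm L hξA e := by
    have h1 := congrArg (msp L h) hc
    rw [msp_smul, msp_germ L h hx e] at h1
    exact (msp_germ L h (show x ∈ (⊤ : X.Opens) from trivial) s).symm.trans h1
  have hu : spz h c ∈ IsLocalRing.maximalIdeal _ ↔ ξ ∈ Set.range i := by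
    rw [IsLocalRing.mem_maximalIdeal, mem_nonunits_iff]
    refine ⟨fun hn => by_contra fun hxi => hn (isUnit_of_notMem hD hxi hξA hsξ), fun hxi hn => ?_⟩
    rw [hD.1] at hxi
    refine C1Cap.mk_gen_ne_zero he hξA hn ?_
    rw [← hsξ]
    exact hxi
  exact hu

variable [IsClosedImmersion i]

/-- The kernel and the cokernel live on the zero scheme. -/
theorem killed_gK_gC (hL : PicF.IsInvertible L) (hD : Cyc.IsZeroSchemeOf i L s) (F : X.Modules) :
    Killed i (gK s F) ∧ Killed i (gC s F) := by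
  have hiso : ∀ x, x ∉ Set.range i → IsIso ((St x).map ((sigT s).app F)) := fun x hxi => by
    obtain ⟨A, e, hx, he, c, hc⟩ := exists_coefficient hL s x
    obtain ⟨g, hg⟩ := exists_sigT_frame he hx hc F
    rw [ConcreteCategory.isIso_iff_bijective]
    have hu := isUnit_of_notMem hD hxi hx hc
    show Function.Bijective ⇑((St x).map ((sigT s).app F)).hom
    rw [funext hg]
    exact Function.Bijective.comp (f := fun m => theta he hx F (g m))
      (g := fun m => c • m) hu.smul_bijective ((theta he hx F).bijective.comp g.bijective)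
  refine ⟨⟨fun x hxi => ?_, fun d a ha m => ?_⟩, fun x hxi => ?_, fun d a ha m => ?_⟩
  · haveI := hiso x hxi
    exact IsZero.of_mono_eq_zero ((St x).map (kernel.ι ((sigT s).app F))) ((cancel_mono ((St x).map ((sigT s).app F))).1
      (by rw [← Functor.map_comp, kernel.condition, Functor.map_zero, zero_comp]))
  · obtain ⟨A, e, hx, he, c, hc⟩ := exists_coefficient hL s (i d)
    obtain ⟨g, hg⟩ := exists_sigT_frame he hx hc F
    rw [ker_eq_span hD d he hx hc, Ideal.mem_span_singleton'] at ha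
    obtain ⟨a, rfl⟩ := ha
    have hinj : Function.Injective ((St (i d)).map (kernel.ι ((sigT s).app F))).hom :=
      (ModuleCat.mono_iff_injective _).1 inferInstance
    have h0 : ((St (i d)).map (kernel.ι ((sigT s).app F)) ≫ (St (i d)).map ((sigT s).app F)) = 0 := by
      rw [← Functor.map_comp, kernel.condition, Functor.map_zero]
    have hm : c • ((St (i d)).map (kernel.ι ((sigT s).app F))).hom m = 0 := by
      refine g.injective ((theta he hx F).injective ?_)
      rw [map_smul, map_smul, map_zero, map_zero]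
      exact (hg _).symm.trans (LinearMap.congr_fun (congrArg ModuleCat.Hom.hom h0) m)
    refine hinj ((map_smul _ _ m).trans ?_)
    rw [map_zero, mul_smul]
    exact (congrArg (a • ·) hm).trans (smul_zero a)
  · haveI := hiso x hxi
    exact IsZero.of_epi_eq_zero ((St x).map (cokernel.π ((sigT s).app F))) ((cancel_epi ((St x).map ((sigT s).app F))).1
      (by rw [← Functor.map_comp, cokernel.condition, Functor.map_zero, comp_zero]))
  · obtain ⟨A, e, hx, he, c, hc⟩ := exists_coefficient hL s (i d)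
    obtain ⟨g, hg⟩ := exists_sigT_frame he hx hc F
    rw [ker_eq_span hD d he hx hc, Ideal.mem_span_singleton'] at ha
    obtain ⟨a, rfl⟩ := ha
    obtain ⟨w, rfl⟩ := (ModuleCat.epi_iff_surjective ((St (i d)).map (cokernel.π ((sigT s).app F)))).1 inferInstance m
    obtain ⟨v, rfl⟩ := ((theta he hx F).bijective.comp g.bijective).2 w
    have h0 : ((St (i d)).map ((sigT s).app F) ≫ (St (i d)).map (cokernel.π ((sigT s).app F))) = 0 := by
      rw [← Functor.map_comp, cokernel.condition, Functor.map_zero]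
    rw [mul_smul, ← map_smul ((St (i d)).map (cokernel.π ((sigT s).app F))).hom, Function.comp_apply, ← hg v]
    exact (congrArg (a • ·) (LinearMap.congr_fun (congrArg ModuleCat.Hom.hom h0) v)).trans (smul_zero a)

/-! ### The class -/

variable [IsLocallyNoetherian X] (δ : X → ℤ) (k : ℤ)

/-- The class on the zero scheme of a killed module. -/
abbrev qD (i : D ⟶ X) (M : X.Modules) : Cyc.K0CohQuot (fun d => δ (i d)) (k + 1) (k - 1) :=
  Cyc.toK0CohQuot (fun d => δ (i d)) (k + 1) (k - 1) ((Scheme.Modules.pullback i).obj M)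

variable (s) in
/-- The Gysin class of a module. -/
def gy (i : D ⟶ X) (F : X.Modules) : Cyc.K0CohQuot (fun d => δ (i d)) (k + 1) (k - 1) :=
  qD δ k i (gC s F) - qD δ k i (gK s F)

variable {δ k}

/-- A killed module of bounded dimension. -/
abbrev KillLe (i : D ⟶ X) [IsClosedImmersion i] (δ : X → ℤ) (k : ℤ) (M : X.Modules) : Prop :=
  Killed i M ∧ Cyc.CohLe δ (k + 1) M

omit [IsLocallyNoetherian X] in
lemma killLe_image [IsLocallyNoetherian X] {A B : X.Modules} (f : A ⟶ B) (hB : KillLe i δ k B) (hA : KillLe i δ k A) :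
    KillLe i δ k (Abelian.image f) :=
  ⟨hB.1.of_mono (Abelian.image.ι f), cohLe_kernel _ hB.2 (QC.isCoh_cokernel hA.2.1.1 hB.2.1 f).1⟩

lemma qD_iso {A B : X.Modules} (e : A ≅ B) : qD δ k i A = qD δ k i B := by
  haveI : IsLocallyNoetherian D := LocallyOfFiniteType.isLocallyNoetherian i
  exact q_iso ((Scheme.Modules.pullback i).mapIso e)

/-- The class of the middle of an exact sequence. -/
lemma qD_exact {S : ShortComplex X.Modules} (hS : S.Exact) (h₁ : KillLe i δ k S.X₁) (h₂ : KillLe i δ k S.X₂)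
    (h₃ : KillLe i δ k S.X₃) :
    qD δ k i S.X₂ = qD δ k i (Abelian.image S.f) + qD δ k i (Abelian.image S.g) := by
  haveI : IsLocallyNoetherian D := LocallyOfFiniteType.isLocallyNoetherian i
  have w1 : Abelian.image.ι S.f ≫ S.g = 0 := (cancel_epi (Abelian.factorThruImage S.f)).1
    (by rw [← Category.assoc, Abelian.image.fac, S.zero, comp_zero])
  have w2 : Abelian.image.ι S.f ≫ Abelian.factorThruImage S.g = 0 := (cancel_mono (Abelian.image.ι S.g)).1
    (by rw [Category.assoc, Abelian.image.fac, w1, zero_comp])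
  let φ : S ⟶ ShortComplex.mk (Abelian.image.ι S.f) S.g w1 :=
    { τ₁ := Abelian.factorThruImage S.f, τ₂ := 𝟙 _, τ₃ := 𝟙 _,
      comm₁₂ := by simp [Abelian.image.fac], comm₂₃ := by simp }
  let ψ : ShortComplex.mk (Abelian.image.ι S.f) (Abelian.factorThruImage S.g) w2 ⟶
      ShortComplex.mk (Abelian.image.ι S.f) S.g w1 :=
    { τ₁ := 𝟙 _, τ₂ := 𝟙 _, τ₃ := Abelian.image.ι S.g,
      comm₁₂ := by simp, comm₂₃ := by simp [Abelian.image.fac] }
  haveI : Epi φ.τ₁ := inferInstanceAs (Epi (Abelian.factorThruImage S.f))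
  haveI : IsIso φ.τ₂ := inferInstanceAs (IsIso (𝟙 _))
  haveI : Mono φ.τ₃ := inferInstanceAs (Mono (𝟙 _))
  haveI : Epi ψ.τ₁ := inferInstanceAs (Epi (𝟙 _))
  haveI : IsIso ψ.τ₂ := inferInstanceAs (IsIso (𝟙 _))
  haveI : Mono ψ.τ₃ := inferInstanceAs (Mono (Abelian.image.ι S.g))
  have hT : (ShortComplex.mk (Abelian.image.ι S.f) (Abelian.factorThruImage S.g) w2).ShortExact :=
    { exact := (ShortComplex.exact_iff_of_epi_of_isIso_of_mono ψ).2
        ((ShortComplex.exact_iff_of_epi_of_isIso_of_mono φ).1 hS) }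
  have hA := killLe_image S.f h₂ h₁
  have hB := killLe_image S.g h₃ h₂
  exact q_add (shortExact_pullback i hT hA.1 h₂.1 hB.1) (cohLe_pullback i hA.2) (cohLe_pullback i h₂.2)
    (cohLe_pullback i hB.2) (k - 1)

lemma killLe_gK_gC (hL : PicF.IsInvertible L) (hD : Cyc.IsZeroSchemeOf i L s) {F : X.Modules}
    (hF : Cyc.CohLe δ (k + 1) F) : KillLe i δ k (gK s F) ∧ KillLe i δ k (gC s F) :=
  ⟨⟨(killed_gK_gC hL hD F).1, cohLe_kernel _ hF (cohLe_twist hL hF).1.1⟩,
    (killed_gK_gC hL hD F).2, cohLe_cokernel _ hF.1.1 (cohLe_twist hL hF)⟩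

/-- The Gysin class is additive as soon as the kernels and cokernels are bounded. -/
theorem gy_add' (hL : PicF.IsInvertible L) {S : ShortComplex X.Modules} (hS : S.ShortExact)
    (k₁ : KillLe i δ k (gK s S.X₁)) (k₂ : KillLe i δ k (gK s S.X₂)) (k₃ : KillLe i δ k (gK s S.X₃))
    (c₁ : KillLe i δ k (gC s S.X₁)) (c₂ : KillLe i δ k (gC s S.X₂)) (c₃ : KillLe i δ k (gC s S.X₃)) :
    gy s δ k i S.X₂ = gy s δ k i S.X₁ + gy s δ k i S.X₃ := by
  let v : S ⟶ S.map (twist L) :=
    { τ₁ := (sigT s).app S.X₁, τ₂ := (sigT s).app S.X₂, τ₃ := (sigT s).app S.X₃,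
      comm₁₂ := ((sigT s).naturality S.f).symm, comm₂₃ := ((sigT s).naturality S.g).symm }
  have hT := twist_shortExact hL hS
  let I : ShortComplex.SnakeInput X.Modules :=
    { L₀ := kernel v, L₁ := S, L₂ := S.map (twist L), L₃ := cokernel v
      v₀₁ := kernel.ι v, v₁₂ := v, v₂₃ := cokernel.π v
      w₀₂ := kernel.condition v, w₁₃ := cokernel.condition v
      h₀ := kernelIsKernel v, h₃ := cokernelIsCokernel v
      L₁_exact := hS.exact, epi_L₁_g := hS.epi_g, L₂_exact := hT.exact, mono_L₂_f := hT.mono_f }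
  haveI : Mono I.L₁.f := hS.mono_f
  haveI : Epi I.L₂.g := hT.epi_g
  let a₁ : I.L₀.X₁ ≅ gK s S.X₁ := I.h₀τ₁.conePointUniqueUpToIso (limit.isLimit _)
  let a₂ : I.L₀.X₂ ≅ gK s S.X₂ := I.h₀τ₂.conePointUniqueUpToIso (limit.isLimit _)
  let a₃ : I.L₀.X₃ ≅ gK s S.X₃ := I.h₀τ₃.conePointUniqueUpToIso (limit.isLimit _)
  let b₁ : I.L₃.X₁ ≅ gC s S.X₁ := I.h₃τ₁.coconePointUniqueUpToIso (colimit.isColimit _)
  let b₂ : I.L₃.X₂ ≅ gC s S.X₂ := I.h₃τ₂.coconePointUniqueUpToIso (colimit.isColimit _)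
  let b₃ : I.L₃.X₃ ≅ gC s S.X₃ := I.h₃τ₃.coconePointUniqueUpToIso (colimit.isColimit _)
  have tr : ∀ {A B : X.Modules}, (A ≅ B) → KillLe i δ k B → KillLe i δ k A :=
    fun e h => ⟨h.1.of_mono e.hom, cohLe_of_iso e.symm h.2⟩
  have p₁ := tr a₁ k₁
  have p₂ := tr a₂ k₂
  have p₃ := tr a₃ k₃
  have q₁ := tr b₁ c₁
  have q₂ := tr b₂ c₂
  have q₃ := tr b₃ c₃
  have e₀ := qD_exact I.L₀_exact p₁ p₂ p₃
  have e₁ : qD δ k i I.L₀.X₃ = qD δ k i (Abelian.image I.L₀.g) + qD δ k i (Abelian.image I.δ) :=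
    qD_exact I.L₁'_exact p₂ p₃ q₁
  have e₂ : qD δ k i I.L₃.X₁ = qD δ k i (Abelian.image I.δ) + qD δ k i (Abelian.image I.L₃.f) :=
    qD_exact I.L₂'_exact p₃ q₁ q₂
  have e₃ := qD_exact I.L₃_exact q₁ q₂ q₃
  haveI : Mono I.L₀.f := @ShortComplex.SnakeInput.mono_L₀_f _ _ _ I hS.mono_f
  haveI : Epi I.L₃.g := @ShortComplex.SnakeInput.epi_L₃_g _ _ _ I hT.epi_g
  haveI : Mono (Abelian.factorThruImage I.L₀.f) := mono_of_mono_fac (Abelian.image.fac I.L₀.f)
  haveI : IsIso (Abelian.factorThruImage I.L₀.f) := isIso_of_mono_of_epi _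
  haveI : Epi (Abelian.image.ι I.L₃.g) := epi_of_epi_fac (Abelian.image.fac I.L₃.g)
  haveI : IsIso (Abelian.image.ι I.L₃.g) := isIso_of_mono_of_epi _
  rw [← qD_iso (asIso (Abelian.factorThruImage I.L₀.f))] at e₀
  rw [qD_iso (asIso (Abelian.image.ι I.L₃.g))] at e₃
  simp only [gy]
  rw [← qD_iso a₁, ← qD_iso a₂, ← qD_iso a₃, ← qD_iso b₁, ← qD_iso b₂, ← qD_iso b₃, e₀, e₁, e₂, e₃]
  abel

/-- The Gysin class is additive. -/
theorem gy_add (hL : PicF.IsInvertible L) (hD : Cyc.IsZeroSchemeOf i L s) {S : ShortComplex X.Modules}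
    (hS : S.ShortExact) (h₁ : Cyc.CohLe δ (k + 1) S.X₁) (h₂ : Cyc.CohLe δ (k + 1) S.X₂)
    (h₃ : Cyc.CohLe δ (k + 1) S.X₃) :
    gy s δ k i S.X₂ = gy s δ k i S.X₁ + gy s δ k i S.X₃ :=
  gy_add' hL hS (killLe_gK_gC hL hD h₁).1 (killLe_gK_gC hL hD h₂).1 (killLe_gK_gC hL hD h₃).1
    (killLe_gK_gC hL hD h₁).2 (killLe_gK_gC hL hD h₂).2 (killLe_gK_gC hL hD h₃).2

/-- The Gysin class of a module of small dimension vanishes. -/
theorem gy_small (hX : Cyc.IsSetup X δ) (hL : PicF.IsInvertible L) (hD : Cyc.IsZeroSchemeOf i L s)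
    {F : X.Modules} (hF : Cyc.CohLe δ k F) : gy s δ k i F = 0 := by
  haveI : IsLocallyNoetherian D := LocallyOfFiniteType.isLocallyNoetherian i
  let σ := (sigT s).app F
  have hT : Cyc.CohLe δ k ((twist L).obj F) := cohLe_twist hL hF
  have hK : Cyc.CohLe δ k (gK s F) := cohLe_kernel _ hF hT.1.1
  have hC : Cyc.CohLe δ k (gC s F) := cohLe_cokernel _ hF.1.1 hT
  have hI : Cyc.CohLe δ k (Abelian.image σ) := cohLe_kernel _ hT hC.1.1
  let S₁ := ShortComplex.mk (kernel.ι σ) (Abelian.factorThruImage σ)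
    ((cancel_mono (Abelian.image.ι σ)).1 (by rw [Category.assoc, Abelian.image.fac, kernel.condition, zero_comp]))
  have e₁ : S₁.ShortExact :=
    { exact := ShortComplex.exact_of_f_is_kernel _ (KernelFork.IsLimit.ofι' _ _ fun t ht =>
        ⟨kernel.lift σ t (by rw [← Abelian.image.fac σ, ← Category.assoc, ht, zero_comp]), kernel.lift_ι _ _ _⟩) }
  let S₂ := ShortComplex.mk (Abelian.image.ι σ) (cokernel.π σ) (kernel.condition _)
  have e₂ : S₂.ShortExact := { exact := ShortComplex.exact_of_f_is_kernel _ (kernelIsKernel _) }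
  have u₁ : Cyc.sheafFun δ k F = Cyc.sheafFun δ k (gK s F) + Cyc.sheafFun δ k (Abelian.image σ) :=
    S1896.result X δ hX k S₁ e₁ hK.1 hF.1 hI.1 hF.2
  have u₂ : Cyc.sheafFun δ k ((twist L).obj F) = Cyc.sheafFun δ k (Abelian.image σ) + Cyc.sheafFun δ k (gC s F) :=
    S1896.result X δ hX k S₂ e₂ hI.1 hT.1 hC.1 hT.2
  rw [sheafFun_twist hL, u₁] at u₂
  have hDs := isSetup_closed i hX
  rw [gy, sub_eq_zero]
  refine q_raise (cohLe_pullback i hC) (cohLe_pullback i hK) ?_
  rw [(q_eq_cycle hDs (cohLe_pullback i hC)).1, (q_eq_cycle hDs (cohLe_pullback i hK)).1]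
  refine congrArg (fun z => Cyc.toK0CohQuot (fun d => δ (i d)) k (k - 1) (Cyc.cycleSheafPos z)) (funext fun d => ?_)
  rw [sheafFun_pullback i (killed_gK_gC hL hD F).2, sheafFun_pullback i (killed_gK_gC hL hD F).1]
  have := congrFun u₂ (i d)
  simp only [Pi.add_apply] at this
  omega

/-- The Gysin class only depends on the class modulo `≤ k`. -/
theorem gy_congr (hX : Cyc.IsSetup X δ) (hL : PicF.IsInvertible L) (hD : Cyc.IsZeroSchemeOf i L s)
    {F G : X.Modules} (hF : Cyc.CohLe δ (k + 1) F) (hG : Cyc.CohLe δ (k + 1) G)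
    (h : Cyc.toK0CohQuot δ (k + 1) k F = Cyc.toK0CohQuot δ (k + 1) k G) :
    gy s δ k i F = gy s δ k i G := by
  let g : KZero.K0sub (Cyc.CohLe δ (k + 1)) →+ Cyc.K0CohQuot (fun d => δ (i d)) (k + 1) (k - 1) :=
    QuotientAddGroup.lift _ (FreeAbelianGroup.lift fun G : Subtype (Cyc.CohLe δ (k + 1)) => gy s δ k i G.1)
    ((AddSubgroup.closure_le _).2 (by
      rintro _ ⟨S, h₁, h₂, h₃, hS, rfl⟩
      rw [SetLike.mem_coe, AddMonoidHom.mem_ker, map_sub, map_sub, FreeAbelianGroup.lift_apply_of,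
        FreeAbelianGroup.lift_apply_of, FreeAbelianGroup.lift_apply_of, gy_add hL hD hS h₁ h₂ h₃]
      abel))
  have hg : ∀ G, Cyc.CohLe δ (k + 1) G → g (KZero.clSub (Cyc.CohLe δ (k + 1)) G) = gy s δ k i G := fun G hG => by
    rw [KZero.clSub, dif_pos hG]
    exact FreeAbelianGroup.lift_apply_of _ _
  let g' : Cyc.K0CohQuot δ (k + 1) k →+ Cyc.K0CohQuot (fun d => δ (i d)) (k + 1) (k - 1) := QuotientAddGroup.lift _ g
    ((AddSubgroup.closure_le _).2 (by
      rintro _ ⟨F, hF, rfl⟩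
      rw [SetLike.mem_coe, AddMonoidHom.mem_ker, hg F (cohLe_succ hF)]
      exact gy_small hX hL hD hF))
  exact ((hg F hF).symm.trans (congrArg g' h : g (KZero.clSub (Cyc.CohLe δ (k + 1)) F) = g (KZero.clSub (Cyc.CohLe δ (k + 1)) G))).trans (hg G hG)

end Groth.Agent.CycK0
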