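import Groth.Agent.CycHex.Herbrand
import Groth.Agent.CycDim.Det
import Mathlib

/-!
Index of maps with finite length kernel and cokernel.
-/

set_option autoImplicit false
set_option linter.unusedSectionVars false
set_option linter.style.haveILetI false

universe u

noncomputable section

namespace Groth.Agent.CycK0

open CycAlg

variable {R : Type u} [CommRing R] {M N P : Type u} [AddCommGroup M] [Module R M] [AddCommGroup N] [Module R N]
  [AddCommGroup P] [Module R P]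

/-- Finite length kernel and cokernel. -/
def IFin (φ : M →ₗ[R] N) : Prop := FinCoh R φ (0 : N →ₗ[R] M)

/-- Length of the kernel minus length of the cokernel. -/
def idxMap (φ : M →ₗ[R] N) : ℤ := herbrand R φ (0 : N →ₗ[R] M)

lemma periodic_zero (φ : M →ₗ[R] N) : IsPeriodic φ (0 : N →ₗ[R] M) := ⟨LinearMap.comp_zero _, LinearMap.zero_comp _⟩

lemma length_perH_left (φ : M →ₗ[R] N) :
    Module.length R (perH φ (0 : N →ₗ[R] M)) = Module.length R (LinearMap.ker φ) :=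
  (Submodule.quotEquivOfEqBot _ (by
    rw [Submodule.submoduleOf, LinearMap.range_zero, ← Submodule.ker_subtype (LinearMap.ker φ)]; rfl)).length_eq

lemma length_perH_right (φ : M →ₗ[R] N) :
    Module.length R (perH (0 : N →ₗ[R] M) φ) = Module.length R (N ⧸ LinearMap.range φ) := by
  let l : N →ₗ[R] perH (0 : N →ₗ[R] M) φ :=
    (CycHex.cls (0 : N →ₗ[R] M) φ).comp (LinearMap.id.codRestrict (LinearMap.ker (0 : N →ₗ[R] M)) fun _ => rfl)
  have hl : LinearMap.ker l = LinearMap.range φ := by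
    ext n
    rw [LinearMap.mem_ker, LinearMap.mem_range]
    exact CycHex.cls_eq_zero _
  have hs : Function.Surjective l := fun z => by
    obtain ⟨w, rfl⟩ := CycHex.cls_surjective _ _ z
    exact ⟨w.1, rfl⟩
  exact ((Submodule.quotEquivOfEq _ _ hl.symm).trans (LinearMap.quotKerEquivOfSurjective l hs)).length_eq.symm

lemma iFin_iff (φ : M →ₗ[R] N) :
    IFin φ ↔ Module.length R (LinearMap.ker φ) < ⊤ ∧ Module.length R (N ⧸ LinearMap.range φ) < ⊤ := by
  rw [IFin, FinCoh, length_perH_left, length_perH_right]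

lemma idxMap_eq (φ : M →ₗ[R] N) : idxMap φ =
    ((Module.length R (LinearMap.ker φ)).toNat : ℤ) - ((Module.length R (N ⧸ LinearMap.range φ)).toNat : ℤ) := by
  rw [idxMap, herbrand, length_perH_left, length_perH_right]

lemma idxMap_of_injective {φ : M →ₗ[R] N} (h : Function.Injective φ) :
    idxMap φ = -((Module.length R (N ⧸ LinearMap.range φ)).toNat : ℤ) := by
  haveI : Subsingleton (LinearMap.ker φ) := by
    rw [LinearMap.ker_eq_bot.2 h]; infer_instance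
  rw [idxMap_eq, Module.length_eq_zero, ENat.toNat_zero, Nat.cast_zero, zero_sub]

lemma idxMap_of_subsingleton [Subsingleton N] (φ : M →ₗ[R] N) :
    idxMap φ = ((Module.length R M).toNat : ℤ) := by
  rw [idxMap_eq, Module.length_eq_zero (M := N ⧸ LinearMap.range φ), ENat.toNat_zero, Nat.cast_zero, sub_zero,
    show φ = 0 from LinearMap.ext fun _ => Subsingleton.elim _ _, LinearMap.ker_zero, Module.length_top]

lemma idx_id : IFin (LinearMap.id : M →ₗ[R] M) ∧ idxMap (LinearMap.id : M →ₗ[R] M) = 0 := by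
  haveI : Subsingleton (LinearMap.ker (LinearMap.id : M →ₗ[R] M)) := by rw [LinearMap.ker_id]; infer_instance
  haveI : Subsingleton (M ⧸ LinearMap.range (LinearMap.id : M →ₗ[R] M)) :=
    Submodule.Quotient.subsingleton_iff.2 LinearMap.range_id
  rw [iFin_iff, idxMap_eq, Module.length_eq_zero, Module.length_eq_zero]
  exact ⟨⟨ENat.top_pos, ENat.top_pos⟩, by simp⟩

/-- Additivity in short exact sequences. -/
theorem idx_add {M₁ N₁ M₂ N₂ M₃ N₃ : Type u} [AddCommGroup M₁] [Module R M₁] [AddCommGroup N₁] [Module R N₁]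
    [AddCommGroup M₂] [Module R M₂] [AddCommGroup N₂] [Module R N₂] [AddCommGroup M₃] [Module R M₃]
    [AddCommGroup N₃] [Module R N₃] (φ₁ : M₁ →ₗ[R] N₁) (φ₂ : M₂ →ₗ[R] N₂) (φ₃ : M₃ →ₗ[R] N₃)
    (f₁ : M₁ →ₗ[R] M₂) (g₁ : N₁ →ₗ[R] N₂) (f₂ : M₂ →ₗ[R] M₃) (g₂ : N₂ →ₗ[R] N₃)
    (c₁ : φ₂ ∘ₗ f₁ = g₁ ∘ₗ φ₁) (c₂ : φ₃ ∘ₗ f₂ = g₂ ∘ₗ φ₂) (hf₁ : Function.Injective f₁) (hg₁ : Function.Injective g₁)
    (hf₂ : Function.Surjective f₂) (hg₂ : Function.Surjective g₂) (hM : LinearMap.range f₁ = LinearMap.ker f₂)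
    (hN : LinearMap.range g₁ = LinearMap.ker g₂)
    (h : (IFin φ₁ ∧ IFin φ₂) ∨ (IFin φ₁ ∧ IFin φ₃) ∨ (IFin φ₂ ∧ IFin φ₃)) :
    IFin φ₁ ∧ IFin φ₂ ∧ IFin φ₃ ∧ idxMap φ₂ = idxMap φ₁ + idxMap φ₃ :=
  CycHex.additive φ₁ 0 φ₂ 0 φ₃ 0 (periodic_zero φ₂) f₁ g₁ f₂ g₂ c₁ (by simp) c₂ (by simp) hf₁ hg₁ hf₂ hg₂ hM hN h

/-- The index of a composite. -/
theorem idx_comp (φ : M →ₗ[R] N) (ψ : N →ₗ[R] P)
    (h : (IFin φ ∧ IFin ψ) ∨ (IFin φ ∧ IFin (ψ ∘ₗ φ)) ∨ (IFin ψ ∧ IFin (ψ ∘ₗ φ))) :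
    IFin φ ∧ IFin ψ ∧ IFin (ψ ∘ₗ φ) ∧ idxMap (ψ ∘ₗ φ) = idxMap φ + idxMap ψ := by
  let T : (M × N) →ₗ[R] N × P :=
    (φ ∘ₗ LinearMap.fst R M N - LinearMap.snd R M N).prod (ψ ∘ₗ LinearMap.snd R M N)
  have s1 := idx_add φ T ψ (LinearMap.inl R M N) (LinearMap.inl R N P) (LinearMap.snd R M N) (LinearMap.snd R N P)
    (LinearMap.ext fun m => by simp [T]) (LinearMap.ext fun z => by simp [T]) LinearMap.inl_injective
    LinearMap.inl_injective LinearMap.snd_surjective LinearMap.snd_surjective (LinearMap.range_inl R M N)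
    (LinearMap.range_inl R N P)
  let g₁ : N →ₗ[R] N × P := (-LinearMap.id).prod ψ
  let g₂ : N × P →ₗ[R] P := ψ ∘ₗ LinearMap.fst R N P + LinearMap.snd R N P
  have hg : LinearMap.range g₁ = LinearMap.ker g₂ := by
    ext ⟨a, b⟩
    rw [LinearMap.mem_range, LinearMap.mem_ker]
    constructor
    · rintro ⟨n, hn⟩
      rw [← hn, show g₁ n = (-n, ψ n) from rfl]
      simp [g₂]
    · intro hab
      simp only [g₂, LinearMap.add_apply, LinearMap.comp_apply, LinearMap.fst_apply, LinearMap.snd_apply] at hab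
      exact ⟨-a, by simp [g₁, eq_neg_of_add_eq_zero_right hab]⟩
  have s2 := idx_add LinearMap.id T (ψ ∘ₗ φ) (LinearMap.inr R M N) g₁ (LinearMap.fst R M N) g₂
    (LinearMap.ext fun m => by simp [T, g₁]) (LinearMap.ext fun z => by simp [T, g₂]) LinearMap.inr_injective
    (fun a b hab => by simpa [g₁] using congrArg Prod.fst hab) LinearMap.fst_surjective
    (fun p => ⟨(0, p), by simp [g₂]⟩) (LinearMap.range_inr R M N) hg
  rcases h with h | h | h
  · obtain ⟨a, b, c, d⟩ := s1 (Or.inr (Or.inl h))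
    obtain ⟨a', -, c', d'⟩ := s2 (Or.inl ⟨idx_id.1, b⟩)
    exact ⟨a, c, c', by rw [d, idx_id.2, zero_add] at d'; exact d'.symm⟩
  · obtain ⟨-, b, c', d'⟩ := s2 (Or.inr (Or.inl ⟨idx_id.1, h.2⟩))
    obtain ⟨a, -, c, d⟩ := s1 (Or.inl ⟨h.1, b⟩)
    exact ⟨a, c, c', by rw [d, idx_id.2, zero_add] at d'; exact d'.symm⟩
  · obtain ⟨-, b, c', d'⟩ := s2 (Or.inr (Or.inl ⟨idx_id.1, h.2⟩))
    obtain ⟨a, -, c, d⟩ := s1 (Or.inr (Or.inr ⟨b, h.1⟩))
    exact ⟨a, c, c', by rw [d, idx_id.2, zero_add] at d'; exact d'.symm⟩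

end Groth.Agent.CycK0
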