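import Groth.Agent.CycK0.Invariant

/-!
The cycles of the two cohomology sheaves of a two periodic complex.
-/

set_option autoImplicit false
set_option linter.unusedSectionVars false
set_option linter.style.haveILetI false
set_option backward.isDefEq.respectTransparency false

universe u

open CategoryTheory CategoryTheory.Limits AlgebraicGeometry

noncomputable section

namespace Groth.Agent.CycK0

variable {X : Scheme.{u}} [IsLocallyNoetherian X] {δ : X → ℤ} {k : ℤ}

/-- The class of a homology sheaf. -/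
theorem q_homology {F : X.Modules} {d : ℤ} (hF : Cyc.CohLe δ d F) (b : ℤ) (φ ψ : F ⟶ F) (hφψ : φ ≫ ψ = 0) :
    Cyc.CohLe δ d (ShortComplex.mk φ ψ hφψ).homology ∧ Cyc.toK0CohQuot δ d b F +
      Cyc.toK0CohQuot δ d b (ShortComplex.mk φ ψ hφψ).homology =
        Cyc.toK0CohQuot δ d b (kernel φ) + Cyc.toK0CohQuot δ d b (kernel ψ) := by
  let S := ShortComplex.mk φ ψ hφψ
  haveI := hF.1.1
  have hK : Cyc.CohLe δ d (kernel φ) := cohLe_kernel φ hF hF.1.1
  have hK' : Cyc.CohLe δ d (kernel ψ) := cohLe_kernel ψ hF hF.1.1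
  let c : kernel ψ ≅ S.cycles := S.cyclesIsoKernel.symm
  have hZ : Cyc.CohLe δ d S.cycles := cohLe_of_iso c hK'
  have hH : Cyc.CohLe δ d S.homology := by
    haveI := hZ.1.1
    refine cohLe_of_iso (IsColimit.coconePointUniqueUpToIso (colimit.isColimit (parallelPair S.toCycles 0))
      S.homologyIsCokernel) (cohLe_cokernel S.toCycles hF.1.1 hZ)
  have hB : Cyc.CohLe δ d (kernel S.homologyπ) := cohLe_kernel _ hZ hH.1.1
  let t : F ⟶ kernel S.homologyπ := kernel.lift _ S.toCycles S.toCycles_comp_homologyπ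
  have hw : kernel.ι φ ≫ t = 0 := by
    refine (cancel_mono (kernel.ι S.homologyπ)).1 ((cancel_mono S.iCycles).1 ?_)
    simp only [t, Category.assoc, kernel.lift_ι, zero_comp]
    exact (congrArg (fun g => kernel.ι φ ≫ g) S.toCycles_i).trans (kernel.condition φ)
  let S₁ := ShortComplex.mk (kernel.ι φ) t hw
  have hS₁ : S₁.ShortExact := by
    haveI : Epi t := by
      have hx : (ShortComplex.mk S.toCycles S.homologyπ S.toCycles_comp_homologyπ).Exact :=
        ShortComplex.exact_of_g_is_cokernel _ S.homologyIsCokernel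
      exact (ShortComplex.exact_iff_epi_kernel_lift _).1 hx
    refine { exact := ShortComplex.exact_of_f_is_kernel _ (KernelFork.IsLimit.ofι' _ _ fun g hg => ?_) }
    refine ⟨kernel.lift φ g ?_, kernel.lift_ι _ _ _⟩
    have hg' : g ≫ S.toCycles = 0 := by
      have hgt : g ≫ t = 0 := hg
      have := congrArg (fun z => z ≫ kernel.ι S.homologyπ) hgt
      simpa [t, Category.assoc] using this
    have h2 := congrArg (fun z => z ≫ S.iCycles) hg'
    simpa [S, Category.assoc] using h2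
  let S₂ := ShortComplex.mk (kernel.ι S.homologyπ) S.homologyπ (kernel.condition _)
  have hS₂ : S₂.ShortExact :=
    { exact := ShortComplex.exact_of_f_is_kernel _ (kernelIsKernel _) }
  refine ⟨hH, ?_⟩
  have e₁ : Cyc.toK0CohQuot δ d b F = _ := q_add hS₁ hK hF hB b
  have e₂ : Cyc.toK0CohQuot δ d b S.cycles = _ := q_add hS₂ hB hZ hH b
  have e₃ : Cyc.toK0CohQuot δ d b S.cycles = Cyc.toK0CohQuot δ d b (kernel ψ) :=
    (congrArg QuotientAddGroup.mk (K0Dev.cl_iso (fun _ _ e h => cohLe_of_iso e h) (fun _ h => cohLe_of_isZero h) c)).symm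
  rw [e₁, ← e₃, e₂, add_assoc]

/-- The cohomology sheaves of a two periodic complex have rationally equivalent cycles. -/
theorem ratEquiv_periodic (hX : Cyc.IsSetup X δ) {F : X.Modules} (hF : Cyc.CohLe δ (k + 1) F) (φ ψ : F ⟶ F)
    (hφψ : φ ≫ ψ = 0) (hψφ : ψ ≫ φ = 0)
    (h0 : ∀ x : X, Nontrivial ((ShortComplex.mk φ ψ hφψ).homology.presheaf.stalk x) → δ x ≤ k)
    (h1 : ∀ x : X, Nontrivial ((ShortComplex.mk ψ φ hψφ).homology.presheaf.stalk x) → δ x ≤ k) :
    Cyc.sheafFun δ k (ShortComplex.mk φ ψ hφψ).homology - Cyc.sheafFun δ k (ShortComplex.mk ψ φ hψφ).homology ∈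
      ratSub δ k := by
  obtain ⟨Φ, hΦ⟩ := exists_hom (k := k) hX.2.2
  obtain ⟨c0, e0⟩ := q_homology hF (k - 1) φ ψ hφψ
  obtain ⟨c1, e1⟩ := q_homology hF (k - 1) ψ φ hψφ
  rw [add_comm (Cyc.toK0CohQuot δ (k + 1) (k - 1) (kernel ψ))] at e1
  have h := congrArg Φ (add_left_cancel (e0.trans e1.symm))
  rw [hΦ _ ⟨c0.1, h0⟩, hΦ _ ⟨c1.1, h1⟩, QuotientAddGroup.eq_iff_sub_mem] at h
  exact h

end Groth.Agent.CycK0
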