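import Groth.Agent.CycK0.Main
import Groth.Agent.CycDim.PullDiv
import Groth.Agent.C1Cap.Basic
import Groth.Agent.CycDim.DegBase

/-!
Cycles rationally equivalent to zero have trivial class in `K₀(Coh_{≤k+1}/Coh_{≤k-1})`.
-/

set_option autoImplicit false
set_option linter.unusedSectionVars false
set_option linter.style.haveILetI false
set_option backward.isDefEq.respectTransparency false
set_option backward.isDefEq.respectTransparency.types false

universe u

open CategoryTheory CategoryTheory.Limits AlgebraicGeometry TopologicalSpace Opposite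
open Groth.Agent.K0Dev (St)
open Groth.Agent.KFlat (pgerm pgerm_res pgerm_smul exists_pgerm pstMap_germ)
open Groth.Agent.CycDim (spz)
open Groth.Agent.CDivNormal (genPrime)
open Groth.Agent.C1Cap (rdu)

noncomputable section

attribute [local instance] Abelian.hasFiniteBiproducts

namespace Groth.Agent.CycK0

variable {X : Scheme.{u}}

/-! ### The sheaf of rational functions on the closure of a point -/

/-- The residue field as a module over the local ring. -/
abbrev kap (ξ : X) : ModuleCat.{u} (X.presheaf.stalk ξ) :=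
  ModuleCat.of (X.presheaf.stalk ξ) (IsLocalRing.ResidueField (X.presheaf.stalk ξ))

/-- The rational functions on the closure of a point. -/
def ratSheaf (ξ : X) : X.Modules := (KFlat.sky ξ).obj (kap ξ)

lemma isQCoh_ratSheaf [IsLocallyNoetherian X] (ξ : X) : Coh.IsQCoh (ratSheaf ξ) := by
  refine QC.isQCoh_of_iso (productUniqueIso fun _ : PUnit.{u + 1} => (KFlat.sky ξ).obj (kap ξ)) ?_
  refine isQCoh_prod_sky (fun _ : PUnit.{u + 1} => ξ) (fun _ => kap ξ) fun _ a ha m => ?_
  exact (Algebra.smul_def (A := IsLocalRing.ResidueField (X.presheaf.stalk ξ)) a m).trans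
    ((congrArg (fun c => c * m) ((IsLocalRing.residue_eq_zero_iff a).2 ha)).trans (zero_mul m))

/-- The natural map from the structure sheaf. -/
def toRat (ξ : X) : Coh.structureModule X ⟶ ratSheaf ξ :=
  ⟨PresheafOfModules.homMk
    { app := fun U => AddCommGrpCat.ofHom
        { toFun := fun r h => rdu ξ (X.presheaf.germ U.unop ξ h.down (r : Γ(X, U.unop)))
          map_zero' := funext fun h => (congrArg (rdu ξ) (map_zero (X.presheaf.germ U.unop ξ h.down).hom)).trans (map_zero _)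
          map_add' := fun a b => funext fun h =>
            (congrArg (rdu ξ) (map_add (X.presheaf.germ U.unop ξ h.down).hom a b)).trans (map_add (rdu ξ) _ _) }
      naturality := fun U V i => by
        ext s
        exact funext fun h => congrArg (rdu ξ) (X.presheaf.germ_res_apply i.unop ξ h.down s) }
    fun U r s => funext fun h =>
      (congrArg (rdu ξ) (map_mul (X.presheaf.germ U.unop ξ h.down).hom r s)).trans
        ((map_mul (rdu ξ) _ _).trans (Algebra.smul_def (A := IsLocalRing.ResidueField (X.presheaf.stalk ξ)) _ _).symm)⟩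

/-- The structure sheaf of the closure of a point, inside the rational functions. -/
def integers (ξ : X) : X.Modules := Abelian.image (toRat ξ)

/-- The inclusion. -/
abbrev incl (ξ : X) : integers ξ ⟶ ratSheaf ξ := Abelian.image.ι (toRat ξ)

lemma isCoh_integers [IsLocallyNoetherian X] (ξ : X) : Coh.IsCoh (integers ξ) :=
  K0Coh.isCoh_of_iso (Abelian.coimageIsoImage (toRat ξ))
    (QC.isCoh_cokernel (QC.isCoh_kernel (Devissage.isCoh_unit X) (isQCoh_ratSheaf ξ) (toRat ξ)).1
      (Devissage.isCoh_unit X) _)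

/-- A rational function as an element of the residue field of the local ring. -/
abbrev rf {ξ : X} (f : X.residueField ξ) : IsLocalRing.ResidueField (X.presheaf.stalk ξ) := f

/-- Multiplication by a rational function. -/
def mulRat (ξ : X) (f : X.residueField ξ) : ratSheaf ξ ⟶ ratSheaf ξ :=
  (KFlat.sky ξ).map (ModuleCat.ofHom
    (LinearMap.mulLeft (X.presheaf.stalk ξ) (rf f)))

lemma isIso_mulRat {ξ : X} {f : X.residueField ξ} (hf : f ≠ 0) : IsIso (mulRat ξ f) := by
  haveI : IsIso (ModuleCat.ofHom (LinearMap.mulLeft (X.presheaf.stalk ξ) (rf f))) :=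
    (ConcreteCategory.isIso_iff_bijective _).2 (mulLeft_bijective₀ _ hf)
  exact Functor.map_isIso _ _

/-- The fractional ideal of denominators. -/
def denom (ξ : X) (f : X.residueField ξ) : X.Modules := pullback (incl ξ ≫ mulRat ξ f) (incl ξ)

/-- Its inclusion. -/
abbrev dFst (ξ : X) (f : X.residueField ξ) : denom ξ f ⟶ integers ξ := pullback.fst _ _

/-- Its inclusion multiplied by the function. -/
abbrev dSnd (ξ : X) (f : X.residueField ξ) : denom ξ f ⟶ integers ξ := pullback.snd _ _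

lemma mono_dFst (ξ : X) (f : X.residueField ξ) : Mono (dFst ξ f) := inferInstance

lemma mono_dSnd {ξ : X} {f : X.residueField ξ} (hf : f ≠ 0) : Mono (dSnd ξ f) := by
  haveI := isIso_mulRat hf
  exact inferInstance

lemma isCoh_denom [IsLocallyNoetherian X] (ξ : X) (f : X.residueField ξ) : Coh.IsCoh (denom ξ f) := by
  haveI : Mono (dFst ξ f) := mono_dFst ξ f
  let κ : denom ξ f ⟶ kernel (biprod.desc (incl ξ ≫ mulRat ξ f) (-incl ξ)) :=
    kernel.lift _ (biprod.lift (dFst ξ f) (dSnd ξ f)) (by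
      rw [biprod.lift_desc, Preadditive.comp_neg, add_neg_eq_zero]; exact pullback.condition)
  haveI : IsIso κ := by
    let κ' : kernel (biprod.desc (incl ξ ≫ mulRat ξ f) (-incl ξ)) ⟶ denom ξ f :=
      pullback.lift (kernel.ι _ ≫ biprod.fst) (kernel.ι _ ≫ biprod.snd) (by
        have h := kernel.condition (biprod.desc (incl ξ ≫ mulRat ξ f) (-incl ξ))
        have hd : biprod.desc (incl ξ ≫ mulRat ξ f) (-incl ξ) =
            biprod.fst ≫ incl ξ ≫ mulRat ξ f - biprod.snd ≫ incl ξ := by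
          rw [biprod.desc_eq, Preadditive.comp_neg, sub_eq_add_neg]
        replace h := (congrArg (fun φ => kernel.ι (biprod.desc (incl ξ ≫ mulRat ξ f) (-incl ξ)) ≫ φ) hd).symm.trans h
        rw [Preadditive.comp_sub, sub_eq_zero] at h
        simpa only [Category.assoc] using h)
    refine ⟨κ', pullback.hom_ext (by simp [κ, κ']) (by simp [κ, κ']), ?_⟩
    refine (cancel_mono (kernel.ι _)).1 (biprod.hom_ext _ _ (by simp [κ, κ']) (by simp [κ, κ']))
  exact K0Coh.isCoh_of_iso (asIso κ).symm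
    (QC.isCoh_kernel (W7Exist.isCoh_biprod (isCoh_integers ξ) (isCoh_integers ξ)) (isQCoh_ratSheaf ξ) _)

/-! ### Stalks -/

lemma isZero_ratSheaf_st {ξ x : X} (h : ¬ ξ ⤳ x) : IsZero ((St x).obj (ratSheaf ξ)) := by
  suffices H : ∀ z : (ratSheaf ξ).presheaf.stalk x, z = 0 from
    @ModuleCat.isZero_of_subsingleton _ _ _ ⟨fun a b => (H a).trans (H b).symm⟩
  intro z
  obtain ⟨U, hU, s, rfl⟩ := exists_pgerm (DCoh.toP.obj (ratSheaf ξ)) x z
  let W : X.Opens := U ⊓ ⟨(closure {ξ})ᶜ, isClosed_closure.isOpen_compl⟩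
  have hxW : x ∈ W := ⟨hU, fun hx => h (specializes_iff_mem_closure.2 hx)⟩
  rw [← pgerm_res (DCoh.toP.obj (ratSheaf ξ)) x (inf_le_left : W ≤ U) hxW s,
    show KFlat.pres (DCoh.toP.obj (ratSheaf ξ)) (inf_le_left : W ≤ U) s = 0 from
      funext fun hh => absurd (subset_closure (Set.mem_singleton ξ)) hh.down.2]
  exact map_zero _

lemma isZero_st_of_mono {ξ x : X} {M : X.Modules} (φ : M ⟶ ratSheaf ξ) [Mono φ] (h : ¬ ξ ⤳ x) :
    IsZero ((St x).obj M) := IsZero.of_mono ((St x).map φ) (isZero_ratSheaf_st h)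

lemma isZero_integers_st {ξ x : X} (h : ¬ ξ ⤳ x) : IsZero ((St x).obj (integers ξ)) :=
  isZero_st_of_mono (incl ξ) h

lemma isZero_denom_st {ξ x : X} (f : X.residueField ξ) (h : ¬ ξ ⤳ x) : IsZero ((St x).obj (denom ξ f)) :=
  IsZero.of_mono ((St x).map (dFst ξ f)) (isZero_integers_st h)

/-- The structure map on stalks vanishes exactly on the prime of `ξ`. -/
lemma st_toRat_eq_zero {ξ x : X} (h : ξ ⤳ x) {U : X.Opens} (hU : x ∈ U) (r : Γ(X, U)) :
    ((St x).map (toRat ξ)).hom (pgerm (DCoh.toP.obj (Coh.structureModule X)) x U hU r) = 0 ↔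
      X.presheaf.germ U x hU r ∈ genPrime h := by
  have he : ((St x).map (toRat ξ)).hom (pgerm (DCoh.toP.obj (Coh.structureModule X)) x U hU r) =
      pgerm (DCoh.toP.obj (ratSheaf ξ)) x U hU (fun hh => rdu ξ (X.presheaf.germ U ξ hh.down r)) :=
    pstMap_germ (DCoh.toP.map (toRat ξ)) x hU r
  rw [he, CycDim.mem_genPrime_iff, RingHom.mem_ker,
    show Cyc.specMap x ξ h (X.presheaf.germ U x hU r) = rdu ξ (X.presheaf.germ U ξ (h.mem_open U.2 hU) r) from
      congrArg (rdu ξ) (X.presheaf.germ_stalkSpecializes_apply hU h r)]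
  constructor
  · intro h0
    obtain ⟨W, hxW, i, j, hW⟩ := TopCat.Presheaf.germ_eq (DCoh.toP.obj (ratSheaf ξ)).presheaf x hU hU _ 0
      (h0.trans (map_zero _).symm)
    rw [map_zero] at hW
    exact congrFun hW ⟨h.mem_open W.2 hxW⟩
  · intro h0
    refine (congrArg _ (funext fun hh => ?_)).trans (map_zero (pgerm (DCoh.toP.obj (ratSheaf ξ)) x U hU))
    exact h0

/-- The local ring maps onto the stalk of `integers`, with kernel the prime of `ξ`. -/
lemma exists_quot_equiv {ξ x : X} (h : ξ ⤳ x) :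
    Nonempty ((X.presheaf.stalk x ⧸ genPrime h) ≃ₗ[X.presheaf.stalk x] (integers ξ).presheaf.stalk x) := by
  obtain ⟨e, he⟩ := RefStalk.exists_structStalk (X := X) x
  let g := (St x).map (Abelian.factorThruImage (toRat ξ))
  have hg : Function.Surjective g.hom := (ModuleCat.epi_iff_surjective g).1 inferInstance
  let l : X.presheaf.stalk x →ₗ[X.presheaf.stalk x] (integers ξ).presheaf.stalk x := g.hom.comp e.toLinearMap
  have hl : LinearMap.ker l = genPrime h := by
    ext a
    obtain ⟨U, hU, r, rfl⟩ := X.presheaf.exists_germ_eq (x := x) a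
    rw [LinearMap.mem_ker, ← st_toRat_eq_zero h hU r]
    have hinj : Function.Injective ((St x).map (incl ξ)).hom := (ModuleCat.mono_iff_injective _).1 inferInstance
    have hc : (St x).map (toRat ξ) = g ≫ (St x).map (incl ξ) := by
      rw [← Functor.map_comp, Abelian.image.fac]
    rw [hc]
    show g.hom (e _) = 0 ↔ ((St x).map (incl ξ)).hom (g.hom _) = 0
    rw [map_eq_zero_iff _ hinj, show e (X.presheaf.germ U x hU r) =
      pgerm (DCoh.toP.obj (Coh.structureModule X)) x U hU r from ?_]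
    refine (he _).trans ?_
    show X.presheaf.germ U x hU r •
      pgerm (DCoh.toP.obj (Coh.structureModule X)) x ⊤ trivial (1 : Γ(X, (⊤ : X.Opens))) = _
    rw [← pgerm_res (DCoh.toP.obj (Coh.structureModule X)) x (le_top : U ≤ ⊤) hU (1 : Γ(X, (⊤ : X.Opens)))]
    erw [← pgerm_smul (DCoh.toP.obj (Coh.structureModule X)) x hU]
    refine congrArg _ ?_
    show r * QC.resO X (le_top : U ≤ ⊤) 1 = r
    rw [map_one, mul_one]
  exact ⟨(Submodule.quotEquivOfEq _ _ hl.symm).trans
    (LinearMap.quotKerEquivOfSurjective l (hg.comp e.surjective))⟩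

/-- The relation between the two inclusions on stalks. -/
lemma smul_dFst {ξ x : X} (h : ξ ⤳ x) {f : X.residueField ξ} {a b : X.presheaf.stalk x}
    (hab : rdu ξ (spz h b) * f = rdu ξ (spz h a)) (m : (denom ξ f).presheaf.stalk x) :
    a • ((St x).map (dFst ξ f)).hom m = b • ((St x).map (dSnd ξ f)).hom m := by
  have hinj : Function.Injective ((St x).map (incl ξ)).hom := (ModuleCat.mono_iff_injective _).1 inferInstance
  have hc : (St x).map (dSnd ξ f) ≫ (St x).map (incl ξ) =
      (St x).map (dFst ξ f) ≫ (St x).map (incl ξ) ≫ (St x).map (mulRat ξ f) := by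
    rw [← Functor.map_comp, ← Functor.map_comp, ← Functor.map_comp]
    exact congrArg (St x).map pullback.condition.symm
  refine hinj ?_
  rw [map_smul, map_smul, show ((St x).map (incl ξ)).hom (((St x).map (dSnd ξ f)).hom m) =
    ((St x).map (mulRat ξ f)).hom (((St x).map (incl ξ)).hom (((St x).map (dFst ξ f)).hom m)) from
      LinearMap.congr_fun (congrArg ModuleCat.Hom.hom hc) m]
  generalize ((St x).map (incl ξ)).hom (((St x).map (dFst ξ f)).hom m) = z
  obtain ⟨U, hU, s, rfl⟩ := exists_pgerm (DCoh.toP.obj (ratSheaf ξ)) x z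
  obtain ⟨Va, hVa, a, rfl⟩ := X.presheaf.exists_germ_eq (x := x) a
  obtain ⟨Vb, hVb, b, rfl⟩ := X.presheaf.exists_germ_eq (x := x) b
  let W : X.Opens := U ⊓ Va ⊓ Vb
  have hW : x ∈ W := ⟨⟨hU, hVa⟩, hVb⟩
  have hsU : W ≤ U := inf_le_left.trans inf_le_left
  have ia : W ≤ Va := inf_le_left.trans inf_le_right
  have ib : W ≤ Vb := inf_le_right
  let s' : KFlat.SkySec ξ (kap ξ) W := KFlat.pres (DCoh.toP.obj (ratSheaf ξ)) hsU s
  have he : ((St x).map (mulRat ξ f)).hom (pgerm (DCoh.toP.obj (ratSheaf ξ)) x W hW s') =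
      pgerm (DCoh.toP.obj (ratSheaf ξ)) x W hW (fun hh => rf f * s' hh) :=
    pstMap_germ (DCoh.toP.map (mulRat ξ f)) x hW s'
  rw [← pgerm_res (DCoh.toP.obj (ratSheaf ξ)) x hsU hW s, he, ← X.presheaf.germ_res_apply (homOfLE ia) x hW a,
    ← X.presheaf.germ_res_apply (homOfLE ib) x hW b]
  erw [← pgerm_smul (DCoh.toP.obj (ratSheaf ξ)) x hW, ← pgerm_smul (DCoh.toP.obj (ratSheaf ξ)) x hW]
  refine congrArg _ (funext fun hh => ?_)
  let A : X.presheaf.stalk ξ := X.presheaf.germ W ξ hh.down (X.presheaf.map (homOfLE ia).op a)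
  let B : X.presheaf.stalk ξ := X.presheaf.germ W ξ hh.down (X.presheaf.map (homOfLE ib).op b)
  have hA : spz h (X.presheaf.germ Va x hVa a) = A :=
    (X.presheaf.germ_stalkSpecializes_apply hVa h a).trans (X.presheaf.germ_res_apply (homOfLE ia) ξ hh.down a).symm
  have hB : spz h (X.presheaf.germ Vb x hVb b) = B :=
    (X.presheaf.germ_stalkSpecializes_apply hVb h b).trans (X.presheaf.germ_res_apply (homOfLE ib) ξ hh.down b).symm
  show A • (s' hh : IsLocalRing.ResidueField (X.presheaf.stalk ξ)) = B • (rf f * s' hh)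
  rw [Algebra.smul_def, Algebra.smul_def, ← mul_assoc]
  exact congrArg (fun c => c * s' hh) ((congrArg (rdu ξ) hA).symm.trans (hab.symm.trans
    (congrArg (fun c => rdu ξ c * f) hB)))

/-- Lengths of cokernels under composition with an injective endomorphism. -/
lemma length_coker_comp {R : Type u} [CommRing R] {N : Type u} [AddCommGroup N] [Module R N] (S : Submodule R N)
    (g : N →ₗ[R] N) (hg : Function.Injective g) :
    Module.length R (N ⧸ S.map g) = Module.length R (N ⧸ S) + Module.length R (N ⧸ LinearMap.range g) := by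
  let i : (N ⧸ S) →ₗ[R] N ⧸ S.map g := Submodule.mapQ S (S.map g) g fun s hs => Submodule.mem_map_of_mem hs
  let p : (N ⧸ S.map g) →ₗ[R] N ⧸ LinearMap.range g :=
    Submodule.mapQ (S.map g) (LinearMap.range g) LinearMap.id fun s hs => by
      obtain ⟨t, -, rfl⟩ := hs; exact ⟨t, rfl⟩
  refine Module.length_eq_add_of_exact i p ?_ ?_ ?_
  · refine (injective_iff_map_eq_zero _).2 fun z hz => ?_
    obtain ⟨n, rfl⟩ := Submodule.mkQ_surjective S z
    obtain ⟨s, hs, hsn⟩ := (Submodule.Quotient.mk_eq_zero _).1 hz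
    exact (Submodule.Quotient.mk_eq_zero _).2 (hg hsn ▸ hs)
  · intro z
    obtain ⟨n, rfl⟩ := Submodule.mkQ_surjective _ z
    exact ⟨Submodule.Quotient.mk n, rfl⟩
  · intro z
    obtain ⟨n, rfl⟩ := Submodule.mkQ_surjective _ z
    constructor
    · intro hz
      obtain ⟨t, ht⟩ := (Submodule.Quotient.mk_eq_zero _).1 hz
      exact ⟨Submodule.Quotient.mk t, congrArg (Submodule.mkQ _) ht⟩
    · rintro ⟨t, ht⟩
      obtain ⟨t, rfl⟩ := Submodule.mkQ_surjective S t
      rw [← ht]
      exact (Submodule.Quotient.mk_eq_zero _).2 ⟨t, rfl⟩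

/-- The quotient of the integers by the denominators. -/
abbrev cU (ξ : X) (f : X.residueField ξ) : X.Modules := cokernel (dFst ξ f)

/-- The quotient of the integers by the numerators. -/
abbrev cV (ξ : X) (f : X.residueField ξ) : X.Modules := cokernel (dSnd ξ f)

lemma isZero_coker_generic {ξ : X} {f : X.residueField ξ} (hf : f ≠ 0) :
    IsZero ((St ξ).obj (cU ξ f)) ∧ IsZero ((St ξ).obj (cV ξ f)) := by
  haveI := isIso_mulRat hf
  have hepi : Epi ((St ξ).map (toRat ξ)) := (ModuleCat.epi_iff_surjective _).2 fun z => by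
    obtain ⟨w, hw⟩ := IsLocalRing.residue_surjective (KFlat.skyEvalₗ ξ (kap ξ) z)
    obtain ⟨U, hU, r, rfl⟩ := X.presheaf.exists_germ_eq (x := ξ) w
    refine ⟨pgerm (DCoh.toP.obj (Coh.structureModule X)) ξ U hU r, (KFlat.skyEval_bijective ξ (kap ξ)).1 ?_⟩
    refine Eq.trans ?_ hw
    refine (congrArg (KFlat.skyEvalₗ ξ (kap ξ)) (pstMap_germ (DCoh.toP.map (toRat ξ)) ξ hU r)).trans ?_
    exact KFlat.skyEval_germ ξ (kap ξ) U hU _
  haveI : Epi ((St ξ).map (incl ξ)) := by
    haveI := hepi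
    have e : (St ξ).map (Abelian.factorThruImage (toRat ξ)) ≫ (St ξ).map (incl ξ) = (St ξ).map (toRat ξ) := by
      rw [← Functor.map_comp, Abelian.image.fac]
    exact epi_of_epi_fac e
  haveI : IsIso ((St ξ).map (incl ξ)) := isIso_of_mono_of_epi _
  have hP : IsPullback ((St ξ).map (dFst ξ f)) ((St ξ).map (dSnd ξ f)) ((St ξ).map (incl ξ ≫ mulRat ξ f))
      ((St ξ).map (incl ξ)) := (IsPullback.of_hasPullback _ _).map (St ξ)
  haveI : IsIso ((St ξ).map (incl ξ ≫ mulRat ξ f)) := by rw [Functor.map_comp]; infer_instance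
  haveI : IsIso ((St ξ).map (dFst ξ f)) := hP.isIso_fst_of_isIso
  haveI : IsIso ((St ξ).map (dSnd ξ f)) := hP.isIso_snd_of_isIso
  constructor
  · exact IsZero.of_epi_eq_zero ((St ξ).map (cokernel.π (dFst ξ f))) ((cancel_epi ((St ξ).map (dFst ξ f))).1
      (by rw [← Functor.map_comp, cokernel.condition, Functor.map_zero, comp_zero]))
  · exact IsZero.of_epi_eq_zero ((St ξ).map (cokernel.π (dSnd ξ f))) ((cancel_epi ((St ξ).map (dSnd ξ f))).1
      (by rw [← Functor.map_comp, cokernel.condition, Functor.map_zero, comp_zero]))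

lemma isZero_coker_st {ξ x : X} (f : X.residueField ξ) (h : ¬ ξ ⤳ x) :
    IsZero ((St x).obj (cU ξ f)) ∧ IsZero ((St x).obj (cV ξ f)) :=
  ⟨IsZero.of_epi ((St x).map (cokernel.π (dFst ξ f))) (isZero_integers_st h),
    IsZero.of_epi ((St x).map (cokernel.π (dSnd ξ f))) (isZero_integers_st h)⟩

variable {δ : X → ℤ} {k : ℤ}

lemma cohLe_coker [IsLocallyNoetherian X] (hδ : Cyc.IsDimFun X δ) {ξ : X} (hξ : δ ξ = k + 1)
    {f : X.residueField ξ} (hf : f ≠ 0) : Cyc.CohLe δ k (cU ξ f) ∧ Cyc.CohLe δ k (cV ξ f) := by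
  have h : ∀ x, k < δ x → IsZero ((St x).obj (cU ξ f)) ∧ IsZero ((St x).obj (cV ξ f)) := fun x hx => by
    by_cases hsp : ξ ⤳ x
    · by_cases he : ξ = x
      · subst he; exact isZero_coker_generic hf
      · have := (hδ _ _ hsp he).1
        omega
    · exact isZero_coker_st f hsp
  exact ⟨(cohLe_iff δ k).2 ⟨QC.isCoh_cokernel (isCoh_denom ξ f).1 (isCoh_integers ξ) _, fun x hx => (h x hx).1⟩,
    (cohLe_iff δ k).2 ⟨QC.isCoh_cokernel (isCoh_denom ξ f).1 (isCoh_integers ξ) _, fun x hx => (h x hx).2⟩⟩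

/-- The length of a stalk of a cokernel. -/
lemma length_coker_st {A B : X.Modules} (φ : A ⟶ B) (x : X) :
    Module.length (X.presheaf.stalk x) ((cokernel φ).presheaf.stalk x) =
      Module.length (X.presheaf.stalk x) (B.presheaf.stalk x ⧸ LinearMap.range ((St x).map φ).hom) := by
  have hS : (ShortComplex.mk φ (cokernel.π φ) (cokernel.condition φ)).Exact :=
    ShortComplex.exact_of_g_is_cokernel _ (cokernelIsCokernel φ)
  have hex : LinearMap.range ((St x).map φ).hom = LinearMap.ker ((St x).map (cokernel.π φ)).hom :=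
    (ShortComplex.moduleCat_exact_iff_range_eq_ker _).1 (hS.map (St x))
  exact ((Submodule.quotEquivOfEq _ _ hex).trans (LinearMap.quotKerEquivOfSurjective _
    ((ModuleCat.epi_iff_surjective _).1 inferInstance))).length_eq.symm

/-- The divisor as a difference of lengths. -/
theorem divFun_eq [IsLocallyNoetherian X] (hδ : Cyc.IsDimFun X δ) {ξ : X} (hξ : δ ξ = k + 1)
    {f : X.residueField ξ} (hf : f ≠ 0) (x : X) :
    Cyc.divFun δ ξ f x = Cyc.sheafFun δ k (cV ξ f) x - Cyc.sheafFun δ k (cU ξ f) x := by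
  by_cases hx : δ x = k
  swap
  · simp only [Cyc.divFun, Cyc.sheafFun, if_neg hx, sub_self]
    exact dif_neg fun h => hx (by omega)
  simp only [Cyc.sheafFun, if_pos hx]
  by_cases h : ξ ⤳ x
  swap
  · haveI h1 : Subsingleton ((cU ξ f).presheaf.stalk x) :=
      ModuleCat.subsingleton_of_isZero (isZero_coker_st f h).1
    haveI h2 : Subsingleton ((cV ξ f).presheaf.stalk x) :=
      ModuleCat.subsingleton_of_isZero (isZero_coker_st f h).2
    rw [Cyc.divFun, dif_neg fun hh => h hh.1, (Module.length_eq_zero_iff (R := X.presheaf.stalk x)).2 h1,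
      (Module.length_eq_zero_iff (R := X.presheaf.stalk x)).2 h2, sub_self]
  rw [Cyc.divFun, dif_pos ⟨h, by omega⟩]
  obtain ⟨w, hw⟩ := IsLocalRing.residue_surjective (R := X.presheaf.stalk ξ) f
  replace hw : rdu ξ w = f := hw
  letI := (spz h).toAlgebra
  haveI := CycDim.isLocalization_genPrime h
  obtain ⟨⟨a, b⟩, hab⟩ := IsLocalization.surj (genPrime h).primeCompl w
  have hb : b.1 ∉ genPrime h := b.2
  have hab' : rdu ξ (spz h b.1) * f = rdu ξ (spz h a) := by
    rw [← hw, ← map_mul, mul_comm]; exact congrArg (rdu ξ) hab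
  have hb0 : rdu ξ (spz h b.1) ≠ 0 := fun h0 => hb ((CycDim.mem_genPrime_iff h b.1).2 (RingHom.mem_ker.2 h0))
  have ha : a ∉ genPrime h := fun ha => by
    have h0 : rdu ξ (spz h a) = 0 := RingHom.mem_ker.1 ((CycDim.mem_genPrime_iff h a).1 ha)
    rw [h0] at hab'
    exact (mul_ne_zero hb0 hf) hab'
  have hd : δ ξ ≤ δ x + 1 := by omega
  have hord : Cyc.ordAt x ξ h f = Cyc.ordAt x ξ h (rdu ξ (spz h a)) - Cyc.ordAt x ξ h (rdu ξ (spz h b.1)) := by
    rw [← hab', C1Cap.ordAt_mul h hb0 hf]; ring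
  rw [hord, CycPull.ordAt_eq_length hδ h hd ha, CycPull.ordAt_eq_length hδ h hd hb]
  obtain ⟨e⟩ := exists_quot_equiv h
  let N := (integers ξ).presheaf.stalk x
  have hinj : ∀ c : X.presheaf.stalk x, c ∉ genPrime h →
      Function.Injective (LinearMap.lsmul (X.presheaf.stalk x) N c) := fun c hc => by
    refine (injective_iff_map_eq_zero _).2 fun n hn => ?_
    obtain ⟨q, rfl⟩ := e.surjective n
    obtain ⟨r, rfl⟩ := Submodule.mkQ_surjective _ q
    rw [LinearMap.lsmul_apply, ← e.map_smul, e.map_eq_zero_iff] at hn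
    rw [e.map_eq_zero_iff]
    exact (Submodule.Quotient.mk_eq_zero _).2
      ((inferInstance : (genPrime h).IsPrime).mem_or_mem ((Submodule.Quotient.mk_eq_zero _).1 hn) |>.resolve_left hc)
  have hlen : ∀ c : X.presheaf.stalk x,
      Module.length (X.presheaf.stalk x) (N ⧸ LinearMap.range (LinearMap.lsmul (X.presheaf.stalk x) N c)) =
      Module.length (X.presheaf.stalk x) (X.presheaf.stalk x ⧸ (genPrime h ⊔ Ideal.span {c})) := by
    intro c
    refine LinearEquiv.length_eq (R := X.presheaf.stalk x) ?_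
    let π : X.presheaf.stalk x →ₗ[X.presheaf.stalk x] N := e.toLinearMap.comp (Submodule.mkQ _)
    let l := (Submodule.mkQ (LinearMap.range (LinearMap.lsmul (X.presheaf.stalk x) N c))).comp π
    have hl : LinearMap.ker l = genPrime h ⊔ Ideal.span {c} := by
      rw [LinearMap.ker_comp, Submodule.ker_mkQ]
      ext r
      rw [Submodule.mem_comap, LinearMap.mem_range, Submodule.mem_sup]
      constructor
      · rintro ⟨n, hn⟩
        obtain ⟨t, rfl⟩ : ∃ t, π t = n := (e.surjective.comp (Submodule.mkQ_surjective _)) n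
        rw [LinearMap.lsmul_apply, ← map_smul] at hn
        exact ⟨r - c • t, (Submodule.Quotient.eq _).1 (e.injective hn).symm, c • t,
          Ideal.mem_span_singleton'.2 ⟨t, mul_comm t c⟩, sub_add_cancel r (c • t)⟩
      · rintro ⟨p, hp, q, hq, rfl⟩
        obtain ⟨t, rfl⟩ := Ideal.mem_span_singleton'.1 hq
        refine ⟨π t, ?_⟩
        rw [LinearMap.lsmul_apply, ← map_smul, map_add, show π p = 0 from
          (congrArg e ((Submodule.Quotient.mk_eq_zero _).2 hp)).trans (map_zero e), zero_add, smul_eq_mul, mul_comm]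
    exact ((Submodule.quotEquivOfEq _ _ hl.symm).trans (LinearMap.quotKerEquivOfSurjective l
      ((Submodule.mkQ_surjective _).comp (e.surjective.comp (Submodule.mkQ_surjective _))))).symm
  let u := ((St x).map (dFst ξ f)).hom
  let v := ((St x).map (dSnd ξ f)).hom
  have hmap : (LinearMap.range u).map (LinearMap.lsmul (X.presheaf.stalk x) N a) =
      (LinearMap.range v).map (LinearMap.lsmul (X.presheaf.stalk x) N b.1) := by
    rw [← LinearMap.range_comp, ← LinearMap.range_comp]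
    exact congrArg LinearMap.range (LinearMap.ext fun m => smul_dFst h hab' m)
  have key := congrArg (fun S : Submodule (X.presheaf.stalk x) N => Module.length (X.presheaf.stalk x) (N ⧸ S)) hmap
  simp only [length_coker_comp _ _ (hinj a ha), length_coker_comp _ _ (hinj b.1 hb), hlen] at key
  have hc := cohLe_coker hδ hξ hf
  have h1 := length_ne_top hδ hc.1 hx
  have h2 := length_ne_top hδ hc.2 hx
  rw [length_coker_st] at h1 h2 ⊢
  rw [length_coker_st]
  have h3 := (CycPull.length_sup_lt_top hδ h hd ha).ne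
  have h4 := (CycPull.length_sup_lt_top hδ h hd hb).ne
  have := congrArg ENat.toNat key
  rw [ENat.toNat_add h1 h3, ENat.toNat_add h2 h4] at this
  omega

/-! ### The class -/

/-- Mono is preserved by coproducts. -/
lemma mono_sigma_map {ι : Type u} {F G : ι → X.Modules} (φ : ∀ i, F i ⟶ G i) (h : ∀ i, Mono (φ i)) :
    Mono (Limits.Sigma.map φ) := by
  refine Preadditive.mono_of_isZero_kernel _ ((K0Dev.isZero_iff_stalks _).2 fun x => ?_)
  haveI : ∀ i, Mono ((St x).map (φ i)) := fun i => inferInstance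
  haveI : Mono ((St x).map (Limits.Sigma.map φ)) := by
    haveI : Mono (Limits.Sigma.map fun i => (St x).map (φ i)) := inferInstance
    have e : (St x).map (Limits.Sigma.map φ) = inv (sigmaComparison (St x) F) ≫
        (Limits.Sigma.map fun i => (St x).map (φ i)) ≫ sigmaComparison (St x) G := by
      rw [IsIso.eq_inv_comp]
      ext i
      simp [← Functor.map_comp]
    rw [e]; infer_instance
  exact (IsZero.iff_id_eq_zero _).2 ((cancel_mono ((St x).map (kernel.ι (Limits.Sigma.map φ)))).1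
    ((cancel_mono ((St x).map (Limits.Sigma.map φ))).1 (by simp [← Functor.map_comp])))

variable [IsLocallyNoetherian X]

lemma cohLe_succ {G : X.Modules} (hG : Cyc.CohLe δ k G) : Cyc.CohLe δ (k + 1) G :=
  ⟨hG.1, fun x hx => (hG.2 x hx).trans (by omega)⟩

/-- The class of a coproduct of cokernels of monomorphisms. -/
lemma q_sigma {ι : Type u} {M N : ι → X.Modules} (φ : ∀ i, M i ⟶ N i) (hφ : ∀ i, Mono (φ i)) (b : ℤ)
    (hM : Cyc.CohLe δ k (∐ M)) (hN : Cyc.CohLe δ k (∐ N)) (hC : Cyc.CohLe δ k (∐ fun i => cokernel (φ i))) :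
    Cyc.toK0CohQuot δ k b (∐ N) =
      Cyc.toK0CohQuot δ k b (∐ M) + Cyc.toK0CohQuot δ k b (∐ fun i => cokernel (φ i)) := by
  haveI := mono_sigma_map φ hφ
  have hw : Limits.Sigma.map φ ≫ Limits.Sigma.map (fun i => cokernel.π (φ i)) = 0 := by
    refine Sigma.hom_ext _ _ fun i => ?_
    rw [comp_zero, Sigma.ι_map_assoc, Sigma.ι_map, cokernel.condition_assoc, zero_comp]
  haveI : Epi (Limits.Sigma.map fun i => cokernel.π (φ i)) := ⟨fun g g' h => Sigma.hom_ext _ _ fun i => by
    refine (cancel_epi (cokernel.π (φ i))).1 ?_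
    refine (Sigma.ι_map_assoc (fun i => cokernel.π (φ i)) i g).symm.trans ?_
    rw [h]
    exact Sigma.ι_map_assoc (fun i => cokernel.π (φ i)) i g'⟩
  let S := ShortComplex.mk (Limits.Sigma.map φ) (Limits.Sigma.map fun i => cokernel.π (φ i)) hw
  have hS : S.ShortExact :=
    { exact := ShortComplex.exact_of_g_is_cokernel _ (CokernelCofork.IsColimit.ofπ' _ _
        fun {A} g hg => ⟨Sigma.desc fun i => cokernel.desc (φ i) (Sigma.ι N i ≫ g) (by
            rw [← Sigma.ι_map_assoc, hg, comp_zero]),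
          Sigma.hom_ext _ _ fun i => by rw [Sigma.ι_map_assoc, Sigma.ι_desc, cokernel.π_desc]⟩)
      mono_f := inferInstance
      epi_g := inferInstance }
  exact q_add hS hM hN hC b

/-- The map induced by the inclusion of `Coh_{≤k}` in `Coh_{≤k+1}`. -/
lemma q_raise {A B : X.Modules} (hA : Cyc.CohLe δ k A) (hB : Cyc.CohLe δ k B)
    (h : Cyc.toK0CohQuot δ k (k - 1) A = Cyc.toK0CohQuot δ k (k - 1) B) :
    Cyc.toK0CohQuot δ (k + 1) (k - 1) A = Cyc.toK0CohQuot δ (k + 1) (k - 1) B := by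
  let g : KZero.K0sub (Cyc.CohLe δ k) →+ Cyc.K0CohQuot δ (k + 1) (k - 1) := QuotientAddGroup.lift _
    (FreeAbelianGroup.lift fun G : Subtype (Cyc.CohLe δ k) => Cyc.toK0CohQuot δ (k + 1) (k - 1) G.1)
    ((AddSubgroup.closure_le _).2 (by
      rintro _ ⟨S, h₁, h₂, h₃, hS, rfl⟩
      rw [SetLike.mem_coe, AddMonoidHom.mem_ker, map_sub, map_sub, FreeAbelianGroup.lift_apply_of,
        FreeAbelianGroup.lift_apply_of, FreeAbelianGroup.lift_apply_of,
        q_add hS (cohLe_succ h₁) (cohLe_succ h₂) (cohLe_succ h₃) (k - 1)]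
      abel))
  have hg : ∀ G, Cyc.CohLe δ k G → g (KZero.clSub (Cyc.CohLe δ k) G) = Cyc.toK0CohQuot δ (k + 1) (k - 1) G :=
    fun G hG => by
      rw [KZero.clSub, dif_pos hG]
      exact FreeAbelianGroup.lift_apply_of _ _
  let g' : Cyc.K0CohQuot δ k (k - 1) →+ Cyc.K0CohQuot δ (k + 1) (k - 1) := QuotientAddGroup.lift _ g
    ((AddSubgroup.closure_le _).2 (by
      rintro _ ⟨F, hF, rfl⟩
      rw [SetLike.mem_coe, AddMonoidHom.mem_ker, hg F ⟨hF.1, fun x hx => (hF.2 x hx).trans (by omega)⟩, q_small hF]))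
  exact ((hg A hA).symm.trans (congrArg g' h : g (KZero.clSub (Cyc.CohLe δ k) A) = g (KZero.clSub (Cyc.CohLe δ k) B))).trans (hg B hB)

lemma sheafFun_sigma (hδ : Cyc.IsDimFun X δ) {ι : Type u} (C : ι → X.Modules) (hC : ∀ i, Cyc.CohLe δ k (C i))
    (x : X) (t : Finset ι) (ht : ∀ i, i ∉ t → IsZero ((St x).obj (C i))) :
    Cyc.sheafFun δ k (∐ C) x = ∑ i ∈ t, Cyc.sheafFun δ k (C i) x := by
  by_cases hx : δ x = k
  swap
  · simp [Cyc.sheafFun, hx]
  simp only [Cyc.sheafFun, if_pos hx]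
  obtain ⟨e⟩ := nonempty_st_sigma C x t ht
  rw [e.length_eq, Module.length_pi_of_fintype, ENat.toNat_sum fun i _ => length_ne_top hδ (hC i.1) hx, Nat.cast_sum]
  exact Finset.sum_coe_sort t (fun i => ((Module.length (X.presheaf.stalk x) ((C i).presheaf.stalk x)).toNat : ℤ))

lemma sheafFun_biprod (hX : Cyc.IsSetup X δ) {A B : X.Modules} (hA : Cyc.CohLe δ k A) (hB : Cyc.CohLe δ k B) :
    Cyc.sheafFun δ k (A ⊞ B) = Cyc.sheafFun δ k A + Cyc.sheafFun δ k B :=
  S1896.result X δ hX k (ShortComplex.mk biprod.inl biprod.snd biprod.inl_snd)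
    (ShortComplex.Splitting.ofHasBinaryBiproduct A B).shortExact hA.1 (cohLe_biprod hA hB).1
    hB.1 (cohLe_biprod hA hB).2

lemma q_biprod {A B : X.Modules} (hA : Cyc.CohLe δ k A) (hB : Cyc.CohLe δ k B) (b : ℤ) :
    Cyc.toK0CohQuot δ k b (A ⊞ B) = Cyc.toK0CohQuot δ k b A + Cyc.toK0CohQuot δ k b B :=
  q_add (ShortComplex.Splitting.ofHasBinaryBiproduct A B).shortExact hA (cohLe_biprod hA hB) hB b

/-- The class of a cycle rationally equivalent to zero vanishes. -/
theorem q_pos_eq_neg (hX : Cyc.IsSetup X δ) {α : AlgebraicCycle X ℤ}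
    (hα : α ∈ Cyc.Zk X δ k) (h0 : Cyc.RatEquivZero δ k α) :
    Cyc.toK0CohQuot δ (k + 1) (k - 1) (Cyc.cycleSheafPos ⇑α) =
      Cyc.toK0CohQuot δ (k + 1) (k - 1) (Cyc.cycleSheafNeg ⇑α) := by
  classical
  obtain ⟨ι, ξ, f, hξ, hf, hloc, hsum⟩ := h0
  have hδ := hX.2.2
  have hcpt : ∀ V : X.affineOpens, {i | (closure {ξ i} ∩ (V.1 : Set X)).Nonempty}.Finite := fun V => by
    choose U hU hxU hfin using hloc
    obtain ⟨s, hs⟩ := V.2.isCompact.elim_finite_subcover U hU fun x _ => Set.mem_iUnion.2 ⟨x, hxU x⟩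
    refine (s.finite_toSet.biUnion fun x _ => hfin x).subset ?_
    rintro i ⟨y, hy, hyV⟩
    obtain ⟨x, hxs, hyx⟩ := Set.mem_iUnion₂.1 (hs hyV)
    exact Set.mem_biUnion hxs ⟨y, hy, hyx⟩
  have hpt : ∀ x : X, {i | ξ i ⤳ x}.Finite := fun x => by
    obtain ⟨U, -, hxU, hfin⟩ := hloc x
    exact hfin.subset fun i hi => ⟨x, specializes_iff_mem_closure.1 hi, hxU⟩
  have coh : ∀ (d : ℤ) (F : ι → X.Modules), (∀ i, Coh.IsCoh (F i)) → (∀ i x, ¬ ξ i ⤳ x → IsZero ((St x).obj (F i))) →
      (∀ i x, d < δ x → IsZero ((St x).obj (F i))) → Cyc.CohLe δ d (∐ F) := fun d F hF hs hd => by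
    refine (cohLe_iff δ d).2 ⟨isCoh_sigma F hF fun V => ⟨(hcpt V).toFinset, fun i hi x hx => hs i x fun hsp =>
      hi ((hcpt V).mem_toFinset.2 ⟨x, specializes_iff_mem_closure.1 hsp, hx⟩)⟩,
      fun x hx => isZero_st_sigma F x fun i => hd i x hx⟩
  have hd1 : ∀ i x, k + 1 < δ x → ¬ ξ i ⤳ x := fun i x hx hsp => by
    by_cases he : ξ i = x
    · have := hξ i; rw [he] at this; omega
    · have := (hδ _ _ hsp he).1; have := hξ i; omega
  let M := fun i => denom (ξ i) (f i)
  let N := fun i => integers (ξ i)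
  let CU := fun i => cU (ξ i) (f i)
  let CV := fun i => cV (ξ i) (f i)
  have hc := fun i => cohLe_coker hδ (hξ i) (hf i)
  have hM : Cyc.CohLe δ (k + 1) (∐ M) := coh _ M (fun i => isCoh_denom _ _) (fun i x => isZero_denom_st _)
    fun i x hx => isZero_denom_st _ (hd1 i x hx)
  have hN : Cyc.CohLe δ (k + 1) (∐ N) := coh _ N (fun i => isCoh_integers _) (fun i x => isZero_integers_st)
    fun i x hx => isZero_integers_st (hd1 i x hx)
  have hU : Cyc.CohLe δ k (∐ CU) := coh _ CU (fun i => (hc i).1.1) (fun i x h => (isZero_coker_st _ h).1)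
    fun i x hx => ((cohLe_iff δ k).1 (hc i).1).2 x hx
  have hV : Cyc.CohLe δ k (∐ CV) := coh _ CV (fun i => (hc i).2.1) (fun i x h => (isZero_coker_st _ h).2)
    fun i x hx => ((cohLe_iff δ k).1 (hc i).2).2 x hx
  have hdiv : ∀ x, α x = Cyc.sheafFun δ k (∐ CV) x - Cyc.sheafFun δ k (∐ CU) x := fun x => by
    have hz : ∀ i, i ∉ (hpt x).toFinset → ¬ ξ i ⤳ x := fun i hi h => hi ((hpt x).mem_toFinset.2 h)
    rw [hsum x, finsum_eq_sum_of_support_subset _ (s := (hpt x).toFinset) fun i hi => ?_,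
      sheafFun_sigma hδ CV (fun i => (hc i).2) x _ fun i hi => (isZero_coker_st _ (hz i hi)).2,
      sheafFun_sigma hδ CU (fun i => (hc i).1) x _ fun i hi => (isZero_coker_st _ (hz i hi)).1,
      ← Finset.sum_sub_distrib]
    · exact Finset.sum_congr rfl fun i _ => divFun_eq hδ (hξ i) (hf i) x
    · rw [Set.Finite.coe_toFinset]
      exact (CycDeg.divFun_delta hi).1
  have hne : ∀ x, α x ≠ 0 → δ x = k := fun x hx => by_contra fun h => hx (hα x h)
  have hne' : ∀ x, (-⇑α) x ≠ 0 → δ x = k := fun x hx => hne x fun h => hx (by simp [h])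
  have hfin : ∀ {U : X.Opens}, IsAffineOpen U → {x : X | x ∈ U ∧ α x ≠ 0}.Finite := fun hUa =>
    ((finite_sheafFun hδ hV hUa).union (finite_sheafFun hδ hU hUa)).subset fun x hx => by
      by_cases h : Cyc.sheafFun δ k (∐ CV) x = 0
      · exact Or.inr ⟨hx.1, fun h' => hx.2 (by rw [hdiv, h, h', sub_zero])⟩
      · exact Or.inl ⟨hx.1, h⟩
  have hP := cohLe_cycleSheafPos (k := k) hδ hfin fun x hx => (hne x hx).le
  have hQ : Cyc.CohLe δ k (Cyc.cycleSheafPos (-⇑α)) := cohLe_cycleSheafPos hδ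
    (fun hUa => (hfin hUa).subset fun x hx => ⟨hx.1, fun h => hx.2 (by simp [h])⟩) fun x hx => (hne' x hx).le
  have heq : Cyc.sheafFun δ k (Cyc.cycleSheafPos ⇑α ⊞ ∐ CU) =
      Cyc.sheafFun δ k (Cyc.cycleSheafPos (-⇑α) ⊞ ∐ CV) := by
    rw [sheafFun_biprod hX hP hU, sheafFun_biprod hX hQ hV]
    funext x
    rw [Pi.add_apply, Pi.add_apply, sheafFun_cycleSheafPos hδ hne, sheafFun_cycleSheafPos hδ hne', Pi.neg_apply]
    have := hdiv x
    omega
  have hq := q_raise (cohLe_biprod hP hU) (cohLe_biprod hQ hV) (by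
    rw [(q_eq_cycle hX (cohLe_biprod hP hU)).1, (q_eq_cycle hX (cohLe_biprod hQ hV)).1, heq])
  rw [q_biprod (cohLe_succ hP) (cohLe_succ hU), q_biprod (cohLe_succ hQ) (cohLe_succ hV)] at hq
  have e1 := q_sigma (fun i => dFst (ξ i) (f i)) (fun i => mono_dFst _ _) (k - 1) hM hN (cohLe_succ hU)
  have e2 := q_sigma (fun i => dSnd (ξ i) (f i)) (fun i => mono_dSnd (hf i)) (k - 1) hM hN (cohLe_succ hV)
  rw [show Cyc.toK0CohQuot δ (k + 1) (k - 1) (∐ CU) = Cyc.toK0CohQuot δ (k + 1) (k - 1) (∐ CV) from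
    add_left_cancel (e1.symm.trans e2)] at hq
  exact add_right_cancel hq

end Groth.Agent.CycK0
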