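import Groth.Agent.CycK0.Rat
import Groth.Agent.KFlat.PullTensor
import Groth.Agent.RefStalk.Generic

/-!
Twisting by an invertible module on stalks.
-/

set_option autoImplicit false
set_option linter.unusedSectionVars false
set_option linter.style.haveILetI false
set_option backward.isDefEq.respectTransparency false
set_option backward.isDefEq.respectTransparency.types false

universe u

open CategoryTheory CategoryTheory.Limits AlgebraicGeometry TopologicalSpace Opposite MonoidalCategory
open Groth.Agent.K0Dev (St)
open Groth.Agent.KFlat (pgerm pgerm_res exists_pgerm pstMap_germ stTensorIso schB)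
open Groth.Agent.RefStalk (msp msp_smul msp_germ)
open Groth.Agent.WeakAssLib (mgerm)
open Groth.Agent.CycDim (spz)
open TMul (IsGen tm)
open scoped TensorProduct

noncomputable section

namespace Groth.Agent.CycK0

variable {X : Scheme.{u}} {L : X.Modules}

/-- Twisting. -/
abbrev twist (L : X.Modules) : X.Modules ⥤ X.Modules := (schB X).flip.obj L

lemma twist_obj (F : X.Modules) : (twist L).obj F = CohB1.tensorMod F L := rfl

variable {A : X.Opens} {e : Γ(L, A)} (he : IsGen e) {x : X} (hx : x ∈ A)

include he in
lemma bijective_smul_germ :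
    Function.Bijective (LinearMap.toSpanSingleton (X.presheaf.stalk x) (L.presheaf.stalk x) (mgerm L hx e)) :=
  RefDiv.bijective_germ_of_isGen he hx

/-- The stalk of a twist, by means of a generator. -/
def theta (F : X.Modules) :
    F.presheaf.stalk x ≃ₗ[X.presheaf.stalk x] ((twist L).obj F).presheaf.stalk x :=
  ((TensorProduct.rid (X.presheaf.stalk x) (F.presheaf.stalk x)).symm.trans
    (LinearEquiv.lTensor (F.presheaf.stalk x) (LinearEquiv.ofBijective _ (bijective_smul_germ he hx)))).trans
      (stTensorIso F L x).toLinearEquiv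

lemma theta_apply (F : X.Modules) (m : F.presheaf.stalk x) :
    theta he hx F m = (stTensorIso F L x).hom.hom (m ⊗ₜ mgerm L hx e) := by
  show (stTensorIso F L x).hom.hom (m ⊗ₜ ((1 : X.presheaf.stalk x) • mgerm L hx e)) = _
  rw [one_smul]

lemma theta_natural {F G : X.Modules} (f : F ⟶ G) (m : F.presheaf.stalk x) :
    ((St x).map ((twist L).map f)).hom (theta he hx F m) = theta he hx G (((St x).map f).hom m) := by
  rw [theta_apply, theta_apply]
  exact (LinearMap.congr_fun (congrArg ModuleCat.Hom.hom (KFlat.stTensorIso_natural_left f L x))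
    (m ⊗ₜ mgerm L hx e)).symm

lemma theta_germ (F : X.Modules) {U : X.Opens} (hU : x ∈ U) (hUA : U ≤ A) (m : Γ(F, U)) :
    theta he hx F (mgerm F hU m) = mgerm (CohB1.tensorMod F L) hU (tm m (QC.res L hUA e)) := by
  rw [theta_apply, ← WeakAssLib.mgerm_res L hUA hU e]
  exact (congrArg (KFlat.pstMap (KFlat.shUnit (KFlat.PT (DCoh.toP.obj F) (DCoh.toP.obj L))) x)
    (KFlat.stEquiv_tmul (DCoh.toP.obj F) (DCoh.toP.obj L) hU m (QC.res L hUA e))).trans (pstMap_germ _ x hU _)

/-- Two generators. -/
lemma theta_change {A' : X.Opens} {e' : Γ(L, A')} (he' : IsGen e') (hx' : x ∈ A') {c : X.presheaf.stalk x}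
    (hc : mgerm L hx e = c • mgerm L hx' e') (F : X.Modules) (m : F.presheaf.stalk x) :
    theta he hx F m = c • theta he' hx' F m := by
  rw [theta_apply, theta_apply, hc, TensorProduct.tmul_smul]
  exact (stTensorIso F L x).hom.hom.map_smul c _

lemma msp_theta {ξ : X} (h : ξ ⤳ x) (F : X.Modules) (m : F.presheaf.stalk x) :
    msp ((twist L).obj F) h (theta he hx F m) = theta he (h.mem_open A.2 hx) F (msp F h m) := by
  obtain ⟨U, hU, s, rfl⟩ := exists_pgerm (DCoh.toP.obj F) x m
  let W : X.Opens := U ⊓ A
  have hW : x ∈ W := ⟨hU, hx⟩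
  show msp ((twist L).obj F) h (theta he hx F (mgerm F hU s)) = theta he _ F (msp F h (mgerm F hU s))
  rw [← WeakAssLib.mgerm_res F (inf_le_left : W ≤ U) hW s, theta_germ he hx F hW inf_le_right, msp_germ F h hW,
    theta_germ he _ F (h.mem_open W.2 hW) inf_le_right]
  exact msp_germ (CohB1.tensorMod F L) h hW _

/-- The stalk functor does not see the twist. -/
def twistStIso : twist L ⋙ St x ≅ St x :=
  NatIso.ofComponents (fun F => (theta he hx F).symm.toModuleIso) fun {F G} f => ModuleCat.hom_ext (LinearMap.ext fun z => by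
    obtain ⟨m, rfl⟩ := (theta he hx F).surjective z
    show (theta he hx G).symm (((St x).map ((twist L).map f)).hom (theta he hx F m)) =
      ((St x).map f).hom ((theta he hx F).symm (theta he hx F m))
    rw [theta_natural, LinearEquiv.symm_apply_apply, LinearEquiv.symm_apply_apply])

omit he hx

lemma exists_twistStIso (hL : PicF.IsInvertible L) (x : X) : Nonempty (twist L ⋙ St x ≅ St x) := by
  obtain ⟨A, e, hx, he⟩ := TMul.exists_isGen hL x
  exact ⟨twistStIso he hx⟩

lemma twist_shortExact (hL : PicF.IsInvertible L) {S : ShortComplex X.Modules} (hS : S.ShortExact) :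
    (S.map (twist L)).ShortExact := by
  have h : ∀ x, ((S.map (twist L)).map (St x)).ShortExact := fun x =>
    ShortComplex.shortExact_of_iso (S.mapNatIso (exists_twistStIso hL x).some).symm (hS.map_of_exact (St x))
  haveI : Mono (S.map (twist L)).f := Preadditive.mono_of_isZero_kernel _ ((K0Dev.isZero_iff_stalks _).2 fun x => by
    haveI : Mono ((St x).map (S.map (twist L)).f) := (h x).mono_f
    exact IsZero.of_mono_eq_zero ((St x).map (kernel.ι (S.map (twist L)).f))
      ((cancel_mono ((St x).map (S.map (twist L)).f)).1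
        (by rw [← Functor.map_comp, kernel.condition, Functor.map_zero, zero_comp])))
  haveI : Epi (S.map (twist L)).g := Preadditive.epi_of_isZero_cokernel _ ((K0Dev.isZero_iff_stalks _).2 fun x => by
    haveI : Epi ((St x).map (S.map (twist L)).g) := (h x).epi_g
    exact IsZero.of_epi_eq_zero ((St x).map (cokernel.π (S.map (twist L)).g))
      ((cancel_epi ((St x).map (S.map (twist L)).g)).1
        (by rw [← Functor.map_comp, cokernel.condition, Functor.map_zero, comp_zero])))
  refine { exact := ?_ }
  rw [ShortComplex.exact_iff_isZero_homology, K0Dev.isZero_iff_stalks]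
  exact fun x => ((ShortComplex.exact_iff_isZero_homology _).1 (h x).exact).of_iso
    ((S.map (twist L)).mapHomologyIso (St x)).symm

variable {δ : X → ℤ} {k : ℤ} [IsLocallyNoetherian X]

lemma cohLe_twist (hL : PicF.IsInvertible L) {F : X.Modules} (hF : Cyc.CohLe δ k F) :
    Cyc.CohLe δ k ((twist L).obj F) := by
  haveI : F.IsQuasicoherent := hF.1.1
  refine (cohLe_iff δ k).2 ⟨⟨TMul.isQCoh_tensor hL, TMul.isFT_tensor hL hF.1.2⟩, fun x hx => ?_⟩
  exact (((cohLe_iff δ k).1 hF).2 x hx).of_iso ((exists_twistStIso hL x).some.app F)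

lemma sheafFun_twist (hL : PicF.IsInvertible L) (F : X.Modules) :
    Cyc.sheafFun δ k ((twist L).obj F) = Cyc.sheafFun δ k F := by
  funext x
  unfold Cyc.sheafFun
  split
  · exact congrArg (fun n : ℕ∞ => ((n.toNat : ℕ) : ℤ))
      ((exists_twistStIso hL x).some.app F).toLinearEquiv.length_eq
  · rfl

/-- The twist preserves coproducts. -/
lemma nonempty_twist_sigma (hL : PicF.IsInvertible L) {ι : Type u} (N : ι → X.Modules) :
    Nonempty ((∐ fun i => (twist L).obj (N i)) ≅ (twist L).obj (∐ N)) := by
  haveI : IsIso (sigmaComparison (twist L) N) := KFlat.isIso_of_stalks _ fun x => by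
    haveI : PreservesColimit (Discrete.functor N) (twist L ⋙ St x) :=
      preservesColimit_of_natIso _ (exists_twistStIso hL x).some.symm
    have e : sigmaComparison (twist L ⋙ St x) N =
        sigmaComparison (St x) (fun i => (twist L).obj (N i)) ≫ (St x).map (sigmaComparison (twist L) N) := by
      refine Sigma.hom_ext _ _ fun i => ?_
      rw [ι_comp_sigmaComparison]
      refine Eq.symm ?_
      show Sigma.ι (fun b => (St x).obj ((twist L).obj (N b))) i ≫ _ ≫ _ = _
      rw [ι_comp_sigmaComparison_assoc, ← Functor.map_comp, ι_comp_sigmaComparison]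
      rfl
    haveI : IsIso (sigmaComparison (twist L ⋙ St x) N) := inferInstance
    haveI : IsIso (sigmaComparison (St x) (fun i => (twist L).obj (N i)) ≫ (St x).map (sigmaComparison (twist L) N)) :=
      e ▸ inferInstance
    exact IsIso.of_isIso_comp_left (sigmaComparison (St x) fun i => (twist L).obj (N i)) _
  exact ⟨asIso (sigmaComparison (twist L) N)⟩

end Groth.Agent.CycK0
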